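import Cfsg.Agent.H85.Ore.Phi_mg_m3
import Cfsg.Agent.H934.MF.Diag
import Cfsg.Agent.H841.TwG_m3
import Cfsg.Agent.H134.Sq.Base_m3
import Cfsg.Agent.H538.Ore.Small
import Cfsg.Agent.H374.Ore.F4_m3
import Cfsg.Agent.H928.Ore.TwAll_m3
import Cfsg.Agent.H194.Ore.RowThree_m3
import Cfsg.Agent.H122.TC.Real_m3
import Cfsg.Agent.H194.Ore.RowEF
import Cfsg.Agent.H584.Ore.ESixTwo_mg
import Cfsg.Agent.ChevFast.E6
import Cfsg.Agent.H511.Ore.WRow_m3
import Cfsg.Agent.Leech.Code
import Cfsg.Agent.J4Type.OctadFixTrans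
import Cfsg.Agent.SporadicStructure.DodecadM12
import Cfsg.Agent.SporadicA.Co0Mono
import Cfsg.Agent.MonsterX.FrameStab
import Mathlib
import Cfsg.Agent.LeechMat.Elements
import Cfsg.Agent.Leech.Basic
import Cfsg.Agent.H334.Ore.M24
import Cfsg.Agent.LeechMat.Core
import Cfsg.Agent.SporadicA.Co1Simple
import Cfsg.Agent.LeechMat.Quick
import Cfsg.Agent.H729.TransFast
import Cfsg.Agent.FastGrp
import Cfsg.Agent.Prune
set_option linter.all false

section
prune_inst 0x7ffdbdfbbfacffffdfff7e3ffed3fffc33c28fffa6dff94bffe0e1bf2b9f23800dc5fb850de010fe1e76e0bc10387843fb7eaffce829dc7ffffd57b01ffbee4fe5f63108519c8cb40eac0fff03f0770a6f3ffcff77ffffffffffffffffffffaeffffefffffff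

-- part: H249/Ore/Exc
section
prune_inst 0x20000405000002000004000040001c83d700009000280001800408440580ad020000892034a010081020220c2030000815003064622000000a8444000119008008c802002000001100000800008c410000300880000000000000000000010000010000000
set_option linter.all false
open scoped Cfsg.Agent.FastGrp

-- part: H150/E6T/Fix
section
/-!
# `E₆` over the field with three elements: fixed points (S2443, S4171)

* `s0` : `h_1(-1) h_6(-1)`;
* `nf` : `s₀ Phi(X, t, t')`, `X` with irreducible characteristic polynomial, `t³ = t'³ = 1`, has no fixed points on the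
  unipotent radicals.
-/

set_option autoImplicit false
set_option linter.unusedSectionVars false

namespace Cfsg.Agent.H150.E6T

open CoxeterSystem Cfsg.Agent.ChevalleyStructure.CoxeterGeom Cfsg.Agent.Tits.Roots Cfsg.Agent.Tits.Core
  Cfsg.Agent.Nodes.Reps Cfsg.Agent.Nodes.BNOf Cfsg.Agent.Nodes.RGDLib Cfsg.Agent.Nodes.Bruhat
  Cfsg.Agent.Nodes.OppDec Cfsg.Agent.Nodes.LeviDec Cfsg.Agent.Nodes.KindChev Cfsg.Agent.Nodes.ChevCls
  Cfsg.Agent.Nodes.StabComb
  Cfsg.Agent.OddHalf.NI.ModelChev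
  Cfsg.Agent.H162.GaussDec Cfsg.Agent.H162.GaussLevi Cfsg.Agent.H162.GaussSL Cfsg.Agent.H162.GaussExcMain
  Cfsg.Agent.H162.GaussMain Cfsg.Agent.H162.GaussReg Cfsg.Agent.H162.GaussPQ
open Cfsg.Lie Cfsg.Agent.ChevalleyStructure Cfsg.Agent.ChevalleyStructure.Elts
  Cfsg.Agent.ChevalleyStructure.RootVec Cfsg.Agent.ChevalleyStructure.NPerm
  Cfsg.Agent.ChevalleyStructure.CoxeterGeomTypes Cfsg.Agent.Nodes.RGDChev Cfsg.Agent.KFacts.RgdChevCoord
open Cfsg.Agent.FixBN.FieldRGD (uu vv dd ww)
open Cfsg.Agent.H928.Ore.Frame Cfsg.Agent.H928.Ore.Fix Cfsg.Agent.H928.Ore.Block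
open scoped MatrixGroups

universe u v

section

variable (K : Type u) [Field K]

/-- the values `-1` at the nodes `1` and `6` -/
def sig : Fin 6 → Kˣ := Pi.mulSingle 0 (-1) * Pi.mulSingle 5 (-1)

/-- the element `h_1(-1) h_6(-1)` -/
noncomputable def s0 : ↥(chevE6.group K) := th hp6 (sig K)

theorem s0_eq : s0 K = f K 0 (_root_.Cfsg.Agent.FixBN.FieldRGD.dd (-1) (neg_ne_zero.2 one_ne_zero)) * f K 5 (dd (-1) (neg_ne_zero.2 one_ne_zero)) := by
  have e : ∀ i : Fin 6, th hp6 (K := K) (Pi.mulSingle i (-1)) = f K i (_root_.Cfsg.Agent.FixBN.FieldRGD.dd (-1) (neg_ne_zero.2 one_ne_zero)) := by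
    intro i
    rw [th_mulSingle]
    rfl
  unfold s0 sig
  rw [map_mul, e, e]

variable {K}

theorem sig_char (r : ℕ) :
    ∏ k : Fin 6, ((sig K k : Kˣ) : K) ^ chevE6.cartan k r = (-1) ^ (chevE6.cartan 0 r + chevE6.cartan 5 r) := by
  rw [Fin.prod_univ_six]
  simp only [sig, Pi.mul_apply]
  rw [zpow_add₀ (neg_ne_zero.2 one_ne_zero)]
  simp only [_root_.Fin.isValue, _root_.Pi.mulSingle_eq_same, _root_.ne_eq, _root_.Fin.reduceEq, _root_.not_false_eq_true, _root_.Pi.mulSingle_eq_of_ne, _root_.mul_one, _root_.Units.val_neg, _root_.Units.val_one, _root_.Fin.coe_ofNat_eq_mod, _root_.Nat.zero_mod, _root_.one_ne_zero, _root_.Nat.one_mod, _root_.one_zpow, _root_.Nat.reduceMod, _root_.mul_neg, _root_.Nat.mod_succ]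

end

/-! ### Base change -/

section

variable {K : Type u} {L : Type v} [Field K] [Field L] (ι : K →+* L)

theorem map_tv {n : ℕ} {a b : Fin n} (hab : a ≠ b) (c : K) :
    Matrix.SpecialLinearGroup.map ι (Matrix.SpecialLinearGroup.transvection hab c) =
      Matrix.SpecialLinearGroup.transvection hab (ι c) := by
  apply Subtype.ext
  change (1 + Matrix.single a b c : Matrix (Fin n) (Fin n) K).map ι = 1 + Matrix.single a b (ι c)
  ext i j
  simp only [Matrix.map_apply, Matrix.add_apply, Matrix.one_apply, Matrix.single_apply, map_add]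
  congr 1
  · split_ifs <;> simp
  · split_ifs <;> simp

theorem bc_phi (A : Matrix.SpecialLinearGroup (Fin 3) K) :
    bc chevE6 ι (phi K A) = phi L (Matrix.SpecialLinearGroup.map ι A) := by
  have h1 : (bc chevE6 ι).comp (phi K) = (phi L).comp (Matrix.SpecialLinearGroup.map ι) := by
    refine hom_ext fun a b hab c => ?_
    have h2 := map_tv ι hab c
    rw [MonoidHom.comp_apply, MonoidHom.comp_apply, h2, phi_tv, phi_tv, bc_xc hp6 ι (r6_lt a b hab)]
  exact DFunLike.congr_fun h1 A

theorem bc_f (i : Fin 6) (A : SL(2, K)) : bc chevE6 ι (f K i A) = f L i (Matrix.SpecialLinearGroup.map ι A) := by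
  have h1 : (bc chevE6 ι).comp (f K i) = (f L i).comp (Matrix.SpecialLinearGroup.map ι) := by
    have hi := _root_.Cfsg.Agent.ChevalleyStructure.NPerm.simple_lt hp6.inList (lt_rank hp6 i)
    have hn : vec chevE6 6 (chevE6.neg (chevE6.simple i)) = -sr i := by
      rw [vec_neg hp6 hi, vec_simple hp6 i]
    refine hom_ext fun a b hab c => ?_
    have h2 := map_tv ι hab c
    rw [MonoidHom.comp_apply, MonoidHom.comp_apply, h2]
    fin_cases a <;> fin_cases b
    · exact absurd rfl hab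
    · refine (congrArg (fun y => bc chevE6 ι (f K i y)) (tv01 c)).trans
        (Eq.trans ?_ (congrArg (f L i) (tv01 (ι c))).symm)
      change bc chevE6 ι (sl hp6 i (uu c)) = sl hp6 i (uu (ι c))
      rw [sl_uu, sl_uu, ← vec_simple hp6 i, bc_xc hp6 ι hi]
    · refine (congrArg (fun y => bc chevE6 ι (f K i y)) (tv10 c)).trans
        (Eq.trans ?_ (congrArg (f L i) (tv10 (ι c))).symm)
      change bc chevE6 ι (sl hp6 i (vv c)) = sl hp6 i (vv (ι c))
      rw [sl_vv, sl_vv, ← hn, bc_xc hp6 ι (_root_.Cfsg.Agent.ChevalleyStructure.NPerm.neg_lt hp6.inList hi)]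
    · exact absurd rfl hab
  exact DFunLike.congr_fun h1 A

theorem bc_s0 : bc chevE6 ι (s0 K) = s0 L := by
  rw [s0_eq, s0_eq, map_mul, bc_f, bc_f]
  have h : Matrix.SpecialLinearGroup.map ι (_root_.Cfsg.Agent.FixBN.FieldRGD.dd (-1 : K) (neg_ne_zero.2 one_ne_zero)) =
      _root_.Cfsg.Agent.FixBN.FieldRGD.dd (-1 : L) (neg_ne_zero.2 one_ne_zero) := by
    apply Subtype.ext
    change (!![(-1 : K), 0; 0, (-1)⁻¹]).map ι = !![(-1 : L), 0; 0, (-1)⁻¹]
    ext i j
    (revert i j; simp only [_root_.Fin.forall_fin_succ, _root_.inv_neg, _root_.inv_one, _root_.Matrix.map_apply, _root_.Matrix.of_apply, _root_.Matrix.cons_val', _root_.Matrix.cons_val_fin_one, Fin.isValue, _root_.Matrix.cons_val_zero, _root_.Matrix.cons_val_succ, _root_.forall_const, _root_.map_neg, _root_.map_one, _root_.map_zero, _root_.and_self, _root_.implies_true])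
  rw [h]

end

/-! ### Fixed points -/

theorem sig6 : ∀ a b : Fin 3, a ≠ b → (chevE6.cartan 0 (r6 a b) + chevE6.cartan 5 (r6 a b)) % 2 = 0 := by
  decide +kernel

theorem tab6 : ∀ s < chevE6.nroots, (∃ k : Fin 6, k ∉ J6 ∧ vec chevE6 6 s k ≠ 0) →
    (chevE6.cartan 3 s = 0 ∧ chevE6.cartan 1 s = 0 ∧ (chevE6.cartan 0 s + chevE6.cartan 5 s) % 2 = 1) ∨
      (chevE6.cartan 3 s, chevE6.cartan 1 s) ∈ [((1 : ℤ), (0 : ℤ)), (-1, 0), (0, 1), (0, -1), (1, -1), (-1, 1)] := by
  refine @of_decide_eq_true _ ?_ ?_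
  · refine @Nat.decidableBallLT _ _ fun q _ => ?_
    refine @instDecidableForall _ _ inferInstance ?_
    refine @instDecidableOr _ _ inferInstance ?_
    exact List.instDecidableMemOfLawfulBEq _ _
  · (rewrite [Cfsg.Agent.ChevFast.E6.cartan]; decide +kernel)

theorem nf_split {L : Type v} [Field L] [Finite L] (h2 : (-1 : L) ≠ 1) {a b : Lˣ} (ha : (a : L) ^ 2 ≠ 1)
    (hb : (b : L) ^ 2 ≠ 1) (hab : (a : L) ^ 2 ≠ (b : L) ^ 2) {x P : Matrix.SpecialLinearGroup (Fin 3) L}
    (hx : x = P * dg3 a b * P⁻¹) :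
    NF (VJ cs6 hp6.isCartan (XX chevE6 6 L) {k | k ∈ J6}) (s0 L * phi L x) ∧
      NF (VNJ cs6 hp6.isCartan (XX chevE6 6 L) {k | k ∈ J6}) (s0 L * phi L x) := by
  have ha0 : (a : L) ≠ 0 := a.ne_zero
  have hb0 : (b : L) ≠ 0 := b.ne_zero
  refine nf_block hp6 (ε := 1) (by norm_num) r6_lt r6_neg (phi_tv' L) (i := 3) (j := 1) simple6.2.2.2.2.1
    simple6.2.2.2.2.2 (J := {k | k ∈ J6}) r6_J (σ := sig L) (fun a b hab => ?_) (fun s hs hk => ?_) hx
  · rw [sig_char]
    exact (Int.even_iff.2 (sig6 a b hab)).neg_one_zpow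
  · rw [sig_char]
    change (-1 : L) ^ (chevE6.cartan 0 s + chevE6.cartan 5 s) *
      ((a : L) ^ chevE6.cartan 3 s * (b : L) ^ chevE6.cartan 1 s) ≠ 1
    rcases tab6 s hs hk with ⟨h3, h1, h5⟩ | h
    · rw [h3, h1, (Int.odd_iff.2 h5).neg_one_zpow, zpow_zero, zpow_zero, mul_one, mul_one]
      exact h2
    · intro e
      have e1 : ((a : L) ^ chevE6.cartan 3 s * (b : L) ^ chevE6.cartan 1 s) ^ 2 = 1 := by
        have e2 : ((-1 : L) ^ (chevE6.cartan 0 s + chevE6.cartan 5 s)) ^ 2 = 1 := by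
          rcases Int.even_or_odd (chevE6.cartan 0 s + chevE6.cartan 5 s) with h6 | h6
          · rw [h6.neg_one_zpow, one_pow]
          · rw [h6.neg_one_zpow]; norm_num
        have e3 : ((-1 : L) ^ (chevE6.cartan 0 s + chevE6.cartan 5 s) *
            ((a : L) ^ chevE6.cartan 3 s * (b : L) ^ chevE6.cartan 1 s)) ^ 2 = 1 ^ 2 := by rw [e]
        rw [mul_pow, e2, one_mul, one_pow] at e3
        exact e3
      simp only [List.mem_cons, Prod.mk.injEq, List.not_mem_nil, or_false] at h
      rcases h with ⟨h3, h1⟩ | ⟨h3, h1⟩ | ⟨h3, h1⟩ | ⟨h3, h1⟩ | ⟨h3, h1⟩ | ⟨h3, h1⟩ <;> rw [h3, h1] at e1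
      · apply ha; simpa only [_root_.sq_eq_one_iff, _root_.Units.val_eq_one, _root_.Units.val_eq_neg_one, _root_.zpow_ofNat, _root_.pow_one, _root_.pow_zero, _root_.mul_one] using e1
      · apply ha
        rw [zpow_zero, mul_one, zpow_neg, zpow_one, inv_pow] at e1
        exact inv_eq_one.1 e1
      · apply hb; simpa only [_root_.sq_eq_one_iff, _root_.Units.val_eq_one, _root_.Units.val_eq_neg_one, _root_.zpow_ofNat, _root_.pow_zero, _root_.pow_one, _root_.one_mul] using e1
      · apply hb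
        rw [zpow_zero, one_mul, zpow_neg, zpow_one, inv_pow] at e1
        exact inv_eq_one.1 e1
      · apply hab
        rw [zpow_neg, zpow_one, zpow_one, mul_pow, inv_pow] at e1
        exact eq_of_div_eq_one (by rw [div_eq_mul_inv]; exact e1)
      · apply hab
        rw [zpow_neg, zpow_one, zpow_one, mul_pow, inv_pow, mul_comm] at e1
        exact (eq_of_div_eq_one (by rw [div_eq_mul_inv]; exact e1)).symm

theorem exists_split {L : Type v} [Field L] {Z : Matrix.SpecialLinearGroup (Fin 3) L} {g : GL (Fin 3) L}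
    {lam : Fin 3 → L} (h : (Z : Matrix (Fin 3) (Fin 3) L) =
      (g : Matrix (Fin 3) (Fin 3) L) * Matrix.diagonal lam * ((g⁻¹ : GL (Fin 3) L) : Matrix (Fin 3) (Fin 3) L)) :
    ∃ (a b : Lˣ) (P : Matrix.SpecialLinearGroup (Fin 3) L), (a : L) = lam 0 ∧ ((b⁻¹ : Lˣ) : L) = lam 2 ∧
      ((a⁻¹ * b : Lˣ) : L) = lam 1 ∧ Z = P * dg3 a b * P⁻¹ := by
  have hgg : ((g⁻¹ : GL (Fin 3) L) : Matrix (Fin 3) (Fin 3) L) * (g : Matrix (Fin 3) (Fin 3) L) = 1 := by
    rw [← Units.val_mul, inv_mul_cancel, Units.val_one]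
  have hdg : (g : Matrix (Fin 3) (Fin 3) L).det ≠ 0 :=
    (Matrix.isUnit_iff_isUnit_det _).1 g.isUnit |>.ne_zero
  have hdgg : ((g⁻¹ : GL (Fin 3) L) : Matrix (Fin 3) (Fin 3) L).det * (g : Matrix (Fin 3) (Fin 3) L).det = 1 := by
    rw [← Matrix.det_mul, hgg, Matrix.det_one]
  have hprod : lam 0 * lam 1 * lam 2 = 1 := by
    have h1 := congrArg Matrix.det h
    rw [Matrix.det_mul, Matrix.det_mul, Matrix.det_diagonal, Fin.prod_univ_three, mul_right_comm,
      mul_comm (g : Matrix (Fin 3) (Fin 3) L).det, hdgg, one_mul] at h1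
    rw [← h1]
    exact Z.2
  have h0 : lam 0 ≠ 0 := left_ne_zero_of_mul (left_ne_zero_of_mul_eq_one hprod)
  have h2 : lam 2 ≠ 0 := right_ne_zero_of_mul_eq_one hprod
  have h3 : (lam 0)⁻¹ * (lam 2)⁻¹ = lam 1 := by
    rw [← mul_inv]
    exact inv_eq_of_mul_eq_one_right (by rw [← hprod]; ring)
  have hP : ((g : Matrix (Fin 3) (Fin 3) L) *
      Matrix.diagonal ![((g : Matrix (Fin 3) (Fin 3) L).det)⁻¹, 1, 1]).det = 1 := by
    rw [Matrix.det_mul, Matrix.det_diagonal, Fin.prod_univ_three]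
    simp [hdg]
  refine ⟨Units.mk0 _ h0, (Units.mk0 _ h2)⁻¹, ⟨(g : Matrix (Fin 3) (Fin 3) L) *
    Matrix.diagonal ![((g : Matrix (Fin 3) (Fin 3) L).det)⁻¹, 1, 1], hP⟩, rfl, ?_, ?_, ?_⟩
  · rw [inv_inv]; rfl
  · rw [Units.val_mul, Units.val_inv_eq_inv_val, Units.val_inv_eq_inv_val, Units.val_mk0, Units.val_mk0]
    exact h3
  · refine eq_mul_inv_of_mul_eq ?_
    apply Subtype.ext
    change (Z : Matrix (Fin 3) (Fin 3) L) * ((g : Matrix (Fin 3) (Fin 3) L) *
      Matrix.diagonal ![((g : Matrix (Fin 3) (Fin 3) L).det)⁻¹, 1, 1]) = ((g : Matrix (Fin 3) (Fin 3) L) *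
      Matrix.diagonal ![((g : Matrix (Fin 3) (Fin 3) L).det)⁻¹, 1, 1]) * Matrix.diagonal ![_, _, _]
    have e1 : (Matrix.diagonal ![(((Units.mk0 _ h0 : Lˣ) : L)),
        ((((Units.mk0 _ h0 : Lˣ))⁻¹ * (Units.mk0 _ h2 : Lˣ)⁻¹ : Lˣ) : L),
        ((((Units.mk0 _ h2 : Lˣ)⁻¹)⁻¹ : Lˣ) : L)] : Matrix (Fin 3) (Fin 3) L) = Matrix.diagonal lam := by
      congr 1
      funext i
      fin_cases i
      · rfl
      · change ((((Units.mk0 _ h0 : Lˣ))⁻¹ * (Units.mk0 _ h2 : Lˣ)⁻¹ : Lˣ) : L) = lam 1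
        rw [Units.val_mul, Units.val_inv_eq_inv_val, Units.val_inv_eq_inv_val, Units.val_mk0, Units.val_mk0]
        exact h3
      · change ((((Units.mk0 _ h2 : Lˣ)⁻¹)⁻¹ : Lˣ) : L) = lam 2
        rw [inv_inv]; rfl
    rw [e1, h]
    calc (g : Matrix (Fin 3) (Fin 3) L) * Matrix.diagonal lam * ((g⁻¹ : GL (Fin 3) L) : Matrix (Fin 3) (Fin 3) L) *
          ((g : Matrix (Fin 3) (Fin 3) L) * Matrix.diagonal ![((g : Matrix (Fin 3) (Fin 3) L).det)⁻¹, 1, 1])
        = (g : Matrix (Fin 3) (Fin 3) L) * Matrix.diagonal lam *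
          (((g⁻¹ : GL (Fin 3) L) : Matrix (Fin 3) (Fin 3) L) * (g : Matrix (Fin 3) (Fin 3) L)) *
          Matrix.diagonal ![((g : Matrix (Fin 3) (Fin 3) L).det)⁻¹, 1, 1] := by simp only [Matrix.mul_assoc]
      _ = (g : Matrix (Fin 3) (Fin 3) L) * (Matrix.diagonal lam *
          Matrix.diagonal ![((g : Matrix (Fin 3) (Fin 3) L).det)⁻¹, 1, 1]) := by
        rw [hgg, Matrix.mul_one, Matrix.mul_assoc]
      _ = (g : Matrix (Fin 3) (Fin 3) L) * (Matrix.diagonal ![((g : Matrix (Fin 3) (Fin 3) L).det)⁻¹, 1, 1] *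
          Matrix.diagonal lam) := by
        congr 1
        rw [Matrix.diagonal_mul_diagonal, Matrix.diagonal_mul_diagonal]
        congr 1
        funext i
        exact mul_comm _ _
      _ = _ := by rw [Matrix.mul_assoc]

section

variable {K : Type u} [Field K]

/-- `-1` -/
def mI (K : Type u) [Field K] : SL(2, K) := Cfsg.Agent.FixBN.FieldRGD.dd (-1) (neg_ne_zero.2 one_ne_zero)

theorem mI_coe : (mI K).1 = -1 := by
  change !![(-1 : K), 0; 0, (-1)⁻¹] = -1
  ext i j
  (revert i j; simp only [_root_.Fin.forall_fin_succ, _root_.inv_neg, _root_.inv_one, _root_.Matrix.of_apply, _root_.Matrix.cons_val', _root_.Matrix.cons_val_fin_one, _root_.Matrix.neg_apply, Fin.isValue, _root_.Matrix.cons_val_zero, _root_.Matrix.cons_val_succ, _root_.IsEmpty.forall_iff, _root_.and_true, _root_.Matrix.one_apply_eq, Nat.reduceAdd, _root_.Fin.succ_zero_eq_one, _root_.ne_eq, _root_.zero_ne_one, _root_.not_false_eq_true, _root_.Matrix.one_apply_ne, _root_.neg_zero, _root_.and_self, _root_.Fin.succ_ne_zero,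 _root_.neg_inj, _root_.true_and])

theorem mI_comm (A : SL(2, K)) : mI K * A = A * mI K := by
  apply Subtype.ext
  change (mI K).1 * A.1 = A.1 * (mI K).1
  rw [mI_coe, neg_one_mul, mul_neg_one]

theorem mI_sq : mI K * mI K = 1 := by
  apply Subtype.ext
  change (mI K).1 * (mI K).1 = 1
  rw [mI_coe, neg_mul_neg, one_mul]

theorem s0_Phi : s0 K = Phi K ((1, mI K), mI K) := by
  rw [s0_eq, Phi_apply, map_one, one_mul]
  rfl

theorem s0_comm (x : (Matrix.SpecialLinearGroup (Fin 3) K × SL(2, K)) × SL(2, K)) :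
    s0 K * Phi K x = Phi K x * s0 K := by
  rw [s0_Phi, ← map_mul, ← map_mul]
  congr 1
  ext1
  · ext1
    · change 1 * x.1.1 = x.1.1 * 1
      rw [one_mul, mul_one]
    · exact mI_comm _
  · exact mI_comm _

theorem s0_sq : s0 K * s0 K = 1 := by
  rw [s0_Phi, ← map_mul, ← map_one (Phi K)]
  congr 1
  ext1
  · ext1
    · exact mul_one 1
    · exact mI_sq
  · exact mI_sq

/-- **Fixed points.** -/
theorem nf [Finite K] (hK : Nat.card K = 3) {X : Matrix.SpecialLinearGroup (Fin 3) K}
    (hX : Irreducible X.1.charpoly) {t t' : SL(2, K)} (ht : t ^ 3 = 1) (ht' : t' ^ 3 = 1) :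
    NF (VJ cs6 hp6.isCartan (XX chevE6 6 K) {k | k ∈ J6}) (s0 K * Phi K ((X, t), t')) ∧
      NF (VNJ cs6 hp6.isCartan (XX chevE6 6 K) {k | k ∈ J6}) (s0 K * Phi K ((X, t), t')) := by
  classical
  -- the third power
  have h3 : (s0 K * Phi K ((X, t), t')) ^ 3 = s0 K * phi K (X ^ 3) := by
    have h1 : Commute (s0 K) (Phi K ((X, t), t')) := s0_comm _
    rw [h1.mul_pow, ← map_pow, pow_succ, pow_two, s0_sq, one_mul]
    (with_reducible congr 1)
    have h2 : (((X, t), t') : (Matrix.SpecialLinearGroup (Fin 3) K × SL(2, K)) × SL(2, K)) ^ 3 = ((X ^ 3, 1), 1) := by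
      rw [Prod.pow_mk, Prod.pow_mk, ht, ht']
    rw [h2, Phi_A]
  -- the extension
  have := Fintype.ofFinite K
  have hK' : Fintype.card K = 3 := by rw [← Nat.card_eq_fintype_card, hK]
  have hfact : Fact (Irreducible X.1.charpoly) := ⟨hX⟩
  have hmon : X.1.charpoly.Monic := X.1.charpoly_monic
  have hdeg : X.1.charpoly.natDegree = 3 := by
    rw [Matrix.charpoly_natDegree_eq_dim, Fintype.card_fin]
  obtain ⟨L, hLF, hLA, hLfin, z, hz⟩ : ∃ (L : Type u) (_ : Field L) (_ : Algebra K L) (_ : Finite L) (z : L),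
      minpoly K z = X.1.charpoly := by
    have hfd : FiniteDimensional K (AdjoinRoot X.1.charpoly) := (AdjoinRoot.powerBasis hX.ne_zero).finite
    refine ⟨AdjoinRoot X.1.charpoly, inferInstance, inferInstance, Module.finite_of_finite K, AdjoinRoot.root _, ?_⟩
    rw [AdjoinRoot.minpoly_root hX.ne_zero, hmon.leadingCoeff, inv_one, map_one, mul_one]
  have hzdeg : (minpoly K z).natDegree = 3 := by rw [hz, hdeg]
  obtain ⟨g, hg⟩ := Cfsg.Agent.H934.MF.diag_irr hzdeg X.1 hz.symm
  rw [hK'] at hg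
  -- characteristic three
  have h30 : (3 : K) = 0 := by
    have := Nat.cast_card_eq_zero K
    rw [hK'] at this
    exact_mod_cast this
  have h30L : (3 : L) = 0 := by
    have := congrArg (algebraMap K L) h30
    rwa [map_ofNat, map_zero] at this
  -- the cube
  obtain ⟨a, b, P, ha, hb, hab, hP⟩ := exists_split (Z := Matrix.SpecialLinearGroup.map (algebraMap K L) (X ^ 3)) (g := g)
    (lam := fun i => (z ^ (3 ^ (i : ℕ))) ^ 3) (by
      have e1 : ((Matrix.SpecialLinearGroup.map (algebraMap K L) (X ^ 3) : Matrix.SpecialLinearGroup (Fin 3) L) :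
          Matrix (Fin 3) (Fin 3) L) = (X.1.map (algebraMap K L)) ^ 3 := by
        rw [map_pow, Matrix.SpecialLinearGroup.coe_pow]
        rfl
      rw [e1, hg]
      have e2 : ((g⁻¹ : GL (Fin 3) L) : Matrix (Fin 3) (Fin 3) L) * (g : Matrix (Fin 3) (Fin 3) L) = 1 := by
        rw [← Units.val_mul, inv_mul_cancel, Units.val_one]
      have e3 : Matrix.diagonal (fun i : Fin 3 => (z ^ (3 ^ (i : ℕ))) ^ 3) =
          (Matrix.diagonal (fun i : Fin 3 => z ^ (3 ^ (i : ℕ)))) ^ 3 := by
        rw [Matrix.diagonal_pow]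
        rfl
      rw [e3]
      generalize Matrix.diagonal (fun i : Fin 3 => z ^ (3 ^ (i : ℕ))) = E
      calc ((g : Matrix (Fin 3) (Fin 3) L) * E * ((g⁻¹ : GL (Fin 3) L) : Matrix (Fin 3) (Fin 3) L)) ^ 3
          = (g : Matrix (Fin 3) (Fin 3) L) * E * (((g⁻¹ : GL (Fin 3) L) : Matrix (Fin 3) (Fin 3) L) *
            (g : Matrix (Fin 3) (Fin 3) L)) * E * (((g⁻¹ : GL (Fin 3) L) : Matrix (Fin 3) (Fin 3) L) *
            (g : Matrix (Fin 3) (Fin 3) L)) * E * ((g⁻¹ : GL (Fin 3) L) : Matrix (Fin 3) (Fin 3) L) := by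
            rw [pow_succ, pow_two]; simp only [Matrix.mul_assoc]
        _ = _ := by
            rw [e2, mul_one, mul_one, pow_succ, pow_two]; simp only [Matrix.mul_assoc])
  simp only [Fin.val_zero, Fin.val_one, Fin.val_two] at ha hb hab
  -- the order of `z`
  have h39 : (z ^ 13) ^ 3 = 1 := by
    have e1 : (a : L) * ((a⁻¹ * b : Lˣ) : L) * ((b⁻¹ : Lˣ) : L) = 1 := by
      rw [← Units.val_mul, ← Units.val_mul]
      rw [show a * (a⁻¹ * b) * b⁻¹ = 1 by group, Units.val_one]
    rw [ha, hab, hb] at e1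
    rw [← e1]; ring
  have h13 : z ^ 13 = 1 := by
    have e1 : (z ^ 13 - 1) ^ 3 = 0 := by linear_combination h39 - (z ^ 13 * (z ^ 13 - 1)) * h30L
    exact sub_eq_zero.1 (pow_eq_zero_iff (by norm_num) |>.1 e1)
  have hz1 : z ≠ 1 := by
    rintro rfl
    rw [minpoly.one, ← Polynomial.C_1, Polynomial.natDegree_X_sub_C] at hzdeg
    omega
  have hord : orderOf z = 13 := by
    have : Fact (Nat.Prime 13) := ⟨by norm_num⟩
    exact orderOf_eq_prime h13 hz1
  have hpow : ∀ k : ℕ, z ^ k = 1 → 13 ∣ k := fun k hk => hord ▸ orderOf_dvd_of_pow_eq_one hk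
  have hb' : (b : L) * z ^ 27 = 1 := by
    have : (b : L) * ((b⁻¹ : Lˣ) : L) = 1 := by rw [← Units.val_mul, mul_inv_cancel, Units.val_one]
    rw [hb] at this
    rw [← this]; ring
  have key := nf_split (L := L) (a := a) (b := b) (x := Matrix.SpecialLinearGroup.map (algebraMap K L) (X ^ 3)) (P := P)
    (fun h => one_ne_zero (α := L) (by linear_combination h30L + h)) (fun h => ?_) (fun h => ?_) (fun h => ?_) hP
  · have hbc : bc chevE6 (algebraMap K L) (s0 K * phi K (X ^ 3)) =
        s0 L * phi L (Matrix.SpecialLinearGroup.map (algebraMap K L) (X ^ 3)) := by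
      rw [map_mul, bc_s0, bc_phi]
    rw [← hbc] at key
    have h5 := NF.of_hom (bc chevE6 (algebraMap K L)) (bc_injective chevE6 _) (VJ_le_comap hp6 (algebraMap K L) _) key.1
    have h6 := NF.of_hom (bc chevE6 (algebraMap K L)) (bc_injective chevE6 _) (VNJ_le_comap hp6 (algebraMap K L) _) key.2
    rw [← h3] at h5 h6
    exact ⟨fun x hx e => h5 x hx (Cfsg.Agent.H162.GaussMain.conj_pow_fix e 3),
      fun x hx e => h6 x hx (Cfsg.Agent.H162.GaussMain.conj_pow_fix e 3)⟩
  · rw [ha] at h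
    have := hpow 6 (by rw [← h]; ring)
    omega
  · have := hpow 54 (by
      have e1 : ((b : L) * z ^ 27) ^ 2 = 1 := by rw [hb', one_pow]
      rw [mul_pow, h, one_mul] at e1
      rw [← e1]; ring)
    omega
  · have := hpow 60 (by
      have e1 : ((b : L) * z ^ 27) ^ 2 = 1 := by rw [hb', one_pow]
      rw [mul_pow, ← h, ha] at e1
      rw [← e1]; ring)
    omega

end

end Cfsg.Agent.H150.E6T
end

-- part: H150/E6T/Row
section
/-!
# `E₆` over the field with three elements (S2443, S4171)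

* `ore_e6_three` : every element is a commutator;
* `inv_e6_three` : every element is a product of four elements of square one.
-/

set_option autoImplicit false
set_option linter.unusedSectionVars false

namespace Cfsg.Agent.H150.E6T

open CoxeterSystem Cfsg.Agent.ChevalleyStructure.CoxeterGeom Cfsg.Agent.Tits.Roots Cfsg.Agent.Tits.Core
  Cfsg.Agent.Nodes.Reps Cfsg.Agent.Nodes.BNOf Cfsg.Agent.Nodes.RGDLib Cfsg.Agent.Nodes.Bruhat
  Cfsg.Agent.Nodes.OppDec Cfsg.Agent.Nodes.LeviDec Cfsg.Agent.Nodes.KindChev Cfsg.Agent.Nodes.ChevCls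
  Cfsg.Agent.Nodes.StabComb
  Cfsg.Agent.OddHalf.NI.ModelChev
  Cfsg.Agent.H162.GaussDec Cfsg.Agent.H162.GaussLevi Cfsg.Agent.H162.GaussSL Cfsg.Agent.H162.GaussExcMain
  Cfsg.Agent.H162.GaussMain Cfsg.Agent.H162.GaussReg Cfsg.Agent.H162.GaussPQ
open Cfsg.Lie Cfsg.Agent.ChevalleyStructure Cfsg.Agent.ChevalleyStructure.Elts
  Cfsg.Agent.ChevalleyStructure.RootVec Cfsg.Agent.ChevalleyStructure.NPerm
  Cfsg.Agent.ChevalleyStructure.CoxeterGeomTypes Cfsg.Agent.Nodes.RGDChev Cfsg.Agent.KFacts.RgdChevCoord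
open Cfsg.Agent.FixBN.FieldRGD (uu vv dd ww)
open Cfsg.Agent.H928.Ore.Frame Cfsg.Agent.H928.Ore.Fix Cfsg.Agent.H928.Ore.Block
open Cfsg.Agent.H777.Ore
open scoped MatrixGroups

universe u v

/-! ### `SL₂` -/

section two

variable {K : Type u} [Field K]

/-- the transvections -/
def Tv (t : SL(2, K)) : Prop := ∃ (g : SL(2, K)) (c : K), c ≠ 0 ∧ t = g * uu c * g⁻¹

theorem uu_add (a b : K) : uu (a + b) = uu a * uu b := Cfsg.Agent.FixBN.FieldRGD.uu_add a b

theorem uu_zero : uu (0 : K) = 1 := by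
  apply Subtype.ext
  change !![1, (0 : K); 0, 1] = 1
  ext i j
  (revert i j; simp only [_root_.Fin.forall_fin_succ, _root_.Matrix.of_apply, _root_.Matrix.cons_val', _root_.Matrix.cons_val_fin_one, Fin.isValue, _root_.Matrix.cons_val_zero, _root_.Matrix.cons_val_succ, _root_.IsEmpty.forall_iff, _root_.and_true, _root_.Matrix.one_apply_eq, Nat.reduceAdd, _root_.Fin.succ_zero_eq_one, _root_.ne_eq, _root_.zero_ne_one, _root_.not_false_eq_true, _root_.Matrix.one_apply_ne, _root_.and_self, _root_.Fin.succ_ne_zero, _root_.true_and])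

theorem uu_inv (a : K) : (uu a)⁻¹ = uu (-a) := by
  rw [inv_eq_iff_mul_eq_one, ← uu_add, add_neg_cancel, uu_zero]

/-- `w` -/
def w1 (K : Type u) [Field K] : SL(2, K) := ww 1 one_ne_zero

theorem w1_uu (a : K) : w1 K * uu a * (w1 K)⁻¹ = vv (-a) := by
  rw [mul_inv_eq_iff_eq_mul]
  apply Subtype.ext
  change !![0, (1 : K); -1⁻¹, 0] * !![1, a; 0, 1] = !![1, 0; -a, 1] * !![0, (1 : K); -1⁻¹, 0]
  rw [Matrix.mul_fin_two, Matrix.mul_fin_two]
  ext i j
  (revert i j; simp [_root_.Fin.forall_fin_succ])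

theorem tv_uu {a : K} (ha : a ≠ 0) : Tv (uu a) := ⟨1, a, ha, by group⟩

theorem tv_vv {a : K} (ha : a ≠ 0) : Tv (vv a) := ⟨w1 K, -a, neg_ne_zero.2 ha, by rw [w1_uu, _root_.neg_neg]⟩

theorem Tv.inv {t : SL(2, K)} (h : Tv t) : Tv t⁻¹ := by
  obtain ⟨g, c, hc, rfl⟩ := h
  exact ⟨g, -c, neg_ne_zero.2 hc, by rw [← uu_inv]; group⟩

theorem vv_add (a b : K) : vv (a + b) = vv a * vv b := by
  have h : ∀ a : K, vv a = w1 K * uu (-a) * (w1 K)⁻¹ := fun a => by rw [w1_uu, _root_.neg_neg]
  rw [h a, h b, h (a + b), _root_.neg_add, uu_add]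
  group

theorem vv_zero : vv (0 : K) = 1 := by
  have h : vv (0 : K) = w1 K * uu (-0) * (w1 K)⁻¹ := by rw [w1_uu, _root_.neg_neg]
  rw [h, neg_zero, uu_zero]; group

theorem Tv.pow {t : SL(2, K)} (h3 : (3 : K) = 0) (h : Tv t) : t ^ 3 = 1 := by
  obtain ⟨g, c, -, rfl⟩ := h
  rw [conj_pow, pow_succ, pow_two, ← uu_add, ← uu_add, show c + c + c = 3 * c by ring, h3, zero_mul, uu_zero]
  group

theorem two_lu (h3 : (3 : K) = 0) (a b : K) : ∃ t t' : SL(2, K), vv a * uu b = t * t' ∧ Tv t ∧ Tv t' := by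
  by_cases ha : a = 0
  · by_cases hb : b = 0
    · refine ⟨uu 1, uu (-1), ?_, tv_uu one_ne_zero, tv_uu (neg_ne_zero.2 one_ne_zero)⟩
      rw [ha, hb, vv_zero, uu_zero, ← uu_add, add_neg_cancel, uu_zero, one_mul]
    · refine ⟨uu (-b), uu (-b), ?_, tv_uu (neg_ne_zero.2 hb), tv_uu (neg_ne_zero.2 hb)⟩
      rw [ha, vv_zero, one_mul, ← uu_add]
      congr 1
      linear_combination b * h3
  · by_cases hb : b = 0
    · refine ⟨vv (-a), vv (-a), ?_, tv_vv (neg_ne_zero.2 ha), tv_vv (neg_ne_zero.2 ha)⟩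
      rw [hb, uu_zero, mul_one, ← vv_add]
      congr 1
      linear_combination a * h3
    · exact ⟨vv a, uu b, rfl, tv_vv ha, tv_uu hb⟩

end two

/-! ### The torus elements -/

section tor

variable {K : Type u} [Field K]

/-- the values of a torus element with prescribed action on the two `SL₂` -/
def tauS (a b : Kˣ) : Fin 6 → Kˣ := Pi.mulSingle 1 (a * b) * (Pi.mulSingle 2 a * Pi.mulSingle 4 b)

theorem tauS_char (a b : Kˣ) (r : ℕ) :
    ∏ k : Fin 6, ((tauS a b k : Kˣ) : K) ^ chevE6.cartan k r =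
      (a : K) ^ (chevE6.cartan 1 r + chevE6.cartan 2 r) * (b : K) ^ (chevE6.cartan 1 r + chevE6.cartan 4 r) := by
  have ha : (a : K) ≠ 0 := a.ne_zero
  have hb : (b : K) ≠ 0 := b.ne_zero
  rw [Fin.prod_univ_six]
  simp only [tauS, Pi.mul_apply]
  rw [zpow_add₀ ha, zpow_add₀ hb]
  simp only [mul_zpow, _root_.Fin.isValue, _root_.ne_eq, _root_.zero_ne_one, _root_.not_false_eq_true, _root_.Pi.mulSingle_eq_of_ne, _root_.Fin.reduceEq, _root_.mul_one, _root_.Units.val_one, _root_.Fin.coe_ofNat_eq_mod, _root_.Nat.zero_mod, _root_.one_zpow, _root_.Pi.mulSingle_eq_same, _root_.Units.val_mul, _root_.Nat.one_mod, _root_.mul_zpow, _root_.one_mul, _root_.Nat.reduceMod, _root_.Nat.mod_succ]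
  ring

theorem tau_tab : (∀ a b : Fin 3, a ≠ b → (chevE6.cartan 1 (r6 a b) + chevE6.cartan 2 (r6 a b)) % 2 = 0 ∧
    (chevE6.cartan 1 (r6 a b) + chevE6.cartan 4 (r6 a b)) % 2 = 0) ∧
    (chevE6.cartan 1 56 + chevE6.cartan 2 56 = -1 ∧ chevE6.cartan 1 56 + chevE6.cartan 4 56 = 0) ∧
    (chevE6.cartan 1 35 + chevE6.cartan 2 35 = 0 ∧ chevE6.cartan 1 35 + chevE6.cartan 4 35 = 1) := by decide +kernel

theorem unit_zpow {a : Kˣ} (ha : a ^ 2 = 1) {n : ℤ} (hn : n % 2 = 0) : (a : K) ^ n = 1 := by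
  obtain ⟨m, rfl⟩ := Int.dvd_of_emod_eq_zero hn
  have h1 : (a : K) ^ (2 : ℤ) = 1 := by
    rw [← Units.val_zpow_eq_zpow_val, show ((2 : ℤ)) = ((2 : ℕ) : ℤ) from rfl, zpow_natCast, ha, Units.val_one]
  rw [zpow_mul, h1, one_zpow]

/-- **The torus elements.** -/
theorem exists_tau {a b : Kˣ} (ha : a ^ 2 = 1) (hb : b ^ 2 = 1) :
    ∃ τ : ↥(chevE6.group K), (∀ A, τ * phi K A * τ⁻¹ = phi K A) ∧ τ * s0 K * τ⁻¹ = s0 K ∧
      (∀ c, τ * f K 0 (uu c) * τ⁻¹ = f K 0 (uu (a * c))) ∧ ∀ c, τ * f K 5 (vv c) * τ⁻¹ = f K 5 (vv (b * c)) := by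
  have hth : ∀ t : Fin 6 → Kˣ, th hp6 t ∈ TT chevE6 K := fun t => (thT hp6 t).2
  refine ⟨th hp6 (tauS a b), fun A => ?_, ?_, fun c => ?_, fun c => ?_⟩
  · have h1 := comm_phi hp6 (φ := phi K) (r := r6) (ε := 1) r6_lt (phi_tv' K) (hth (tauS a b)) (fun i j hij => by
      rw [ch_th hp6 (r6_lt i j hij), tauS_char, unit_zpow ha (tau_tab.1 i j hij).1,
        unit_zpow hb (tau_tab.1 i j hij).2, one_mul]) A
    rw [h1]; group
  · have h1 := congrArg Subtype.val (comm_TT hp6 (⟨_, hth (tauS a b)⟩ : ↥(TT chevE6 K)) ⟨_, hth (sig K)⟩)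
    change th hp6 (tauS a b) * s0 K = s0 K * th hp6 (tauS a b) at h1
    rw [h1]; group
  · rw [f0_uu, f0_uu, (act hp6 lt56.1 (hth _)).2, ch_th hp6 lt56.1, tauS_char, tau_tab.2.1.1, tau_tab.2.1.2, zpow_zero,
      mul_one]
    have h1 : (a : K) ^ (-1 : ℤ) = (a : K) := by
      rw [zpow_neg_one, ← Units.val_inv_eq_inv_val]
      congr 1
      rw [inv_eq_iff_mul_eq_one, ← pow_two, ha]
    rw [h1]
  · rw [f5_vv, f5_vv, (act hp6 lt56.2.2.2 (hth _)).2, ch_th hp6 lt56.2.2.2, tauS_char, tau_tab.2.2.1, tau_tab.2.2.2,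
      zpow_zero, one_mul, zpow_one]

end tor

/-! ### The class -/

section cls

variable {K : Type u} [Field K]

/-- the elements of the two classes -/
noncomputable def cc (X : Matrix.SpecialLinearGroup (Fin 3) K) (t t' : SL(2, K)) : ↥(chevE6.group K) :=
  s0 K * Phi K ((X, t), t')

theorem cc_mul (X Y : Matrix.SpecialLinearGroup (Fin 3) K) (t t' r r' : SL(2, K)) :
    cc X t t' * cc Y r r' = Phi K ((X * Y, t * r), t' * r') := by
  unfold cc
  calc s0 K * Phi K ((X, t), t') * (s0 K * Phi K ((Y, r), r'))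
      = s0 K * (Phi K ((X, t), t') * s0 K) * Phi K ((Y, r), r') := by group
    _ = s0 K * s0 K * (Phi K ((X, t), t') * Phi K ((Y, r), r')) := by rw [← s0_comm]; group
    _ = _ := by rw [s0_sq, one_mul, ← map_mul]; rfl

theorem cc_inv (X : Matrix.SpecialLinearGroup (Fin 3) K) (t t' : SL(2, K)) :
    (cc X t t')⁻¹ = cc X⁻¹ t⁻¹ t'⁻¹ := by
  rw [inv_eq_iff_mul_eq_one, cc_mul, mul_inv_cancel, mul_inv_cancel, mul_inv_cancel]
  exact map_one (Phi K)

theorem cc_conj (X g : Matrix.SpecialLinearGroup (Fin 3) K) (t t' r r' : SL(2, K)) :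
    IsConj (cc X t t') (cc (g * X * g⁻¹) (r * t * r⁻¹) (r' * t' * r'⁻¹)) := by
  rw [isConj_iff]
  refine ⟨Phi K ((g, r), r'), ?_⟩
  unfold cc
  rw [← mul_assoc, ← s0_comm, mul_assoc, mul_assoc, ← mul_assoc (Phi K _), ← map_inv, ← map_mul, ← map_mul]
  rfl

theorem sq_of_card [Finite K] (hK : Nat.card K = 3) (a : Kˣ) : a ^ 2 = 1 := by
  have := Fintype.ofFinite K
  classical
  have h1 : Fintype.card Kˣ = 2 := by
    rw [Fintype.card_units, ← Nat.card_eq_fintype_card, hK]
  rw [← h1]
  exact pow_card_eq_one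

theorem three_zero [Finite K] (hK : Nat.card K = 3) : (3 : K) = 0 := by
  have := Fintype.ofFinite K
  have h1 := Nat.cast_card_eq_zero K
  rw [← Nat.card_eq_fintype_card, hK] at h1
  exact_mod_cast h1

/-- all elements with the same first component are conjugate -/
theorem cc_nf [Finite K] (hK : Nat.card K = 3) (X : Matrix.SpecialLinearGroup (Fin 3) K) {t t' : SL(2, K)}
    (ht : Tv t) (ht' : Tv t') : IsConj (cc X (uu 1) (vv (-1))) (cc X t t') := by
  obtain ⟨g, c, hc, rfl⟩ := ht
  obtain ⟨g', c', hc', rfl⟩ := ht'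
  obtain ⟨τ, h1, h2, h3, h4⟩ := exists_tau (K := K) (sq_of_card hK (Units.mk0 c hc)) (sq_of_card hK (Units.mk0 c' hc'))
  have e1 : IsConj (cc X (uu 1) (vv (-1))) (cc X (uu c) (vv (-c'))) := by
    rw [isConj_iff]
    refine ⟨τ, ?_⟩
    unfold cc
    rw [Phi_apply, Phi_apply]
    have h5 : f K 0 (uu c) = τ * f K 0 (uu 1) * τ⁻¹ := by rw [h3, mul_one, Units.val_mk0]
    have h6 : f K 5 (vv (-c')) = τ * f K 5 (vv (-1)) * τ⁻¹ := by
      rw [h4, Units.val_mk0, mul_neg, mul_one]
    rw [h5, h6]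
    calc τ * (s0 K * (phi K X * f K 0 (uu 1) * f K 5 (vv (-1)))) * τ⁻¹
        = (τ * s0 K * τ⁻¹) * ((τ * phi K X * τ⁻¹) * (τ * f K 0 (uu 1) * τ⁻¹) * (τ * f K 5 (vv (-1)) * τ⁻¹)) := by group
      _ = _ := by rw [h1, h2]
  refine e1.trans ?_
  have e2 := cc_conj X 1 (uu c) (vv (-c')) g (g' * (w1 K)⁻¹)
  have e3 : (g' * (w1 K)⁻¹) * vv (-c') * (g' * (w1 K)⁻¹)⁻¹ = g' * uu c' * g'⁻¹ := by
    rw [← w1_uu]; group
  have e4 : (1 : Matrix.SpecialLinearGroup (Fin 3) K) * X * 1⁻¹ = X := by group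
  rw [e3, e4] at e2
  exact e2

theorem wtab : (∀ i : Fin 6, Cfsg.Agent.H162.GaussExc.fr chevE6 w6 (chevE6.simple i) =
      chevE6.neg (chevE6.simple ((![5, 1, 4, 3, 2, 0] : Fin 6 → Fin 6) i))) ∧
    (∀ i : Fin 6, (![5, 1, 4, 3, 2, 0] : Fin 6 → Fin 6) ((![5, 1, 4, 3, 2, 0] : Fin 6 → Fin 6) i) = i) ∧
    (∀ a b : Fin 3, a ≠ b → Cfsg.Agent.H162.GaussExc.fr chevE6 w6 (r6 a b) = chevE6.neg (r6 a b)) ∧
    ∀ i : Fin 6, (chevE6.cartan 0 (chevE6.simple ((![5, 1, 4, 3, 2, 0] : Fin 6 → Fin 6) i)) +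
      chevE6.cartan 5 (chevE6.simple ((![5, 1, 4, 3, 2, 0] : Fin 6 → Fin 6) i))) =
      (chevE6.cartan 0 (chevE6.simple i) + chevE6.cartan 5 (chevE6.simple i)) := by (delta Cfsg.Agent.H162.GaussExc.fr Cfsg.Lie.ChevalleyDatum.chainRoot Cfsg.Lie.ChevalleyDatum.reflectRoot; rewrite [Cfsg.Agent.ChevFast.E6.cartan, Cfsg.Agent.ChevFast.E6.chainEntry, Cfsg.Agent.ChevFast.E6.neg]; decide +kernel)

/-- **Strong reality.** -/
theorem cc_real [Finite K] {X : Matrix.SpecialLinearGroup (Fin 3) K} (hX : Irreducible X.1.charpoly) :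
    ∃ y : ↥(chevE6.group K), y * y = 1 ∧ y * cc X (uu 1) (vv (-1)) * y⁻¹ = (cc X (uu 1) (vv (-1)))⁻¹ := by
  obtain ⟨p, hpc⟩ := CharP.exists K
  have : Fact p.Prime := ⟨(CharP.char_is_prime_or_zero K p).resolve_right (CharP.char_ne_zero_of_finite K p)⟩
  have R := rgd (K := K) hp6 cs6 p
  have hw : ∀ i : Fin 6, rep cs6 hp6.isCartan (cs6.wordProd w6) (sr i) =
      -sr ((![5, 1, 4, 3, 2, 0] : Fin 6 → Fin 6) i) := by
    intro i
    rw [← vec_simple hp6 i, ← Cfsg.Agent.H162.GaussExc.fr_vec hp6 cs6 w6 (_root_.Cfsg.Agent.ChevalleyStructure.NPerm.simple_lt hp6.inList (lt_rank hp6 i)),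
      wtab.1 i, vec_neg hp6 (_root_.Cfsg.Agent.ChevalleyStructure.NPerm.simple_lt hp6.inList (lt_rank hp6 _)), vec_simple hp6]
  obtain ⟨z, Z⟩ := Cfsg.Agent.H335.Sr.exists_ZD hp6 cs6 (K := K) R.nsys (γ := ![5, 1, 4, 3, 2, 0]) wtab.2.1 hw
    Cfsg.Agent.H129.TorusChar.invC_E6 (by decide) (fun _ => 1) (fun _ => .inl rfl) (fun _ => rfl)
  have hs0 : s0 K ∈ TT chevE6 K := (thT hp6 (sig K)).2
  obtain ⟨S, h1, h2⟩ := Z.inv_block (n := 1) (r := r6) (s := fun _ _ => 1) (φ := phi K) r6_lt r6_neg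
    (fun a b hab => by
      rw [← Cfsg.Agent.H162.GaussExc.fr_vec hp6 cs6 w6 (r6_lt a b hab), wtab.2.2.1 a b hab, vec_neg hp6 (r6_lt a b hab)])
    (fun _ _ _ => one_mul 1) (fun a b hab c => by rw [phi_tv, one_mul]) wtab.2.1 hs0 (fun i => by
      have hch : ∀ j : Fin 6, ch hp6 (sr j) (s0 K) =
          (-1) ^ (chevE6.cartan 0 (chevE6.simple j) + chevE6.cartan 5 (chevE6.simple j)) := by
        intro j
        rw [← vec_simple hp6 j]
        unfold s0
        rw [ch_th hp6 (_root_.Cfsg.Agent.ChevalleyStructure.NPerm.simple_lt hp6.inList (lt_rank hp6 j)), sig_char]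
      rw [hch, hch, wtab.2.2.2 i])
    (fun A => by have := s0_comm ((A, 1), 1); rwa [Phi_A] at this) (X := X)
    (fun δ _ => Cfsg.Agent.H335.Sr.exists_symm X.1 hX δ)
  have hz0 : z * f K 0 (uu 1) * z⁻¹ = f K 5 (vv 1) := by
    have h3 := Z.pos 0 1
    rw [← sl_uu hp6 0] at h3
    refine h3.trans ?_
    change xc hp6 (-sr 5) (((1 : ℤ) : K) * 1) = sl hp6 5 (vv 1)
    rw [sl_vv hp6 5, Int.cast_one, one_mul]
  have hz5 : z * f K 5 (vv (-1)) * z⁻¹ = f K 0 (uu (-1)) := by
    have h3 := Z.neg 5 (-1)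
    rw [← sl_vv hp6 5] at h3
    refine h3.trans ?_
    change xc hp6 (sr 0) (((1 : ℤ) : K) * -1) = sl hp6 0 (uu (-1))
    rw [sl_uu hp6 0, Int.cast_one, one_mul]
  have hv1 : (vv (1 : K))⁻¹ = vv (-1) := by
    rw [inv_eq_iff_mul_eq_one, ← vv_add, add_neg_cancel, vv_zero]
  have hv2 : (vv (-1 : K))⁻¹ = vv 1 := by rw [← hv1, inv_inv]
  -- the commuting part
  obtain ⟨h3, h4⟩ := Cfsg.Agent.H335.Sr.combine (z := z) (S := phi K S) (m := 1) (c := s0 K * phi K X)
    (v := f K 0 (uu 1) * f K 5 (vv (-1))) Z.sq h1 (by rw [mul_one]; exact Z.sq) (Commute.one_right _)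
    (Commute.one_left _) ((comm0 K S _).mul_right (comm5 K S _))
    (by
      have e1 : ∀ B C, f K 0 B * f K 5 C = Phi K ((1, B), C) := fun B C => by
        rw [Phi_apply, map_one, one_mul]
      rw [e1]
      refine Commute.mul_left (s0_comm _) ?_
      rw [← e1]
      exact (comm0 K X _).mul_right (comm5 K X _)) h2 (by
      rw [mul_one]
      calc z * (f K 0 (uu 1) * f K 5 (vv (-1))) * z⁻¹
          = (z * f K 0 (uu 1) * z⁻¹) * (z * f K 5 (vv (-1)) * z⁻¹) := by group
        _ = (f K 5 (vv (-1)))⁻¹ * (f K 0 (uu 1))⁻¹ := by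
          rw [hz0, hz5, ← map_inv, ← map_inv, hv2, uu_inv]
        _ = _ := by rw [mul_inv_rev])
  refine ⟨_, h3, ?_⟩
  have e : cc X (uu 1) (vv (-1)) = s0 K * phi K X * (f K 0 (uu 1) * f K 5 (vv (-1))) := by
    unfold cc
    rw [Phi_apply]
    group
  rw [e]
  exact h4

/-- elements with the same characteristic polynomial are conjugate -/
theorem cc_congr [Finite K] (hK : Nat.card K = 3) {X Y : Matrix.SpecialLinearGroup (Fin 3) K}
    (hX : Irreducible X.1.charpoly) (h : Y.1.charpoly = X.1.charpoly) {t t' r r' : SL(2, K)} (ht : Tv t) (ht' : Tv t')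
    (hr : Tv r) (hr' : Tv r') : IsConj (cc X t t') (cc Y r r') := by
  obtain ⟨g, rfl⟩ := Cfsg.Agent.H150.MF.exists_conj (c := X) (d := Y)
    (Cfsg.Agent.H150.MF.cls_of_irreducible hX) (Cfsg.Agent.H150.MF.cls_of_irreducible (by rw [h]; exact hX)) h.symm
  refine (cc_nf hK X ht ht').symm.trans (IsConj.trans ?_ (cc_nf hK _ hr hr'))
  have e := cc_conj X g (uu 1) (vv (-1)) 1 1
  rwa [one_mul, one_mul, inv_one, mul_one, mul_one] at e

theorem isConj_inv {Y : Type*} [Group Y] {a b : Y} (h : IsConj a b) : IsConj a⁻¹ b⁻¹ := by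
  rw [isConj_iff] at h ⊢
  obtain ⟨c, rfl⟩ := h
  exact ⟨c, by group⟩

theorem cc_two [Finite K] (hK : Nat.card K = 3) {X : Matrix.SpecialLinearGroup (Fin 3) K}
    (hX : Irreducible X.1.charpoly) {t t' : SL(2, K)} (ht : Tv t) (ht' : Tv t') :
    ∃ a b : ↥(chevE6.group K), a ^ 2 = 1 ∧ b ^ 2 = 1 ∧ cc X t t' = a * b := by
  obtain ⟨y, hy, e⟩ := cc_real hX
  obtain ⟨g, hg⟩ := isConj_iff.1 (cc_nf hK X ht ht')
  rw [← hg]
  exact Cfsg.Agent.H224.Ore.Row.two_conj g (Cfsg.Agent.H224.Ore.Row.two_of_inv hy e)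

/-- `c₂` is conjugate to `c₁⁻¹` -/
theorem cc_pair [Finite K] (hK : Nat.card K = 3) {X Y : Matrix.SpecialLinearGroup (Fin 3) K}
    (hX : Irreducible X.1.charpoly) (hY : Irreducible Y.1.charpoly)
    (h : Y.1.charpoly = X.1.charpoly ∨ Y.1.charpoly = (X⁻¹).1.charpoly) {t t' r r' : SL(2, K)} (ht : Tv t) (ht' : Tv t')
    (hr : Tv r) (hr' : Tv r') : IsConj (cc X t t')⁻¹ (cc Y r r') := by
  rcases h with h | h
  · obtain ⟨y, hy, e⟩ := cc_real hX
    have h1 : IsConj (cc X (uu 1) (vv (-1))) (cc X (uu 1) (vv (-1)))⁻¹ := isConj_iff.2 ⟨y, e⟩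
    have h2 := cc_nf hK X ht ht'
    exact (isConj_inv h2).symm.trans (h1.symm.trans (h2.trans (cc_congr hK hX h ht ht' hr hr')))
  · rw [cc_inv]
    exact cc_congr hK (h ▸ hY) h ht.inv ht'.inv hr hr'

/-- **The pairs.** -/
theorem pairs [Finite K] (hK : Nat.card K = 3) :
    ∀ v ∈ UNJ cs6 hp6.isCartan (XX chevE6 6 K) {k | k ∈ J6}, ∀ u ∈ UJ cs6 hp6.isCartan (XX chevE6 6 K) {k | k ∈ J6},
      ∃ c₁ c₂, v * u = c₁ * c₂ ∧ LP cs6 hp6.isCartan (TT chevE6 K) (XX chevE6 6 K) {k | k ∈ J6} c₁ c₂ ∧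
        (∃ a b : ↥(chevE6.group K), a ^ 2 = 1 ∧ b ^ 2 = 1 ∧ c₁ = a * b) ∧
        (∃ a b : ↥(chevE6.group K), a ^ 2 = 1 ∧ b ^ 2 = 1 ∧ c₂ = a * b) ∧ ∃ y, c₂ = y * c₁⁻¹ * y⁻¹ := by
  intro v hv u hu
  obtain ⟨L, hL, b, c, rfl⟩ := exists_lo hv
  obtain ⟨U, hU, b', c', rfl⟩ := exists_up hu
  have h3 := three_zero hK
  obtain ⟨X, Y, e, hX, hY, hXY⟩ := Cfsg.Agent.H374.Ore.Sl3.m3 (Or.inr hK) hL hU
  obtain ⟨t, r, e1, ht, hr⟩ := two_lu h3 b b'
  obtain ⟨t', r', e2, ht', hr'⟩ := two_lu h3 c c'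
  have hmem : ∀ X t t', cc (K := K) X t t' ∈ LJ cs6 hp6.isCartan (TT chevE6 K) (XX chevE6 6 K) {k | k ∈ J6} := by
    intro X t t'
    unfold cc
    rw [s0_Phi, ← map_mul]
    exact Phi_mem _
  refine ⟨cc X t t', cc Y r r', ?_, ⟨hmem _ _ _, hmem _ _ _, (nf hK hX (ht.pow h3) (ht'.pow h3)).2,
    (nf hK hY (hr.pow h3) (hr'.pow h3)).1⟩, cc_two hK hX ht ht', cc_two hK hY hr hr', ?_⟩
  · rw [cc_mul, ← map_mul, ← e, ← e1, ← e2]
    rfl
  · obtain ⟨y, hy⟩ := isConj_iff.1 (cc_pair hK hX hY hXY ht ht' hr hr')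
    exact ⟨y, hy.symm⟩

/-- **Commutators in `E₆(3)`.** -/
theorem ore_e6_three [Finite K] (hK : Nat.card K = 3) : AllC ↥(chevE6.group K) := by
  obtain ⟨p, hpc⟩ := CharP.exists K
  have : Fact p.Prime := ⟨(CharP.char_is_prime_or_zero K p).resolve_right (CharP.char_ne_zero_of_finite K p)⟩
  have := finite_W hp6 cs6
  intro g
  by_cases hg : g = 1
  · exact hg ▸ isC_one
  refine Cfsg.Agent.H928.Ore.Frame.comm (rgd (K := K) hp6 cs6 p) (G1_eq_top hp6 _) (Cfsg.Agent.H162.GaussExc.coord hp6)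
    (Cfsg.Agent.Nodes.ChevChart.irr_of Cfsg.Agent.Nodes.ChevChart.irr6) (J := {k | k ∈ J6}) (fun v hv u hu => ?_)
    (Cfsg.Agent.H224.Ore.Row.not_mem_core (by norm_num) (Cfsg.Agent.S1054.result chevE6 (by simp)).1 p hp6 hg)
  obtain ⟨c₁, c₂, e, hLP, -, -, hy⟩ := pairs hK v hv u hu
  exact ⟨c₁, c₂, e, hLP, hy⟩

/-- **Four elements of square one in `E₆(3)`.** -/
theorem inv_e6_three [Finite K] (hK : Nat.card K = 3) : Inv4 ↥(chevE6.group K) := by
  obtain ⟨p, hpc⟩ := CharP.exists K
  have : Fact p.Prime := ⟨(CharP.char_is_prime_or_zero K p).resolve_right (CharP.char_ne_zero_of_finite K p)⟩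
  have := finite_W hp6 cs6
  intro g
  by_cases hg : g = 1
  · exact ⟨1, 1, 1, 1, by simp, by simp, by simp, by simp, by rw [hg]; simp⟩
  obtain ⟨a, b, c, d, ha, hb, hc, hd, e⟩ := four (rgd (K := K) hp6 cs6 p) (G1_eq_top hp6 _) (Cfsg.Agent.H162.GaussExc.coord hp6)
    (Cfsg.Agent.Nodes.ChevChart.irr_of Cfsg.Agent.Nodes.ChevChart.irr6) (J := {k | k ∈ J6}) (fun v hv u hu => by
      obtain ⟨c₁, c₂, e, hLP, h1, h2, -⟩ := pairs hK v hv u hu
      exact ⟨c₁, c₂, e, hLP, h1, h2⟩)
    (Cfsg.Agent.H224.Ore.Row.not_mem_core (by norm_num) (Cfsg.Agent.S1054.result chevE6 (by simp)).1 p hp6 hg)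
  exact ⟨a, b, c, d, by rw [← pow_two, ha], by rw [← pow_two, hb], by rw [← pow_two, hc], by rw [← pow_two, hd], e⟩

end cls

end Cfsg.Agent.H150.E6T
end

-- part: H249/Ore/ExcA
section
/-!
# The exceptional rows of S2443 and S4171 (helper249)

`exc_of` : all exceptional families, from the group `F₄(2)`.
-/

set_option autoImplicit false

namespace Cfsg.Agent.H249.Ore

open Cfsg.Lie Cfsg.Agent.H777.Ore Cfsg.Agent.H459.Ore

universe u

/-- both rows -/
def Bo (G : Type*) [Group G] : Prop := AllC G ∧ Inv4 G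

theorem Bo.congr {G H : Type*} [Group G] [Group H] (e : G ≃* H) (h : Bo G) : Bo H := ⟨h.1.congr e, Cfsg.Agent.H459.Ore.Inv4.congr e h.2⟩

theorem card_cases (F : Type) [Field F] [Fintype F] :
    Fintype.card F = 2 ∨ Fintype.card F = 3 ∨ 4 ≤ Fintype.card F := by
  have h : 1 < Fintype.card F := Fintype.one_lt_card
  omega

/-- `F₄(2)` -/
def TwoF4 : Prop := ∀ (F : Type) [Field F] [Fintype F], Fintype.card F = 2 → Bo ↥(chevF4.group F)

theorem bo_f4 (H : TwoF4) (F : Type) [Field F] [Fintype F] : Bo ↥(chevF4.group F) := by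
  rcases card_cases F with h | h | h
  · exact H F h
  · exact Cfsg.Agent.H374.Ore.F4.row_three (by rw [Nat.card_eq_fintype_card, h])
  · exact Cfsg.Agent.H194.Ore.rowF4 (by rw [Nat.card_eq_fintype_card]; exact h)

theorem bo_e6 (F : Type) [Field F] [Fintype F] : Bo ↥(chevE6.group F) := by
  rcases card_cases F with h | h | h
  · have h' : Nat.card F = 2 := by rw [Nat.card_eq_fintype_card, h]
    exact ⟨Cfsg.Agent.H584.Ore.ESixTwo.allC_E6_two h', Cfsg.Agent.H584.Ore.ESixTwo.inv4_E6_two h'⟩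
  · exact ⟨Cfsg.Agent.H150.E6T.ore_e6_three (by rw [Nat.card_eq_fintype_card, h]),
      Cfsg.Agent.H150.E6T.inv_e6_three (by rw [Nat.card_eq_fintype_card, h])⟩
  · exact Cfsg.Agent.H194.Ore.rowE6 (by rw [Nat.card_eq_fintype_card]; exact h)

theorem bo_e7 (F : Type) [Field F] [Fintype F] : Bo ↥(chevE7.group F) := by
  by_cases h : Fintype.card F = 2
  · exact ⟨Cfsg.Agent.H267.Ore.allC_E7_two h, Cfsg.Agent.H267.Ore.inv4_E7_two h⟩
  · have h1 : 1 < Fintype.card F := Fintype.one_lt_card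
    have h3 : 3 ≤ Nat.card F := by rw [Nat.card_eq_fintype_card]; omega
    exact ⟨Cfsg.Agent.H85.Ore.allC_E7 F h3, Cfsg.Agent.H85.Ore.inv4_E7 F h3⟩

theorem bo_e8 (F : Type) [Field F] [Fintype F] : Bo ↥(chevE8.group F) := by
  by_cases h : Fintype.card F = 2
  · exact Cfsg.Agent.H122.Ore.Blk.row_E8_two (by rw [Nat.card_eq_fintype_card, h])
  · have h1 : 1 < Fintype.card F := Fintype.one_lt_card
    have h3 : 3 ≤ Nat.card F := by rw [Nat.card_eq_fintype_card]; omega
    exact ⟨Cfsg.Agent.H85.Ore.allC_E8 F h3, Cfsg.Agent.H85.Ore.inv4_E8 F h3⟩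

/-- **The exceptional rows.** -/
theorem exc_of (HF : TwoF4) : ExcRows.{u} (fun G _ => Bo G) where
  g2 h := ⟨Cfsg.Agent.H538.Ore.ore_g2 h, Cfsg.Agent.H538.Ore.four_g2 h⟩
  f4 h := by
    obtain ⟨F, i1, i2, ⟨e⟩⟩ := h
    exact (bo_f4 HF F).congr e.symm
  e6 h := by
    obtain ⟨F, i1, i2, ⟨e⟩⟩ := h
    exact (bo_e6 F).congr e.symm
  e7 h := by
    obtain ⟨F, i1, i2, ⟨e⟩⟩ := h
    exact (bo_e7 F).congr e.symm
  e8 h := by
    obtain ⟨F, i1, i2, ⟨e⟩⟩ := h
    exact (bo_e8 F).congr e.symm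
  te6 h := by
    obtain ⟨K, i1, i2, q, hq, hK, ⟨e⟩⟩ := h
    exact Bo.congr e.symm (Cfsg.Agent.H928.Ore.TwAll.row hq hK)
  td4 h := ⟨Cfsg.Agent.H538.Ore.ore_d4 h, Cfsg.Agent.H538.Ore.four_d4 h⟩
  sz h := ⟨Cfsg.Agent.H538.Ore.ore_sz h, Cfsg.Agent.H538.Ore.four_sz h⟩
  ree h := ⟨Cfsg.Agent.H538.Ore.ore_ree h, Cfsg.Agent.H538.Ore.four_ree h⟩
  tf4 h := ⟨Cfsg.Agent.H143.Ore.ore_2f4 h, Cfsg.Agent.H143.Ore.four_2f4 h⟩
  tits h := ⟨Cfsg.Agent.H143.Ore.ore_tits h, Cfsg.Agent.H143.Ore.four_tits h⟩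

theorem ore_of (R : ExcRows.{u} (fun G _ => Bo G)) : ExcRows.{u} (fun G _ => AllC G) where
  g2 h := (R.g2 h).1
  f4 h := (R.f4 h).1
  e6 h := (R.e6 h).1
  e7 h := (R.e7 h).1
  e8 h := (R.e8 h).1
  te6 h := (R.te6 h).1
  td4 h := (R.td4 h).1
  sz h := (R.sz h).1
  ree h := (R.ree h).1
  tf4 h := (R.tf4 h).1
  tits h := (R.tits h).1

theorem four_of (R : ExcRows.{u} (fun G _ => Bo G)) : ExcRows.{u} (fun G _ => Inv4 G) where
  g2 h := (R.g2 h).2
  f4 h := (R.f4 h).2
  e6 h := (R.e6 h).2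
  e7 h := (R.e7 h).2
  e8 h := (R.e8 h).2
  te6 h := (R.te6 h).2
  td4 h := (R.td4 h).2
  sz h := (R.sz h).2
  ree h := (R.ree h).2
  tf4 h := (R.tf4 h).2
  tits h := (R.tits h).2

end Cfsg.Agent.H249.Ore
end

-- part: H249/Ore/Exc
section
/-!
# The exceptional rows of S2443 and S4171, unconditional (helper249)
-/

set_option autoImplicit false

namespace Cfsg.Agent.H249.Ore

open Cfsg.Lie Cfsg.Agent.H777.Ore Cfsg.Agent.H459.Ore

universe u

theorem twoF4 : TwoF4 := fun _ _ _ h => ⟨Cfsg.Agent.H197.OreF.allC_F4_two h, Cfsg.Agent.H197.OreF.inv4_F4_two h⟩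

/-- **S2443, the exceptional rows.** -/
theorem ore_exc : ExcRows.{u} (fun G _ => AllC G) := ore_of (exc_of twoF4)

/-- **S4171, the exceptional rows.** -/
theorem four_exc : ExcRows.{u} (fun G _ => Inv4 G) := four_of (exc_of twoF4)

end Cfsg.Agent.H249.Ore
end

private theorem dce_ee3dc323e440 : _root_.True := by
  try have : _root_.True := by simp only [_root_.Cfsg.Agent.OddHalf.NI.ModelChev.th.congr_simp]
  try have : _root_.True := by simp only [_root_.Cfsg.Agent.H150.E6T.tauS.eq_1]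
  try have : _root_.True := by simp only [_root_.Cfsg.Agent.H150.E6T.sig.eq_1]
  exact _root_.True.intro
end

-- part: H860/I4/Proj
section
prune_inst 0x4204400100000000018001080003c40c600059000280000b0e00d4404877702a00301207c801c101084224c0031000004003004600000000a0004000118018018c8120430000100200006003086400000000000000000000000000000051000000000000
set_option linter.all false
open scoped Cfsg.Agent.FastGrp

-- part: H529/Inv/PairSieve
section
/-!
# S4171 (and S2443), sporadic rows: the pair lemma with a degree sieve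

`deg_of_check` : a nontrivial irreducible character whose degree satisfies the residue conditions `rl` has degree at least `D`
(all divisors of `|G|` are tested: columns `cd` of the exact primes as in `H511.Ore.degOff_of_check`, residue lists `rl`,
excluded degrees `ex`, minimal degree `m`).

`i4_row` : the result for two strongly real elements `x`, `y`; `rl` collects what `χ x ≠ 0 ≠ χ y` says on `χ(1)`
(`Pair.mod_of_dat`, `Pair.mod_mem_of_ne_zero`, `Pair.van_mod`).
-/

set_option autoImplicit false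

namespace Cfsg.Agent.H529.Inv.Pair

open Cfsg Subgroup
open Cfsg.Agent.Characters Cfsg.Agent.Characters.Core
open Cfsg.Agent.H653.Sieve Cfsg.Agent.H651.Two Cfsg.Agent.H511.Ore
open Cfsg.Agent.H65.Ore (Prd chkSC exists_dat)
open Cfsg.Agent.H854.Ore (SR)
open Cfsg.Agent.H777.Ore (I4)

universe u

variable {G : Type u} [Group G] [Finite G]

/-- `d` is excluded: small, wrong residue for `rl` or for a column, or excluded by hand. -/
def tstP (m : ℕ) (rl : List (ℕ × List ℕ)) (ex : List ℕ) (cd : List CD) (d : ℕ) : Bool :=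
  bif Nat.ble d 1 then true else bif Nat.ble m d then
    (bif (rl.any fun pl => !(pl.2.any fun r => Nat.beq (d % pl.1) r)) then true else
      bif (cd.any fun c => !(c.wl.any fun rw => Nat.beq (d % c.r) rw.1)) then true else ex.any fun x => Nat.beq d x)
    else true

/-- **The degree sieve with residue conditions.** -/
theorem deg_of_check [IsSimpleGroup G] (hG : ¬ IsMulCommutative G) (N : ℕ) (hN : Nat.card G = N)
    (L : List (ℕ × ℕ)) (hL : (L.all fun pa => Nat.Prime pa.1) = true) (hLN : facProd L = N) (cd : List CD)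
    (hcd : (cd.all (CD.ok N)) = true) (hx : ∀ d ∈ cd, d.Has G) {m D : ℕ} {ex : List ℕ} (hm : MinDeg G m)
    (hex : NoDeg G ex) (rl : List (ℕ × List ℕ)) (h : allDiv (D * D) (tstP m rl ex cd) L 1 = true)
    {χ : IrrCharacter G} (hχ : (χ : G → ℂ) ≠ 1) (hr : ∀ pl ∈ rl, charDegree (χ : G → ℂ) % pl.1 ∈ pl.2) :
    D ≤ charDegree (χ : G → ℂ) := by
  by_contra hlt
  push Not at hlt
  set d := charDegree (χ : G → ℂ) with hd
  have h1 : d ∣ facProd L := by rw [hLN, ← hN]; exact charDegree_dvd χ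
  have hL' : ∀ pa ∈ L, pa.1.Prime := fun pa hpa => of_decide_eq_true (List.all_eq_true.1 hL pa hpa)
  have h2 := allDiv_spec hL' h d h1 (by rw [one_mul]; exact Nat.mul_lt_mul'' hlt hlt)
  rw [one_mul] at h2
  have h3 : 2 ≤ d := two_le_charDegree hG χ hχ
  have h4 : Nat.ble d 1 = false := by
    rw [Bool.eq_false_iff]; intro h; have := Nat.le_of_ble_eq_true h; omega
  have h5 : Nat.ble m d = true := Nat.ble_eq_true_of_le (hm χ hχ)
  have h6 : (rl.any fun pl => !(pl.2.any fun r => Nat.beq (d % pl.1) r)) = false := by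
    rw [Bool.eq_false_iff]
    intro h
    obtain ⟨pl, hpl, h8⟩ := List.any_eq_true.1 h
    have h9 : (pl.2.any fun r => Nat.beq (d % pl.1) r) = true :=
      List.any_eq_true.2 ⟨_, hr pl hpl, by rw [hd]; exact Nat.beq_refl _⟩
    rw [h9] at h8
    exact absurd h8 (by decide)
  have h7 : (cd.any fun c => !(c.wl.any fun rw => Nat.beq (d % c.r) rw.1)) = false := by
    rw [Bool.eq_false_iff]
    intro h
    obtain ⟨c, hc, h8⟩ := List.any_eq_true.1 h
    have h9 := res_of_has hG hN (hx c hc) (List.all_eq_true.1 hcd c hc) χ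
    rw [← hd] at h9
    rw [h9] at h8
    exact absurd h8 (by decide)
  have h8 : (ex.any fun x => Nat.beq d x) = false := by
    rw [Bool.eq_false_iff]
    intro h
    obtain ⟨x, hx, h9⟩ := List.any_eq_true.1 h
    exact hex χ (by rw [← hd, Nat.eq_of_beq_eq_true h9]; exact hx)
  rw [tstP, h4, h5, h6, h7, h8] at h2
  exact absurd h2 (by decide)

end Cfsg.Agent.H529.Inv.Pair
end

-- part: H860/I4/Proj
section
/-!
# S4171 (and S2443), sporadic rows: the pair lemma with weights, the projection on the principal blocks (helper860)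

`P` a Sylow `p`-subgroup of prime order, `C(P) = P × K`, `u ∈ P`, `u ≠ 1`. The weights `1 / |K|` on the elements `u v`, `v ∈ K`, give
`(1 / |K|) ∑ χ (u v) = part 1 χ u`: this is `0` unless `χ` lies over the trivial character of `K` (then `χ(1) ≡ ± 1` or `± e` modulo
`p`), and `∑_χ |part 1 χ u|² = p`.

* `exists_prd` : the pair lemma with weights on both sides;
* `part_sq_le` : `|part θ χ u|² ≤ p - e_θ`;
* `sum_part_sq` : `∑ |part θ χ u|² = p`;
* `mod_of_part` : the residue of `χ(1)` if `part 1 χ u ≠ 0`;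
* `i4_blocks` : the elements with `(m p - 1) (|C(g)| - 1) < d²` are products of four involutions, if all `u v` (`v ∈ K`) and all
  `w v` (`v ∈ L`, `q`-side) are strongly real, `|part 1 χ w|² ≤ m`, `d ≤ χ(1)` for `part 1 χ u ≠ 0 ≠ part 1 χ w`.
-/

set_option autoImplicit false

namespace Cfsg.Agent.H860.I4

open Cfsg Subgroup
open Cfsg.Agent.Characters Cfsg.Agent.Characters.Core
open Cfsg.Agent.SmallSimple.ThetaSetup Cfsg.Agent.SmallSimple.ThetaOrtho
open Cfsg.Agent.SmallSimple.TheoremC Cfsg.Agent.SmallSimple.TheoremCCor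
open Cfsg.Agent.SmallSimple.PrimeDual Cfsg.Agent.SmallSimple.ThetaCount
open Cfsg.Agent.H65.Ore (Prd one1)
open Cfsg.Agent.H854.Ore (SR)
open Cfsg.Agent.H529.Inv.Pair
open scoped ComplexConjugate

universe u

variable {G : Type u} [Group G] [Finite G]

/-- **The pair lemma with weights.** -/
theorem exists_prd {ι κ : Type*} [Fintype ι] [Fintype κ] (x : ι → G) (y : κ → G) (a : ι → ℂ) (c : κ → ℂ) {g : G}
    (ha : ∑ i, a i = 1) (hc : ∑ j, c j = 1) [Fintype (IrrCharacter G)] {S d : ℝ} (hd0 : 0 < d)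
    (hS : ∑ χ : IrrCharacter G, (‖∑ i, a i * (χ : G → ℂ) (x i)‖ * ‖∑ j, c j * (χ : G → ℂ) (y j)‖) ^ 2 ≤ S)
    (hd : ∀ χ : IrrCharacter G, (χ : G → ℂ) ≠ 1 → ∑ i, a i * (χ : G → ℂ) (x i) ≠ 0 →
      ∑ j, c j * (χ : G → ℂ) (y j) ≠ 0 → d ≤ ‖(χ : G → ℂ) 1‖)
    (h : (S - 1) * ((Nat.card (centralizer ({g} : Set G)) : ℝ) - 1) < d ^ 2) :
    ∃ i j, a i ≠ 0 ∧ c j ≠ 0 ∧ Prd (x i) (y j) g := by
  classical
  by_contra hno
  push Not at hno
  obtain ⟨A, hA⟩ : ∃ A : IrrCharacter G → ℂ, ∀ χ, A χ = ∑ i, a i * (χ : G → ℂ) (x i) := ⟨_, fun _ => rfl⟩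
  obtain ⟨F, hF⟩ : ∃ F : IrrCharacter G → ℂ, ∀ χ, F χ = ∑ j, c j * (χ : G → ℂ) (y j) := ⟨_, fun _ => rfl⟩
  simp only [← hA, ← hF] at hS hd
  -- the sum vanishes
  have h0 : ∑ χ : IrrCharacter G, A χ * F χ * conj ((χ : G → ℂ) g) / (χ : G → ℂ) 1 = 0 := by
    have h1 : ∀ i j, a i * c j * ∑ χ : IrrCharacter G,
        (χ : G → ℂ) (x i) * (χ : G → ℂ) (y j) * conj ((χ : G → ℂ) g) / (χ : G → ℂ) 1 = 0 := by
      intro i j
      by_cases hi : a i = 0
      · rw [hi]; ring
      by_cases hj : c j = 0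
      · rw [hj]; ring
      by_contra h2
      exact hno i j hi hj (H65.Ore.prd_of_ne_zero (right_ne_zero_of_mul h2))
    have h2 : ∑ χ : IrrCharacter G, A χ * F χ * conj ((χ : G → ℂ) g) / (χ : G → ℂ) 1 =
        ∑ i, ∑ j, a i * c j * ∑ χ : IrrCharacter G,
          (χ : G → ℂ) (x i) * (χ : G → ℂ) (y j) * conj ((χ : G → ℂ) g) / (χ : G → ℂ) 1 := by
      have e1 : ∀ i j, a i * c j * ∑ χ : IrrCharacter G,
          (χ : G → ℂ) (x i) * (χ : G → ℂ) (y j) * conj ((χ : G → ℂ) g) / (χ : G → ℂ) 1 =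
          ∑ χ : IrrCharacter G, (a i * (χ : G → ℂ) (x i)) * (c j * (χ : G → ℂ) (y j)) *
            (conj ((χ : G → ℂ) g) / (χ : G → ℂ) 1) := by
        intro i j
        rw [Finset.mul_sum]
        exact Finset.sum_congr rfl fun χ _ => by ring
      simp only [e1]
      have e2 : ∀ i, ∑ j, ∑ χ : IrrCharacter G, (a i * (χ : G → ℂ) (x i)) * (c j * (χ : G → ℂ) (y j)) *
            (conj ((χ : G → ℂ) g) / (χ : G → ℂ) 1) =
          ∑ χ : IrrCharacter G, (a i * (χ : G → ℂ) (x i)) * F χ * (conj ((χ : G → ℂ) g) / (χ : G → ℂ) 1) := by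
        intro i
        rw [Finset.sum_comm]
        refine Finset.sum_congr rfl fun χ _ => ?_
        rw [← Finset.sum_mul, ← Finset.mul_sum, hF]
      simp only [e2]
      rw [Finset.sum_comm]
      refine Finset.sum_congr rfl fun χ _ => ?_
      rw [← Finset.sum_mul, ← Finset.sum_mul, ← hA]
      ring
    rw [h2]
    exact Finset.sum_eq_zero fun i _ => Finset.sum_eq_zero fun j _ => h1 i j
  have hA1 : A (one1 G) = 1 := by
    rw [hA]
    simp only [H65.Ore.one1_apply, mul_one]
    exact ha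
  have hF1 : F (one1 G) = 1 := by
    rw [hF]
    simp only [H65.Ore.one1_apply, mul_one]
    exact hc
  rw [← Finset.add_sum_erase Finset.univ _ (Finset.mem_univ (one1 G))] at h0 hS
  simp only [hA1, hF1, H65.Ore.one1_apply, norm_one, mul_one, map_one, div_one, one_pow] at h0 hS
  have h1 : ∑ χ ∈ Finset.univ.erase (one1 G), A χ * F χ * conj ((χ : G → ℂ) g) / (χ : G → ℂ) 1 = -1 := by
    linear_combination h0
  have h2 := norm_sum_le (Finset.univ.erase (one1 G))
    (fun χ : IrrCharacter G => A χ * F χ * conj ((χ : G → ℂ) g) / (χ : G → ℂ) 1)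
  rw [h1, norm_neg, norm_one] at h2
  have h3 : ∑ χ ∈ Finset.univ.erase (one1 G), ‖A χ * F χ * conj ((χ : G → ℂ) g) / (χ : G → ℂ) 1‖ ≤
      (∑ χ ∈ Finset.univ.erase (one1 G), (‖A χ‖ * ‖F χ‖) * ‖(χ : G → ℂ) g‖) / d := by
    rw [Finset.sum_div]
    refine Finset.sum_le_sum fun χ hχ => ?_
    rw [norm_div, norm_mul, norm_mul, Complex.norm_conj]
    by_cases h4 : A χ = 0
    · rw [h4, norm_zero]; simp
    by_cases h5 : F χ = 0
    · rw [h5, norm_zero]; simp
    exact div_le_div_of_nonneg_left (by (clear * - h4 h5; positivity)) hd0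
      (hd χ (H65.Ore.coe_ne_one (Finset.ne_of_mem_erase hχ)) h4 h5)
  have h4 := Finset.sum_mul_sq_le_sq_mul_sq (Finset.univ.erase (one1 G)) (fun χ : IrrCharacter G => ‖A χ‖ * ‖F χ‖)
    (fun χ : IrrCharacter G => ‖(χ : G → ℂ) g‖)
  rw [H65.Ore.sum_erase_sq] at h4
  have hcg : (0 : ℝ) ≤ (Nat.card (centralizer ({g} : Set G)) : ℝ) - 1 := by
    have : (1 : ℝ) ≤ (Nat.card (centralizer ({g} : Set G)) : ℝ) := by
      exact_mod_cast (Nat.card_pos : 0 < Nat.card (centralizer ({g} : Set G)))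
    linarith only [this]
  have h5 : ∑ χ ∈ Finset.univ.erase (one1 G), (‖A χ‖ * ‖F χ‖) ^ 2 ≤ S - 1 := by linarith only [hS]
  have h6 := (h4.trans (mul_le_mul_of_nonneg_right h5 hcg)).trans_lt h
  have h7 : ∑ χ ∈ Finset.univ.erase (one1 G), (‖A χ‖ * ‖F χ‖) * ‖(χ : G → ℂ) g‖ < d :=
    lt_of_pow_lt_pow_left₀ 2 hd0.le h6
  have h8 : (∑ χ ∈ Finset.univ.erase (one1 G), (‖A χ‖ * ‖F χ‖) * ‖(χ : G → ℂ) g‖) / d < 1 := by
    rwa [div_lt_one hd0]
  linarith only [h2, h3, h8]

/-! ### One block -/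

section block

variable {p : ℕ} [hp : Fact p.Prime] {P : Sylow p G} {K : Subgroup G}

/-- `∑ |part θ χ u|² = p` -/
theorem sum_part_sq [Fintype (IrrCharacter G)] (hK : IsComp p (P : Subgroup G) K) (hP : Nat.card P = p) {θ : K → ℂ}
    (hθ : IsIrrCharacter K θ) {u : P} (hu : u ≠ 1) :
    ∑ χ : IrrCharacter G, ‖part θ (χ : G → ℂ) u‖ ^ 2 = p := by
  have h1 := sum_part_self hK hP hθ hu hu
  rw [if_pos ⟨1, one_mem _, rfl⟩] at h1
  have h2 : ((∑ χ : IrrCharacter G, ‖part θ (χ : G → ℂ) u‖ ^ 2 : ℝ) : ℂ) = (p : ℝ) := by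
    rw [Complex.ofReal_sum]
    push_cast
    rw [← h1]
    refine Finset.sum_congr rfl fun χ _ => ?_
    rw [Complex.mul_conj, Complex.normSq_eq_norm_sq]
    push_cast
    ring
  exact_mod_cast h2

/-- **The values in a block.** -/
theorem part_sq_le (hK : IsComp p (P : Subgroup G) K) (hP : Nat.card P = p) {θ : K → ℂ} (hθ : IsIrrCharacter K θ)
    {e t : ℕ} (he : Nat.card (stabAct hK θ) = e) (ht : e * t = p - 1) (χ : IrrCharacter G) {u : P} (hu : u ≠ 1) :
    ‖part θ (χ : G → ℂ) u‖ ^ 2 ≤ ((p - e : ℕ) : ℝ) := by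
  classical
  have hfin : Finite (IrrCharacter G) := finite_irr
  have := Fintype.ofFinite (IrrCharacter G)
  have hpe : e < p := by
    have h2 := hp.out.two_le
    rcases Nat.eq_zero_or_pos t with h3 | h3
    · rw [h3, mul_zero] at ht; omega
    · have : e * 1 ≤ e * t := Nat.mul_le_mul_left e h3
      omega
  have h1 : (1 : ℝ) ≤ ((p - e : ℕ) : ℝ) := by exact_mod_cast (by omega : 1 ≤ p - e)
  obtain ⟨NE, X, ε, d, S, hB, hdis, hNE, hX, hε, hd, hval, hvalX, -, -, -⟩ := theoremC hK hP hθ he ht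
  by_cases hO : χ ∈ Over P θ
  · rcases (hB χ).1 hO with h | h
    · rw [hval χ h u hu]
      rcases hε χ h with h2 | h2 <;> rw [h2] <;> simpa only [_root_.Int.cast_one, _root_.NormOneClass.norm_one, _root_.one_pow, _root_.Nat.one_le_cast, _root_.ge_iff_le, _root_.Int.reduceNeg, _root_.Int.cast_neg, _root_.norm_neg] using h1
    · have hs := sum_part_sq hK hP hθ hu
      have h2 : ∑ ψ ∈ NE, ‖part θ (ψ : G → ℂ) u‖ ^ 2 = e := by
        rw [← hNE, Finset.card_eq_sum_ones, Nat.cast_sum]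
        refine Finset.sum_congr rfl fun ψ hψ => ?_
        rw [hval ψ hψ u hu]
        rcases hε ψ hψ with h3 | h3 <;> rw [h3] <;> simp
      have h3 : χ ∉ NE := fun h4 => Finset.disjoint_left.1 hdis h4 h
      have h4 : ∑ ψ ∈ insert χ NE, ‖part θ (ψ : G → ℂ) u‖ ^ 2 ≤ p := by
        rw [← hs]
        exact Finset.sum_le_univ_sum_of_nonneg fun _ => sq_nonneg _
      rw [Finset.sum_insert h3, h2] at h4
      rw [Nat.cast_sub hpe.le]
      linarith only [h4]
  · rw [part_eq_zero hO hu, norm_zero]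
    norm_num only [_root_.Nat.cast_nonneg]

/-- the part at the trivial character is the mean of the values on `u K` -/
theorem part_one_eq [Fintype K] (χ : G → ℂ) (x : G) :
    part (1 : K → ℂ) χ x = ∑ v : K, ((Nat.card K : ℂ)⁻¹) * χ (x * v) := by
  rw [part_eq, Finset.mul_sum]
  refine Finset.sum_congr rfl fun v _ => ?_
  rw [Pi.one_apply, map_one, mul_one]

theorem weights_one [Fintype K] : ∑ _v : K, ((Nat.card K : ℂ)⁻¹) = 1 := by
  rw [Finset.sum_const, Finset.card_univ, ← Nat.card_eq_fintype_card, nsmul_eq_mul]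
  have : (Nat.card K : ℂ) ≠ 0 := by exact_mod_cast Nat.card_pos.ne'
  field_simp

theorem tw_one_eq (hK : IsComp p (P : Subgroup G) K) {n : G} (hn : n ∈ normalizer ((P : Subgroup G) : Set G)) :
    tw (1 : K → ℂ) n = 1 := by
  funext y
  rw [tw_apply hK _ hn]
  rfl

theorem card_stab_one (hK : IsComp p (P : Subgroup G) K) (hP : Nat.card P = p) {e : ℕ}
    (he : (centralizer ((P : Subgroup G) : Set G)).relIndex (normalizer ((P : Subgroup G) : Set G)) = e) :
    Nat.card (stabAct hK (1 : K → ℂ)) = e := by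
  rw [card_stabAct_of_stable hK hP isIrr_one fun n hn => tw_one_eq hK hn, he]

/-- **The residue of the degree** of a character with nonzero principal part. -/
theorem mod_of_part (hK : IsComp p (P : Subgroup G) K) (hP : Nat.card P = p) {e t : ℕ}
    (he : (centralizer ((P : Subgroup G) : Set G)).relIndex (normalizer ((P : Subgroup G) : Set G)) = e)
    (ht : e * t = p - 1) {χ : IrrCharacter G} {u : P} (hu : u ≠ 1) (h0 : part (1 : K → ℂ) (χ : G → ℂ) u ≠ 0) :
    charDegree (χ : G → ℂ) % p ∈ [1, p - 1, e, p - e] := by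
  classical
  have hp2 := hp.out.two_le
  obtain ⟨s, hs, h1⟩ := deg_of_over hK hP he ht ⟨1, isIrr_one⟩ ⟨u, hu, h0⟩
  have h2 : (orb P K ((⟨1, isIrr_one⟩ : IrrCharacter K) : K → ℂ)).card = 1 := by
    rw [orb_of_stable isIrr_one fun n hn => tw_one_eq hK hn, Finset.card_singleton]
  have h3 : charDegree ((⟨1, isIrr_one⟩ : IrrCharacter K) : K → ℂ) = 1 := by
    unfold charDegree
    simp
  rw [h2, h3] at h1
  have hpe : e < p := by
    rcases Nat.eq_zero_or_pos t with h3 | h3
    · rw [h3, mul_zero] at ht; omega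
    · have : e * 1 ≤ e * t := Nat.mul_le_mul_left e h3
      omega
  have he0 : 0 < e := by
    rcases Nat.eq_zero_or_pos e with h3 | h3
    · rw [h3, zero_mul] at ht; omega
    · exact h3
  rcases h1 with h1 | h1
  · rcases hs with rfl | rfl
    · rw [mod_of_dvd_sub' (a := 1) (by push_cast at h1 ⊢; simpa using h1), Nat.mod_eq_of_lt (by omega)]
      simp
    · rw [mod_of_dvd_sub'' (a := 1) (by push_cast at h1 ⊢; simpa only [_root_.Int.reduceNeg, _root_.sub_neg_eq_add] using h1), Nat.mod_eq_of_lt (by omega : 1 < p),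
        Nat.mod_eq_of_lt (by omega)]
      simp
  · rcases hs with rfl | rfl
    · rw [mod_of_dvd_sub' (a := e) (by push_cast at h1 ⊢; simpa only [_root_.one_mul, _root_.mul_one] using h1), Nat.mod_eq_of_lt hpe]
      simp
    · rw [mod_of_dvd_sub'' (a := e) (by push_cast at h1 ⊢; simpa only [_root_.Int.reduceNeg, _root_.neg_mul, _root_.one_mul, _root_.sub_neg_eq_add, _root_.mul_one] using h1), Nat.mod_eq_of_lt hpe,
        Nat.mod_eq_of_lt (by omega)]
      simp

end block

/-! ### Two blocks -/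

/-- **The pair lemma for the principal blocks of two exact primes.** -/
theorem i4_blocks {p q : ℕ} [hp : Fact p.Prime] [Fact q.Prime] {P : Sylow p G} {K : Subgroup G} {Q : Sylow q G}
    {L : Subgroup G} (hK : IsComp p (P : Subgroup G) K) (hP : Nat.card P = p) {u : P} (hu : u ≠ 1)
    {w : Q} (hsr : ∀ v : K, SR ((u : G) * v)) (hsr' : ∀ v : L, SR ((w : G) * v))
    {m c d : ℕ} (hm : ∀ χ : IrrCharacter G, ‖part (1 : L → ℂ) (χ : G → ℂ) w‖ ^ 2 ≤ (m : ℝ))
    (hd : ∀ χ : IrrCharacter G, (χ : G → ℂ) ≠ 1 → part (1 : K → ℂ) (χ : G → ℂ) u ≠ 0 →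
      part (1 : L → ℂ) (χ : G → ℂ) w ≠ 0 → d ≤ charDegree (χ : G → ℂ))
    (hnum : (m * p - 1) * (c - 1) < d ^ 2) {g : G} (hg : Nat.card (centralizer ({g} : Set G)) ≤ c) :
    H777.Ore.I4 g := by
  classical
  have hfin : Finite (IrrCharacter G) := finite_irr
  have := Fintype.ofFinite (IrrCharacter G)
  have := Fintype.ofFinite K
  have := Fintype.ofFinite L
  have hd0 : 0 < d := by
    rcases Nat.eq_zero_or_pos d with h | h
    · rw [h] at hnum; simp at hnum
    · exact h
  have hm1 : (1 : ℝ) ≤ m := by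
    have h1 := hm (one1 G)
    have h2 : part (1 : L → ℂ) ((one1 G : IrrCharacter G) : G → ℂ) w = 1 := by
      rw [part_one_eq]
      simp only [H65.Ore.one1_apply, mul_one]
      exact weights_one
    rw [h2, norm_one, one_pow] at h1
    exact h1
  have hm1' : 1 ≤ m := by exact_mod_cast hm1
  have hc : 1 ≤ c := le_trans Nat.card_pos hg
  obtain ⟨i, j, -, -, h⟩ := exists_prd (g := g) (fun v : L => (w : G) * v) (fun v : K => (u : G) * v)
    (fun _ => ((Nat.card L : ℂ)⁻¹)) (fun _ => ((Nat.card K : ℂ)⁻¹)) weights_one weights_one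
    (S := m * p) (d := d) (by exact_mod_cast hd0) (by
      simp only [← part_one_eq]
      calc ∑ χ : IrrCharacter G, (‖part (1 : L → ℂ) (χ : G → ℂ) w‖ * ‖part (1 : K → ℂ) (χ : G → ℂ) u‖) ^ 2
          ≤ ∑ χ : IrrCharacter G, (m : ℝ) * ‖part (1 : K → ℂ) (χ : G → ℂ) u‖ ^ 2 := by
            refine Finset.sum_le_sum fun χ _ => ?_
            rw [mul_pow]
            exact mul_le_mul_of_nonneg_right (hm χ) (sq_nonneg _)
        _ = (m : ℝ) * p := by
            rw [← Finset.mul_sum, sum_part_sq hK hP isIrr_one hu]) (by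
      intro χ h1 h2 h3
      rw [← part_one_eq] at h2 h3
      have h4 := hd χ h1 h3 h2
      rw [Blocks.Knorr.charDegree_eq χ.2, Complex.norm_natCast]
      exact_mod_cast h4) (by
      have h2 : (Nat.card (centralizer ({g} : Set G)) : ℝ) ≤ c := by exact_mod_cast hg
      have h3 : (1 : ℝ) ≤ (Nat.card (centralizer ({g} : Set G)) : ℝ) := by
        exact_mod_cast (Nat.card_pos : 0 < Nat.card (centralizer ({g} : Set G)))
      have h4 : (((m * p - 1) * (c - 1) : ℕ) : ℝ) < ((d ^ 2 : ℕ) : ℝ) := by exact_mod_cast hnum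
      have h5 : 1 ≤ m * p := Nat.mul_pos hm1' hp.out.pos
      rw [Nat.cast_mul, Nat.cast_sub h5, Nat.cast_sub hc] at h4
      push_cast at h4
      have h6 : (1 : ℝ) ≤ m * p := by exact_mod_cast h5
      calc ((m : ℝ) * p - 1) * ((Nat.card (centralizer ({g} : Set G)) : ℝ) - 1)
          ≤ ((m : ℝ) * p - 1) * ((c : ℝ) - 1) := mul_le_mul_of_nonneg_left (by linarith only [h2]) (by linarith only [h6])
        _ < _ := h4)
  exact i4_of_prd (hsr' i) (hsr j) h

end Cfsg.Agent.H860.I4
end

private theorem dce_5755757b37f1 : _root_.True := by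
  try have : _root_.True := by simp only [_root_.Cfsg.Agent.H529.Inv.Pair.tstP.eq_1]
  exact _root_.True.intro
end

-- part: H995/Co1F/Mono
section
prune_inst 0x242040050000020000040012c0001cc393000402004b0000b0e40d0205c67c228002ae2178a00c180020300c00310048150030342220000000844400011901a098c050043300011526000f80000a410000300880000000000000000000041000010000000
set_option linter.all false
open scoped Cfsg.Agent.FastGrp

-- part: H995/Co1F/Inter
section
/-!
# Code words with a prescribed intersection; transitivity of `M24`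
-/

set_option autoImplicit false

namespace Cfsg.Agent.H995.Co1F

open Cfsg Cfsg.Agent.Leech.Code
open scoped Pointwise

theorem sum_ind (s t : Finset GolayPt) : ∑ i, ind s i * ind t i = ((s ∩ t).card : ZMod 2) := by
  have h : ∀ i, ind s i * ind t i = if i ∈ s ∩ t then (1 : ZMod 2) else 0 := by
    intro i
    rw [ind_apply, ind_apply]
    by_cases h1 : i ∈ s <;> by_cases h2 : i ∈ t <;> simp [h1, h2]
  rw [Finset.sum_congr rfl fun i _ => h i, Finset.sum_ite_mem, Finset.univ_inter, Finset.sum_const]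
  simp

/-- **Duality**: a subset `s` of `X` which meets all the words inside `X` evenly is the intersection of `X` with
a word. -/
theorem exists_inter {X s : Finset GolayPt} (hs : s ⊆ X) (h : ∀ d ∈ Words, d ⊆ X → Even (s ∩ d).card) :
    ∃ c ∈ Words, c ∩ X = s := by
  let Z : Submodule (ZMod 2) (GolayPt → ZMod 2) :=
    { carrier := {f | ∀ i ∈ X, f i = 0}
      zero_mem' := fun i _ => rfl
      add_mem' := fun {f g} hf hg i hi => by rw [Pi.add_apply, hf i hi, hg i hi, add_zero]
      smul_mem' := fun c f hf i hi => by rw [Pi.smul_apply, hf i hi, smul_zero] }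
  by_cases hmem : ind s ∈ golayCode ⊔ Z
  · obtain ⟨c, hc, f, hf, hcf⟩ := Submodule.mem_sup.1 hmem
    refine ⟨support₂ c, support₂_mem hc, ?_⟩
    ext i
    rw [Finset.mem_inter, mem_support₂]
    constructor
    · rintro ⟨h1, h2⟩
      have h3 := congrFun hcf i
      rw [Pi.add_apply, hf i h2, add_zero, ind_apply] at h3
      by_contra h4
      rw [if_neg h4] at h3
      exact h1 h3
    · intro h1
      have h2 := hs h1
      have h3 := congrFun hcf i
      rw [Pi.add_apply, hf i h2, add_zero, ind_apply, if_pos h1] at h3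
      exact ⟨by rw [h3]; decide, h2⟩
  · exfalso
    obtain ⟨φ, hφ, hle⟩ := Submodule.exists_le_ker_of_notMem hmem
    set y : GolayPt → ZMod 2 := fun i => φ (Pi.single i 1) with hy
    have hφ' : ∀ w, φ w = ∑ i, w i * y i := by
      intro w
      have h1 : w = ∑ i, w i • (Pi.single i (1 : ZMod 2) : GolayPt → ZMod 2) := by
        funext k
        rw [Finset.sum_apply, Finset.sum_eq_single k]
        · simp
        · intro j _ hj
          rw [Pi.smul_apply, Pi.single_eq_of_ne (Ne.symm hj), smul_zero]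
        · intro h; exact absurd (Finset.mem_univ k) h
      conv_lhs => rw [h1]
      rw [map_sum]
      exact Finset.sum_congr rfl fun i _ => by rw [map_smul, smul_eq_mul]
    have hyX : ∀ i, i ∉ X → y i = 0 := by
      intro i hi
      have h1 : (Pi.single i (1 : ZMod 2) : GolayPt → ZMod 2) ∈ Z := by
        intro j hj
        rw [Pi.single_eq_of_ne]
        rintro rfl
        exact hi hj
      exact hle (Submodule.mem_sup_right h1)
    set Y : Finset GolayPt := support₂ y with hYdef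
    have hYi : ind Y = y := ind_support₂ y
    have hYW : Y ∈ Words := by
      refine mem_of_even_inter fun d hd => ?_
      have h1 : φ (ind d) = 0 := hle (Submodule.mem_sup_left ((mem_words_iff d).1 hd))
      rw [hφ', ← hYi, sum_ind, Finset.inter_comm] at h1
      exact (ZMod.natCast_eq_zero_iff_even).1 h1
    have hYX : Y ⊆ X := by
      intro i hi
      by_contra h1
      exact ((mem_support₂ y i).1 hi) (hyX i h1)
    have h1 : φ (ind s) = 0 := by
      rw [hφ', ← hYi, sum_ind]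
      exact (ZMod.natCast_eq_zero_iff_even).2 (h Y hYW hYX)
    exact hφ h1

/-! ### transitivity -/

open Cfsg.Agent.GolayOrbit.Flags Cfsg.Agent.GolayOrbit.Code Cfsg.Agent.J4Type.OctadFixTrans
open Cfsg.Agent.GolayOrbit.Basic

/-- `M24` is transitive on the flags (octad, point of it). -/
theorem octad_flag {o o' : Finset GolayPt} (ho : o ∈ octads) (ho' : o' ∈ octads) {p p' : GolayPt} (hp : p ∈ o)
    (hp' : p' ∈ o') : ∃ g ∈ M24, g • o = o' ∧ g p = p' := by
  obtain ⟨q, hq⟩ := exists_not_mem ho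
  obtain ⟨q', hq'⟩ := exists_not_mem ho'
  obtain ⟨a, ha, a1, a2, -⟩ := flagInOut ho hp hq
  obtain ⟨b, hb, b1, b2, -⟩ := flagInOut ho' hp' hq'
  refine ⟨b * a⁻¹, M24.mul_mem hb (M24.inv_mem ha), ?_, ?_⟩
  · rw [mul_smul, ← a1, inv_smul_smul, b1]
  · rw [Equiv.Perm.mul_apply, show a⁻¹ p = p₀ by rw [Equiv.Perm.inv_eq_iff_eq, a2], b2]

/-- `M24` is transitive on octads with an ordered pair of points outside. -/
theorem octad_pair {o o' : Finset GolayPt} (ho : o ∈ octads) (ho' : o' ∈ octads) {p q p' q' : GolayPt} (hp : p ∉ o)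
    (hq : q ∉ o) (hpq : p ≠ q) (hp' : p' ∉ o') (hq' : q' ∉ o') (hpq' : p' ≠ q') :
    ∃ g ∈ M24, g • o = o' ∧ g p = p' ∧ g q = q' := by
  obtain ⟨a, ha, a1⟩ := octad_transitive ho
  obtain ⟨b, hb, b1⟩ := octad_transitive ho'
  have h1 : ∀ p, p ∉ o → a⁻¹ p ∉ ofMask O₀ := by
    intro p hp h
    apply hp
    rw [← a1]
    exact Finset.inv_smul_mem_iff.mp h
  have h2 : ∀ p, p ∉ o' → b⁻¹ p ∉ ofMask O₀ := by
    intro p hp h
    apply hp
    rw [← b1]
    exact Finset.inv_smul_mem_iff.mp h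
  obtain ⟨g, hg, -, -, g3, g4, g5⟩ := pair_trans₀ (h1 p hp) (h1 q hq) (fun h => hpq (a⁻¹.injective h))
    (h2 p' hp') (h2 q' hq') (fun h => hpq' (b⁻¹.injective h))
  refine ⟨b * g * a⁻¹, M24.mul_mem (M24.mul_mem hb hg) (M24.inv_mem ha), ?_, ?_, ?_⟩
  · rw [mul_smul, ← a1, inv_smul_smul, mul_smul, g3, b1]
  · rw [Equiv.Perm.mul_apply, Equiv.Perm.mul_apply, g4]
    exact smul_inv_smul b p'
  · rw [Equiv.Perm.mul_apply, Equiv.Perm.mul_apply, g5]
    exact smul_inv_smul b q'

/-- an injective 5-tuple in a set with at least five elements, with prescribed first entry -/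
theorem exists_tuple {d : Finset GolayPt} (hd : 5 ≤ d.card) {p : GolayPt} (hp : p ∈ d) :
    ∃ a : Fin 5 → GolayPt, Function.Injective a ∧ (∀ i, a i ∈ d) ∧ a 0 = p := by
  obtain ⟨s, hs, hs4⟩ := Finset.exists_subset_card_eq (s := d.erase p) (n := 4)
    (by rw [Finset.card_erase_of_mem hp]; omega)
  have e := s.equivFinOfCardEq hs4
  refine ⟨Fin.cons p fun i => ((e.symm i : s) : GolayPt), ?_, ?_, ?_⟩
  · rw [Fin.cons_injective_iff]
    refine ⟨?_, fun i j hij => e.symm.injective (Subtype.ext hij)⟩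
    rintro ⟨i, hi⟩
    exact (Finset.mem_erase.1 (hs (e.symm i).2)).1 hi
  · intro i
    refine Fin.cases hp (fun i => ?_) i
    exact Finset.mem_of_mem_erase (hs (e.symm i).2)
  · rfl

/-- `M24` is transitive on the pairs (dodecad, point outside). -/
theorem dodecad_out {d d' : Finset GolayPt} (hd : d ∈ dodecads) (hd' : d' ∈ dodecads) {p p' : GolayPt} (hp : p ∉ d)
    (hp' : p' ∉ d') : ∃ g ∈ M24, g • d = d' ∧ g p = p' := by
  have hc : ∀ d : Finset GolayPt, d ∈ dodecads → dᶜ ∈ dodecads := by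
    intro d hd
    refine ⟨compl_mem hd.1, ?_⟩
    have h1 : d.card = 12 := hd.2
    rw [Finset.card_compl, card_golayPt, h1]
  obtain ⟨a, ha, had, ha0⟩ := exists_tuple (d := dᶜ) (p := p) (by rw [(hc d hd).2]; norm_num)
    (Finset.mem_compl.2 hp)
  obtain ⟨b, hb, hbd, hb0⟩ := exists_tuple (d := d'ᶜ) (p := p') (by rw [(hc d' hd').2]; norm_num)
    (Finset.mem_compl.2 hp')
  obtain ⟨g, ⟨hg, hgd, hga⟩, -⟩ := Cfsg.Agent.SporadicStructure.DodecadM12.exists_unique_dodecad_map _ _
    (hc d hd) (hc d' hd') a b ha hb had hbd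
  refine ⟨g, hg, ?_, by rw [← ha0, hga, hb0]⟩
  ext i
  have h1 : i ∈ g • dᶜ ↔ i ∈ d'ᶜ := by rw [hgd]
  rw [← Finset.inv_smul_mem_iff, Finset.mem_compl, Finset.mem_compl] at h1
  rw [← Finset.inv_smul_mem_iff]
  exact not_iff_not.1 h1

/-- `M24` is transitive on the ordered triples of points; it maps 4-sets to 4-sets. -/
theorem five_map (a b : Fin 5 → GolayPt) (ha : Function.Injective a) (hb : Function.Injective b) :
    ∃ g ∈ M24, ∀ i, g (a i) = b i := by
  obtain ⟨g, hg, h1⟩ := Cfsg.Agent.SporadicStructure.DodecadM12.exists_map_base a ha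
  obtain ⟨h, hh, h2⟩ := Cfsg.Agent.SporadicStructure.DodecadM12.exists_map_base b hb
  refine ⟨h * g⁻¹, M24.mul_mem hh (M24.inv_mem hg), fun i => ?_⟩
  rw [Equiv.Perm.mul_apply, show g⁻¹ (a i) = Cfsg.Agent.SporadicStructure.DodecadM12.base i by
    rw [Equiv.Perm.inv_eq_iff_eq, h1], h2]

/-- an injective 5-tuple which ends with an enumeration of a 4-set -/
theorem exists_tuple_four {T : Finset GolayPt} (hT : T.card = 4) :
    ∃ a : Fin 5 → GolayPt, Function.Injective a ∧ ∀ p, p ∈ T ↔ ∃ i : Fin 4, a i.succ = p := by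
  obtain ⟨x, hx⟩ : ∃ x, x ∉ T := by
    by_contra h
    push Not at h
    have h1 : T = Finset.univ := Finset.eq_univ_iff_forall.2 h
    rw [h1, Finset.card_univ, card_golayPt] at hT
    omega
  have e := T.equivFinOfCardEq hT
  refine ⟨Fin.cons x fun i => ((e.symm i : T) : GolayPt), ?_, fun p => ⟨fun hp => ?_, ?_⟩⟩
  · rw [Fin.cons_injective_iff]
    refine ⟨?_, fun i j hij => e.symm.injective (Subtype.ext hij)⟩
    rintro ⟨i, hi⟩
    exact hx (hi ▸ (e.symm i).2)
  · refine ⟨e ⟨p, hp⟩, ?_⟩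
    rw [Fin.cons_succ, Equiv.symm_apply_apply]
  · rintro ⟨i, rfl⟩
    rw [Fin.cons_succ]
    exact (e.symm i).2

/-- `M24` is transitive on the 4-sets. -/
theorem four_set {T T' : Finset GolayPt} (hT : T.card = 4) (hT' : T'.card = 4) : ∃ g ∈ M24, g • T = T' := by
  obtain ⟨a, ha, ha'⟩ := exists_tuple_four hT
  obtain ⟨b, hb, hb'⟩ := exists_tuple_four hT'
  obtain ⟨g, hg, h1⟩ := five_map a b ha hb
  refine ⟨g, hg, ?_⟩
  apply Finset.eq_of_subset_of_card_le
  · intro p hp
    obtain ⟨q, hq, rfl⟩ := Finset.mem_smul_finset.1 hp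
    obtain ⟨i, rfl⟩ := (ha' q).1 hq
    exact (hb' _).2 ⟨i, (h1 _).symm⟩
  · rw [Finset.card_smul_finset, hT, hT']

/-- an injective 5-tuple starting with three given points -/
theorem exists_tuple_three {p q r : GolayPt} (hpq : p ≠ q) (hpr : p ≠ r) (hqr : q ≠ r) :
    ∃ a : Fin 5 → GolayPt, Function.Injective a ∧ a 0 = p ∧ a 1 = q ∧ a 2 = r := by
  obtain ⟨s, hs, hs2⟩ := Finset.exists_subset_card_eq (s := (({p, q, r} : Finset GolayPt))ᶜ) (n := 2) (by
    rw [Finset.card_compl, card_golayPt]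
    have : ({p, q, r} : Finset GolayPt).card ≤ 3 := Finset.card_le_three
    omega)
  have e := s.equivFinOfCardEq hs2
  have h0 : ∀ i, ((e.symm i : s) : GolayPt) ≠ p ∧ ((e.symm i : s) : GolayPt) ≠ q ∧ ((e.symm i : s) : GolayPt) ≠ r := by
    intro i
    have h1 := hs (e.symm i).2
    rw [Finset.mem_compl] at h1
    simpa using h1
  refine ⟨Fin.cons p (Fin.cons q (Fin.cons r fun i => ((e.symm i : s) : GolayPt))), ?_, rfl, rfl, rfl⟩
  rw [Fin.cons_injective_iff, Fin.cons_injective_iff, Fin.cons_injective_iff]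
  refine ⟨?_, ?_, ?_, fun i j hij => e.symm.injective (Subtype.ext hij)⟩
  · rintro ⟨i, hi⟩
    revert hi
    refine Fin.cases ?_ (fun i => ?_) i
    · exact fun h => hpq h.symm
    · refine Fin.cases ?_ (fun i => ?_) i
      · exact fun h => hpr h.symm
      · exact (h0 i).1
  · rintro ⟨i, hi⟩
    revert hi
    refine Fin.cases ?_ (fun i => ?_) i
    · exact fun h => hqr h.symm
    · exact (h0 i).2.1
  · rintro ⟨i, hi⟩
    exact (h0 i).2.2 hi

/-- `M24` is transitive on the ordered triples of points. -/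
theorem three_map {p q r p' q' r' : GolayPt} (hpq : p ≠ q) (hpr : p ≠ r) (hqr : q ≠ r) (hpq' : p' ≠ q')
    (hpr' : p' ≠ r') (hqr' : q' ≠ r') : ∃ g ∈ M24, g p = p' ∧ g q = q' ∧ g r = r' := by
  obtain ⟨a, ha, a0, a1, a2⟩ := exists_tuple_three hpq hpr hqr
  obtain ⟨b, hb, b0, b1, b2⟩ := exists_tuple_three hpq' hpr' hqr'
  obtain ⟨g, hg, h1⟩ := five_map a b ha hb
  exact ⟨g, hg, by rw [← a0, h1, b0], by rw [← a1, h1, b1], by rw [← a2, h1, b2]⟩

end Cfsg.Agent.H995.Co1F
end

-- part: H995/Co1F/Mono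
section
/-!
# The monomial subgroup `N` of `Co0` and congruence modulo `2 Λ`
-/

set_option autoImplicit false

namespace Cfsg.Agent.H995.Co1F

open Cfsg
open Cfsg.Agent.SporadicA.Co0Mono
open Cfsg.Agent.MonsterX.FrameStab (FixesFrame fixesFrame_one fixesFrame_mul fixesFrame_inv preserves_of_congr)
open Cfsg.Agent.SporadicStructure.StdCross Cfsg.Agent.SporadicStructure.Co0Base
open Cfsg.Agent.SporadicA.Co0Card (v0)

/-- `v ≡ w` modulo `2 Λ` -/
def Cong (v w : leechLattice) : Prop := ∃ x : leechLattice, v - w = 2 • x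

theorem Cong.refl (v : leechLattice) : Cong v v := ⟨0, by rw [sub_self, _root_.smul_zero]⟩

theorem Cong.symm {v w : leechLattice} (h : Cong v w) : Cong w v := by
  obtain ⟨x, hx⟩ := h
  exact ⟨-x, by rw [_root_.smul_neg, ← hx, neg_sub]⟩

theorem Cong.trans {u v w : leechLattice} (h : Cong u v) (h' : Cong v w) : Cong u w := by
  obtain ⟨x, hx⟩ := h
  obtain ⟨y, hy⟩ := h'
  exact ⟨x + y, by rw [_root_.smul_add, ← hx, ← hy]; abel⟩

theorem Cong.smul {v w : leechLattice} (g : Co0) (h : Cong v w) : Cong (g • v) (g • w) := by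
  obtain ⟨x, hx⟩ := h
  refine ⟨g • x, ?_⟩
  rw [← Cfsg.Agent.SporadicA.Co0Mono.smul_sub, hx, smul_nsmul]

theorem cong_neg (v : leechLattice) : Cong (-v) v := ⟨-v, by rw [two_smul]; abel⟩

theorem v0_eq : v0 = e8 none := Subtype.ext rfl

theorem cong_e8 (i j : GolayPt) : Cong (e8 i) (e8 j) := by
  refine ⟨⟨_, four_mul_mem (Pi.single i 1 - Pi.single j 1) ?_⟩, ?_⟩
  · simp [Finset.sum_sub_distrib]
  · apply Subtype.ext
    rw [AddSubgroup.coe_sub, e8_coe, e8_coe, two_smul, AddSubgroup.coe_add]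
    funext k
    simp only [Pi.sub_apply, Pi.add_apply, Pi.single_apply]
    split_ifs <;> norm_num

theorem fixes_iff_cong (A : Co0) : FixesFrame A ↔ Cong (A • e8 none) (e8 none) := by
  rw [← v0_eq]
  constructor
  · intro h
    exact Cong.symm h
  · intro h
    exact Cong.symm h

/-- Elements of `N` are products of a sign change and a permutation. -/
theorem frame_form {A : Co0} (h : FixesFrame A) : ∃ (c : golayCode) (σ : M24), A = signCo0 c * permCo0 σ := by
  obtain ⟨σ, hσ, c, ⟨w, hw, rfl⟩, hA⟩ := exists_signedPerm A (preserves_of_congr A h)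
  refine ⟨⟨w, hw⟩, ⟨σ, hσ⟩, ?_⟩
  apply ext
  intro v
  apply Subtype.ext
  funext i
  rw [hA, mul_smul, signCo0_smul, permCo0_smul, signMap_apply, permMap_apply, signedPerm_apply]
  by_cases h0 : w i = 0
  · rw [if_neg (by rw [Cfsg.Agent.Leech.Code.mem_support₂]; simpa using h0)]
    simp [sgn, h0]
  · rw [if_pos (by rw [Cfsg.Agent.Leech.Code.mem_support₂]; simpa using h0)]
    simp [sgn, h0]

theorem fixes_sign (c : golayCode) : FixesFrame (signCo0 c) := by
  rw [fixes_iff_cong]
  have h : signCo0 c • e8 none = e8 none ∨ signCo0 c • e8 none = -e8 none := by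
    rcases Cfsg.Agent.SporadicStructure.LeechBase.zmod2_cases ((c : GolayPt → ZMod 2) none) with h0 | h0
    · left
      apply Subtype.ext
      rw [signCo0_smul, e8_coe]
      funext k
      rw [signMap_apply]
      by_cases hk : k = none
      · rw [hk, h0, sgn_zero, one_mul]
      · rw [Pi.single_eq_of_ne hk, mul_zero]
    · right
      apply Subtype.ext
      rw [signCo0_smul, AddSubgroup.coe_neg, e8_coe]
      funext k
      rw [signMap_apply, Pi.neg_apply]
      by_cases hk : k = none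
      · rw [hk, h0, sgn_one, neg_one_mul]
      · rw [Pi.single_eq_of_ne hk, mul_zero, neg_zero]
  rcases h with h | h
  · rw [h]; exact Cong.refl _
  · rw [h]; exact cong_neg _

theorem perm_e8 (σ : M24) (i : GolayPt) : permCo0 σ • e8 i = e8 ((σ : Equiv.Perm GolayPt) i) := by
  apply Subtype.ext
  rw [permCo0_smul, e8_coe, e8_coe]
  funext k
  rw [permMap_apply, Pi.single_apply, Pi.single_apply]
  simp only [Equiv.symm_apply_eq]

theorem fixes_perm (σ : M24) : FixesFrame (permCo0 σ) := by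
  rw [fixes_iff_cong, perm_e8]
  exact cong_e8 _ _

/-- `v` is congruent, up to `N`, to the image of some `8 e_j` under an involution -/
def Good (v : leechLattice) : Prop :=
  ∃ n : Co0, FixesFrame n ∧ ∃ t : Co0, t * t = 1 ∧ ∃ j, Cong (n • v) (t • e8 j)

theorem Good.of_cong {v w : leechLattice} (h : Cong v w) (hw : Good w) : Good v := by
  obtain ⟨n, hn, t, ht, j, hj⟩ := hw
  exact ⟨n, hn, t, ht, j, (h.smul n).trans hj⟩

theorem Good.of_smul {v : leechLattice} {n : Co0} (hn : FixesFrame n) (hw : Good (n • v)) : Good v := by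
  obtain ⟨m, hm, t, ht, j, hj⟩ := hw
  exact ⟨m * n, fixesFrame_mul hm hn, t, ht, j, by rwa [mul_smul]⟩

theorem Good.of_eq {v : leechLattice} {t : Co0} (ht : t * t = 1) {j : GolayPt} (h : v = t • e8 j) : Good v :=
  ⟨1, fixesFrame_one, t, ht, j, by rw [one_smul, h]; exact Cong.refl _⟩

theorem good_e8 (i : GolayPt) : Good (e8 i) :=
  Good.of_eq (t := 1) (one_mul 1) (j := i) (by rw [one_smul])

/-- **The double coset step.** -/
theorem step (hA : ∀ v : leechLattice, sqNorm (v : GolayPt → ℤ) = 64 → Good v) (g : Co0) :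
    ∃ u t h : Co0, t * t = 1 ∧ FixesFrame h ∧ u * g * u⁻¹ = t * h := by
  obtain ⟨n, hn, t, ht, j, hj⟩ := hA (g • e8 none) (by
    rw [sqNorm_smul, ← v0_eq]
    exact Cfsg.Agent.SporadicA.Co0Card.sqNorm_v0)
  have ht' : t⁻¹ = t := inv_eq_of_mul_eq_one_left ht
  have h1 : FixesFrame (t * n * g) := by
    rw [fixes_iff_cong, mul_smul, mul_smul]
    have h2 := hj.smul t
    rw [← mul_smul t t, ht, one_smul] at h2
    exact h2.trans (cong_e8 _ _)
  refine ⟨n, t, t * n * g * n⁻¹, ht, fixesFrame_mul h1 (fixesFrame_inv hn), ?_⟩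
  have : t * (t * n * g * n⁻¹) = (t * t) * (n * g * n⁻¹) := by group
  rw [this, ht, one_mul]

end Cfsg.Agent.H995.Co1F
end
end

-- part: H995/Co1F/Std_mg
section
set_option linter.all false
open scoped Cfsg.Agent.FastGrp

-- part: H995/Co1F/Data
section
/-!
# Five involutions of `Co0` (explicit symmetric matrices `8 t`)
-/

set_option autoImplicit false

namespace Cfsg.Agent.H995.Co1F

open Cfsg.Agent.LeechMat.Elements

/-- the matrix `8 t2` (columns) -/
def A2 : List ℕ :=
  [0x842108421084210842108421065194,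
   0x84210842108421084210842106528c,
   0x8421084210842108421084210a5294,
   0x8421084210842108421084210a518c,
   0x84210842108420c85210a420c84210,
   0x642108429085210842108419084210,
   0x832108421084210a42908321084210,
   0x84210842108420c852106421484210,
   0x84210a4214642108420c8421084210,
   0x832108421084210a41908521084210,
   0x84210842108420c83210a421484210,
   0x832108421084210642908521084210,
   0x84210842108420c832106420c84210,
   0x841948521084190842108421084210,
   0x642108429083210842108429084210,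
   0x842106420c642108420c8421084210,
   0x84210a420c64210842148421084210,
   0x642108419085210842108429084210,
   0x841948321084290842108421084210,
   0x842106421464210842148421084210,
   0x8418c8521084290842108421084210,
   0x8418c8321084190842108421084210,
   0x832108421084210641908321084210,
   0x642108419083210842108419084210]

/-- the images of the generators under `t2` -/
def Y2 : List ℕ :=
  [0x74210841d083a1084210841d0749d2,
   0x74210841d083a1084210841d074a4e,
   0x74210841d083a1084210841d094a52,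
   0x74210841d083a1084210841d0949ce,
   0x74210841d083a0e84a10941ce84210,
   0x642108421084210842108419084210,
   0x73a10841d083a1094250839d084210,
   0x74210841d083a0e84a10741d284210,
   0x74210941d273a108420e841d084210,
   0x73a10841d083a10941d0849d084210,
   0x74210841d083a0e83a10941d284210,
   0x73a10841d083a1074250849d084210,
   0x74210841d083a0e83a10741ce84210,
   0x741d2849d0839d084210841d084210,
   0x642108421083210842108421084210,
   0x74210741ce73a108420e841d084210,
   0x74210941ce73a1084212841d084210,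
   0x642108419084210842108421084210,
   0x741d2839d083a5084210841d084210,
   0x74210741d273a1084212841d084210,
   0x741ce849d083a5084210841d084210,
   0x741ce839d0839d084210841d084210,
   0x73a10841d083a10741d0839d084210,
   0x642108419083210842108419084210,
   0x839d08425074a0e842108425084a10,
   0x6bdf18bdef7be2f7bdf17be2f7c5f1,
   0x7bdf17c62f6bdef7bdf17be2f7c62f,
   0x7bdb17c5ef7be2f7bdef7bdef8c631,
   0x7bdb17bdf17c5ef7bdf17be2f8c5ef,
   0x741d0849d07420e842128420e84210,
   0x641908421084210842108421084210,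
   0x739d073a1073a108421083a1084210,
   0x741d0742107424e842107425084210,
   0x841908421064210842108421084210,
   0x739ce8421074210841d28425084210,
   0x741ce8420e73a0e83a108421084210,
   0x739d0841ce741d0742108421084210]

/-- the vector `t2 (8 e_j)`, `j = 2` -/
def R2 : ℕ := 0x8421084210842108421084210a5294

/-- the matrix `8 t3` (columns) -/
def A3 : List ℕ :=
  [0x54a1084a5284a12842108421084212,
   0x841ce94210941d094a4e739d2949d0,
   0x841ce942109425074a5273a4e73a50,
   0x8424e94210741d0949ce93a5273a50,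
   0x8424e9421094250939ce749ce93a50,
   0x8424e9421074250749d2939ce949d0,
   0x8424e742109425093a52939d2739d0,
   0x8424e74210741d094a5274a4e939d0,
   0x841ce942107425093a4e94a4e749d0,
   0x841ce74210941d0949d2949ce74a50,
   0x8424e74210941d073a4e93a4e94a50,
   0x841ce94210741d073a52949d293a50,
   0x94a1084a5284a0a842108421084212,
   0x8424e94210941d0739d274a52749d0,
   0x94a1084a5282a12842108421084212,
   0x8424e742107425074a4e749d274a50,
   0x94a1084a4a84a12842108421084212,
   0x94a108495284a12842108421084212,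
   0x94a1082a5284a12842108421084212,
   0x841ce7421074250939d273a5294a50,
   0x841ce74210741d0739ce739ce739d0,
   0x841ce7421094250749ce94a52939d0,
   0x92a1084a5284a12842108421084212,
   0x94a1084a5284a1284210842108420a]

/-- the images of the generators under `t3` -/
def Y3 : List ℕ :=
  [0x74a1084a5284a1284210842108420e,
   0x8c5ef8c6318c5f18c62f7bdf18c5ed,
   0x8c5ef8c6318c6317c6317be2f7be2d,
   0x8c62f8c6317c5f18c5ef8be317be2d,
   0x8c62f8c6318c6318bdef7c5ef8be2d,
   0x8c62f8c6317c6317c5f18bdef8c5ed,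
   0x8c62f7c6318c6318be318bdf17bded,
   0x8c62f7c6317c5f18c6317c62f8bded,
   0x8c5ef8c6317c6318be2f8c62f7c5ed,
   0x8c5ef7c6318c5f18c5f18c5ef7c62d,
   0x8c62f7c6318c5f17be2f8be2f8c62d,
   0x8c5ef8c6317c5f17be318c5f18be2d,
   0x94a1084a5284a0e84210842108420e,
   0x8c62f8c6318c5f17bdf17c6317c5ed,
   0x94a1084a5283a1284210842108420e,
   0x8c62f7c6317c6317c62f7c5f17c62d,
   0x94a1084a4e84a1284210842108420e,
   0x94a10849d284a1284210842108420e,
   0x94a1083a5284a1284210842108420e,
   0x8c5ef7c6317c6318bdf17be318c62d,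
   0x8c5ef7c6317c5f17bdef7bdef7bded,
   0x8c5ef7c6318c6317c5ef8c6318bded,
   0x93a1084a5284a1284210842108420e,
   0x94a1084a5284a1284210842108420a,
   0x8420c8421084210842108421084214,
   0x94a1084a5284a12842108421084212,
   0x9420e84a5084210842107421284a12,
   0x9420e8425284a10742107421074210,
   0x9420e8421284a10841d08425284212,
   0x94a0e84a1084a10839d07421084210,
   0x94a0e8421284212741d084210841d0,
   0x9420e7425284252842108421284210,
   0x94a0e7421274210842107421084212,
   0x8c5ed7be2f7c6317bdef7c6317c5f1,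
   0x941ce74a1084212841d08421084212,
   0x94a0e74a50842107420e8421084210,
   0x9420e84a1084a127421084a1284210]

/-- the vector `t3 (8 e_j)`, `j = 23` -/
def R3 : ℕ := 0x94a1084a5284a1284210842108420a

/-- the matrix `8 t4` (columns) -/
def A4 : List ℕ :=
  [0x841ce942107425093a4e94a4e73a50,
   0x94a1084a5284a12842108421085292,
   0x73a10839ce83a0e84210842108528e,
   0x74a10849d283a128421084290a420e,
   0x73a1084a4e84a9284210842148420e,
   0x93a1083a4e84a0e8421084290a4212,
   0x73a1084a5283a0e852108521084212,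
   0x74a10849cea4a0e84210a421084212,
   0x74a1083a5284a0ea4214842108420e,
   0x73a90839d284a12842908421084212,
   0x94a10839ce84a1285210852108420e,
   0x93a10849ce83a12a42148421084212,
   0x841ce94210941d094a4e739d293a50,
   0x94a10839d283a8e842108421484212,
   0x841d274210741d074a5293a5273a50,
   0x93a1083a52a3a1284210a42108420e,
   0x841d2742109425073a52749ce93a50,
   0x8424e94210941d0739d274a5273a50,
   0x8425274210741d0939ce949d293a50,
   0x74a14a3a4e83a12842108421084212,
   0x93a14a49d284a0e84210842108420e,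
   0x94a9084a4e83a0e84290842108420e,
   0x8424e9421074250749d2939ce93a50,
   0x842527421094250949ce73a4e73a50]

/-- the images of the generators under `t4` -/
def Y4 : List ℕ :=
  [0x8421084210842509420e8424e73a50,
   0x8c6317c6318c6318c5ef7be2f7c671,
   0x7be317bdef8be2f8c5ef7be2f7c66f,
   0x7c6317c5f18be318c5ef7be6f8be2f,
   0x7be317c62f8c6718c5ef7be317be2f,
   0x8be317be2f8c62f8c5ef7be6f8be31,
   0x7be317c6318be2f8cdef7c62f7be31,
   0x7c6317c5ef9c62f8c5ef8be2f7be31,
   0x7c6317be318c62f9c5f17be2f7be2f,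
   0x7be717bdf18c6318c62f7be2f7be31,
   0x8c6317bdef8c6318cdef7c62f7be2f,
   0x8be317c5ef8be319c5f17be2f7be31,
   0x84210842109421094a0e73a1083a50,
   0x8c6317bdf18be6f8c5ef7be317be31,
   0x84212742108421084a1083a5073a50,
   0x8be317be319be318c5ef8be2f7be2f,
   0x842127421094250842107420e83a50,
   0x842508421094210841d07425073a50,
   0x842527421084210941ce8421083a50,
   0x7c6338be2f8be318c5ef7be2f7be31,
   0x8be338c5f18c62f8c5ef7be2f7be2f,
   0x8c6717c62f8be2f8c62f7be2f7be2f,
   0x842508421084250849d083a0e83a50,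
   0x842527421094250949ce73a4e73a50,
   0x8421094210842108425294a1294250,
   0x842108421084210842108421083290,
   0x8c5f18be318be317c6318bdf18be71,
   0x8be318bdf18be2f8c5ef8bdf18be6f,
   0x84a509421083a10842108421293a50,
   0x842129421094250842107421283a50,
   0x94252842108420e842108425283a50,
   0x842528425083a1084a109421083a50,
   0x8421294210941d0842109421283a50,
   0x8c6338be318be2f8be318c5f18be2f,
   0x842529421084210742528421083a50,
   0x94212842109421084a508421083a4e,
   0x942508421093a50842128421083a50]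

/-- the vector `t4 (8 e_j)`, `j = 1` -/
def R4 : ℕ := 0x94a1084a5284a12842108421085292

/-- the matrix `8 t5` (columns) -/
def A5 : List ℕ :=
  [0x739d29425074a1074a10751d084210,
   0x93a52942507399093a10941d084210,
   0x94a4e941d074a0c74a10941d084210,
   0x949ce9425094a1093a10741d064210,
   0x94a527325093a1074a10741d084210,
   0x8421083a12642528425283a0e739ce,
   0x939ce741d073a1073a10741d084214,
   0x8421084a0e841d2641d283a0e74a4e,
   0x949d27425074a1073a0c9425084210,
   0x949d2941d073a10949907425084210,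
   0x8421084a12841d28524e83a12749d2,
   0x8421084a12841ce8424e63a0e93a4e,
   0x939ce9425093a1074a109425083210,
   0x93a52941d094a1073a107425084190,
   0x8421084a928424e841d283a0e949d2,
   0x8421084a0e84252841ce83992939ce,
   0x93a4e7424c74a1094a107425084210,
   0x8421083a12851d2841d283a1293a52,
   0x939d2741d094a1094a10941cc84210,
   0x84210a3a0e842528424e83a0e94a52,
   0x8421484a0e8424e8425283a1273a52,
   0x8321083a128424e841ce83a1274a4e,
   0x8419083a0e841ce8425283a12949ce,
   0xa421084a12842528425284a1294a4e]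

/-- the images of the generators under `t5` -/
def Y5 : List ℕ :=
  [0x8bdf18c6317c6317c6317cdf18c62f,
   0x9be318c6317bdf18be318c5f18c62f,
   0x9c62f8c5f17c62f7c6318c5f18c62f,
   0x9c5ef8c6318c6318be317c5f17c62f,
   0x9c6317be318be317c6317c5f18c62f,
   0x94210842127425284252842108420e,
   0x9bdef7c5f17be317be317c5f18c631,
   0x9421084a1084212742128421084a4e,
   0x9c5f17c6317c6317be2f8c6318c62f,
   0x9c5f18c5f17be318c5f17c6318c62f,
   0x9421084a128421284a508421284a10,
   0x9421084a128421084250742109424e,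
   0x9bdef8c6318be317c6318c6318be2f,
   0x9be318c5f18c6317be317c6318c5ef,
   0x9421084a5284250842128421094a10,
   0x9421084a108425284210841d29420e,
   0x9be2f7c62f7c6318c6317c6318c62f,
   0x942108421284a12842128421294250,
   0x9bdf17c5f18c6318c6318c5ef8c62f,
   0x942109421084252842508421094a50,
   0x9421284a1084250842528421284250,
   0x93a108421284250842108421284a4e,
   0x941d08421084210842528421294a0e,
   0xa421084a12842528425284a1294a4e,
   0x8bdf18be2f7c5ef7c5ef7b5ef7bdf1,
   0x939d08425084a1084a128421094210,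
   0x93a109424e842108421083a10941d0,
   0x9bdf18c5ef8c62f7c6318bdf18bdef,
   0x939d093a1094a108421083a1084210,
   0x9be318be2f8c6317c6317be318be31,
   0x93a128421284a508421283a1084210,
   0x939d0842108425084210839d094a10,
   0x8bdf18c62f8c6317c5f18b5ef8be31,
   0x93a128420e84a508420e83a1084210,
   0x8bdf18be2f7c62f8c5f17b6318c631,
   0x93a1084a508425084a1083a1284210,
   0x93a108421084a108421073a129420e]

/-- the vector `t5 (8 e_j)`, `j = 23` -/
def R5 : ℕ := 0xa421084a12842528425284a1294a4e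

/-- the matrix `8 t6` (columns) -/
def A6 : List ℕ :=
  [0x6c6318c6318c6318c6318c6318c5b5,
   0xac6318c6318c6318c6318c6318c5ad,
   0x8c6318c5b18b6318c6318c5b16b631,
   0x8b6318c62d8c5b18c6318c62d8b631,
   0x8b5b18c6316c62d8c6318c6316c631,
   0x8c62d8c6316c6318b5b18c6318b631,
   0x8c5ad8c5ad8c6318c62d8c6318c631,
   0x8c6316b5b16c5b18c6318c6318c631,
   0x8c6318c62d6b6316c6318b6318c631,
   0x8c5b18c6318c5b16c5b18c5b18c631,
   0x8c6316c62d8c62d8b6318c5b18c631,
   0x8b6316c6318b6318c5ad8c6318c631,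
   0x8c5b18b6318b6318b6318c62d8c631,
   0x8c6318b62d8c6318c5b16c6316c631,
   0x8c6318b6318c62d6c62d8c6318b631,
   0x8c6318c6316c6318c62d6c5ad8c631,
   0x8c6318c6318c5b18b62d8b6316c631,
   0x8c5b16c6318c6318c6316b6318b631,
   0x8c62d8c6318b5ad8c6316c6318c631,
   0x8b6318c5b18c6316b6316c6318c631,
   0x8b62d8b6318c6318c6318b5b18c631,
   0x8c6318c5b18c62d8c5b18b62d8c631,
   0x8c62d6c6318c6316c6318c62d6c631,
   0x6c6318c6318c6318c6318c6318c6ad]

/-- the images of the generators under `t6` -/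
def Y6 : List ℕ :=
  [0x6c6318c6318c6318c6318c6318c631,
   0x8c6318c6318c6318c6318c6318c62d,
   0x7c6318c5f18be318c6318c5f17be6f,
   0x7be318c62f8c5f18c6318c62f8be6f,
   0x7bdf18c6317c62f8c6318c6317c66f,
   0x7c62f8c6317c6318bdf18c6318be6f,
   0x7c5ef8c5ef8c6318c62f8c6318c66f,
   0x7c6317bdf17c5f18c6318c6318c66f,
   0x7c6318c62f7be317c6318be318c66f,
   0x7c5f18c6318c5f17c5f18c5f18c66f,
   0x7c6317c62f8c62f8be318c5f18c66f,
   0x7be317c6318be318c5ef8c6318c66f,
   0x7c5f18be318be318be318c62f8c66f,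
   0x7c6318be2f8c6318c5f17c6317c66f,
   0x7c6318be318c62f7c62f8c6318be6f,
   0x7c6318c6317c6318c62f7c5ef8c66f,
   0x7c6318c6318c5f18be2f8be317c66f,
   0x7c5f17c6318c6318c6317be318be6f,
   0x7c62f8c6318bdef8c6317c6318c66f,
   0x7be318c5f18c6317be317c6318c66f,
   0x7be2f8be318c6318c6318bdf18c66f,
   0x7c6318c5f18c62f8c5f18be2f8c66f,
   0x7c62f7c6318c6317c6318c62f7c66f,
   0x6c6318c6318c6318c6318c6318c6ad,
   0xa42108421084210842108421084214,
   0x84a108425294210842508425084252,
   0x9c6318be318c6317be2f7c62f7c631,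
   0x8c62f8be318be318c6317c5ef7c671,
   0x942108421094210842127424e84252,
   0x8bdf18be318c6318be317be317c671,
   0x8c62f8be318c62f8c5f17be318be71,
   0x8c62f8c5f18c62f7c62f7c62f8c671,
   0x9421083a1284210842507421094252,
   0x9425094210842108421073a1084a52,
   0x942108421294a107421083a1084252,
   0x8c6318be318c62f8be2f8bdef8c671,
   0x8c6317c6318c6318c5ef7be2f7c671]

/-- the vector `t6 (8 e_j)`, `j = 1` -/
def R6 : ℕ := 0xac6318c6318c6318c6318c6318c5ad

end Cfsg.Agent.H995.Co1F
end

-- part: H995/Co1F/Invol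
section
/-!
# Five involutions of `Co0`: the checks
-/

set_option autoImplicit false

namespace Cfsg.Agent.H995.Co1F

open Cfsg Cfsg.Agent.LeechMat.Code Cfsg.Agent.LeechMat.Core Cfsg.Agent.LeechMat.Gen
  Cfsg.Agent.LeechMat.Elements

/-- symmetry of the matrix with the given columns -/
def symm (A : List ℕ) : Bool :=
  allTo (fun j => allTo (fun k => sdig (A.getD j 0) k == sdig (A.getD k 0) j) 24) 24

theorem mv_apply (A : List ℕ) (x : GolayPt → ℤ) (i : GolayPt) :
    mv A x i = ∑ j, x j * vec (A.getD (pos j) 0) i := rfl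

/-- a symmetric checked matrix squares to `d²` -/
theorem mv_mv {d : ℕ} {A : List ℕ} (ho : orth d A = true) (hs : symm A = true) (x : GolayPt → ℤ) :
    mv A (mv A x) = (d : ℤ) ^ 2 • x := by
  unfold symm at hs
  rw [allTo_iff] at hs
  have hs' : ∀ j k : GolayPt, vec (A.getD (pos j) 0) k = vec (A.getD (pos k) 0) j := by
    intro j k
    have h1 := hs (pos j) (pos_lt j)
    rw [allTo_iff] at h1
    have h2 := h1 (pos k) (pos_lt k)
    rw [beq_iff_eq] at h2
    exact h2
  unfold orth at ho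
  rw [allTo_iff] at ho
  have ho' : ∀ j k : GolayPt, ∑ i, vec (A.getD (pos j) 0) i * vec (A.getD (pos k) 0) i
      = if j = k then (d : ℤ) ^ 2 else 0 := by
    intro j k
    have h1 := ho (pos j) (pos_lt j)
    rw [allTo_iff] at h1
    have h2 := h1 (pos k) (pos_lt k)
    rw [beq_iff_eq, dotc_eq] at h2
    have h3 : (pos j = pos k) ↔ (j = k) := ⟨pos_inj, fun h => by rw [h]⟩
    simp only [h3] at h2
    exact h2
  funext i
  rw [mv_apply]
  have e1 : ∀ j, mv A x j * vec (A.getD (pos j) 0) i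
      = ∑ k, x k * (vec (A.getD (pos k) 0) j * vec (A.getD (pos i) 0) j) := by
    intro j
    rw [mv_apply, Finset.sum_mul]
    exact Finset.sum_congr rfl fun k _ => by rw [hs' j i]; ring
  rw [Finset.sum_congr rfl fun j _ => e1 j, Finset.sum_comm]
  have e2 : ∀ k, ∑ j, x k * (vec (A.getD (pos k) 0) j * vec (A.getD (pos i) 0) j)
      = if k = i then (d : ℤ) ^ 2 * x k else 0 := by
    intro k
    rw [← Finset.mul_sum, ho' k i]
    split <;> ring
  rw [Finset.sum_congr rfl fun k _ => e2 k, Finset.sum_ite_eq']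
  simp

/-- `8 e_i` -/
theorem mv_single {d : ℕ} {A : List ℕ} (i : GolayPt) (c : ℤ) :
    mv A (Pi.single i c) = c • vec (A.getD (pos i) 0) := by
  have _ := d
  funext k
  rw [mv_apply, Finset.sum_eq_single i]
  · rw [Pi.single_eq_same]; rfl
  · intro j _ hj
    rw [Pi.single_eq_of_ne hj, zero_mul]
  · intro h; exact absurd (Finset.mem_univ i) h

/-- **Checked symmetric matrices give involutions.** -/
theorem exists_invol {A ys : List ℕ} (h : checkMat 8 A ys = true) (hs : symm A = true) :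
    ∃ t : Co0, t * t = 1 ∧ ∀ (i : GolayPt) (v : leechLattice), (v : GolayPt → ℤ) = Pi.single i 8 →
      ((t • v : leechLattice) : GolayPt → ℤ) = vec (A.getD (pos i) 0) := by
  obtain ⟨t, ht⟩ := exists_co0 h
  have h' := h
  unfold checkMat at h'
  rw [Bool.and_eq_true, Bool.and_eq_true, Bool.and_eq_true] at h'
  have hcanc : ∀ y z : GolayPt → ℤ, (8 : ℤ) • y = (8 : ℤ) • z → y = z := by
    intro y z hyz
    funext p
    have := congrFun hyz p
    rw [Pi.smul_apply, Pi.smul_apply, smul_eq_mul, smul_eq_mul] at this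
    omega
  refine ⟨t, ?_, fun i v hv => ?_⟩
  · apply Subtype.ext
    apply Equiv.ext
    intro x
    apply Subtype.ext
    show (((t * t) • x : leechLattice) : GolayPt → ℤ) = (x : GolayPt → ℤ)
    rw [mul_smul]
    apply hcanc
    apply hcanc
    have h1 : (8 : ℤ) • ((t • (t • x) : leechLattice) : GolayPt → ℤ) = mv A ((t • x : leechLattice) : GolayPt → ℤ) :=
      (ht (t • x)).symm
    have h2 : (8 : ℤ) • ((t • x : leechLattice) : GolayPt → ℤ) = mv A (x : GolayPt → ℤ) := (ht x).symm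
    have h3 : mv A ((8 : ℤ) • ((t • x : leechLattice) : GolayPt → ℤ)) =
        (8 : ℤ) • mv A ((t • x : leechLattice) : GolayPt → ℤ) := by
      funext k
      rw [Pi.smul_apply, smul_eq_mul, mv_apply, mv_apply, Finset.mul_sum]
      exact Finset.sum_congr rfl fun j _ => by rw [Pi.smul_apply, smul_eq_mul]; ring
    rw [h1, ← h3, h2, mv_mv h'.1.2 hs, ← mul_smul]
    norm_num
  · apply hcanc
    have h2 : (8 : ℤ) • ((t • v : leechLattice) : GolayPt → ℤ) = mv A (v : GolayPt → ℤ) := (ht v).symm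
    rw [h2, hv, mv_single (d := 8)]

theorem chk2 : checkMat 8 A2 Y2 = true := Cfsg.Agent.LeechMat.Quick.mat_of (by decide +kernel)
theorem chk3 : checkMat 8 A3 Y3 = true := Cfsg.Agent.LeechMat.Quick.mat_of (by decide +kernel)
theorem chk4 : checkMat 8 A4 Y4 = true := Cfsg.Agent.LeechMat.Quick.mat_of (by decide +kernel)
theorem chk5 : checkMat 8 A5 Y5 = true := Cfsg.Agent.LeechMat.Quick.mat_of (by decide +kernel)
theorem chk6 : checkMat 8 A6 Y6 = true := Cfsg.Agent.LeechMat.Quick.mat_of (by decide +kernel)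
theorem sym2 : symm A2 = true := by decide +kernel
theorem sym3 : symm A3 = true := by decide +kernel
theorem sym4 : symm A4 = true := by decide +kernel
theorem sym5 : symm A5 = true := by decide +kernel
theorem sym6 : symm A6 = true := by decide +kernel

theorem getD2 : A2.getD 2 0 = R2 := by decide +kernel
theorem getD3 : A3.getD 23 0 = R3 := by decide +kernel
theorem getD4 : A4.getD 1 0 = R4 := by decide +kernel
theorem getD5 : A5.getD 23 0 = R5 := by decide +kernel
theorem getD6 : A6.getD 1 0 = R6 := by decide +kernel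

end Cfsg.Agent.H995.Co1F
end

-- part: H995/Co1F/Std
section
/-!
# The vectors of the standard shapes are good
-/

set_option autoImplicit false

namespace Cfsg.Agent.H995.Co1F

open Cfsg
open Cfsg.Agent.SporadicA.Co0Mono
open Cfsg.Agent.MonsterX.FrameStab (FixesFrame fixesFrame_mul)
open Cfsg.Agent.SporadicStructure.Co0Base (e8 e8_coe)
open Cfsg.Agent.Leech.Code Cfsg.Agent.Leech.Basic
open Cfsg.Agent.SporadicA.GolayBase (fin mem_fin enc)
open Cfsg.Agent.LeechMat.Elements (vec checkMat)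
open Cfsg.Agent.LeechMat.Code (pos)
open scoped Pointwise

/-! ### words inside a set -/

/-- the words inside `X` are `0` and `W` -/
def chkIn (X W : ℕ) : Bool :=
  (List.range 4096).all fun c => !(Nat.beq (enc c &&& X) (enc c)) || (Nat.beq (enc c) 0 || Nat.beq (enc c) W)

theorem words_in {X W : ℕ} (h : chkIn X W = true) {d : Finset GolayPt} (hd : d ∈ Words) (hdX : d ⊆ fin X) :
    d = ∅ ∨ d = fin W := by
  have h1 := (Cfsg.Agent.SporadicA.GolayBase.mem_supports_iff d).1 hd
  obtain ⟨c, hc, hce⟩ := Cfsg.Agent.SporadicA.GolayBase.isCode_iff_exists.1 h1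
  have h2 := List.all_eq_true.1 h c (List.mem_range.2 hc)
  have hfin := Cfsg.Agent.SporadicA.GolayBase.fin_maskOf d
  rw [Bool.or_eq_true, Bool.or_eq_true, Bool.not_eq_true'] at h2
  rw [← hce] at h2
  have hsub : Cfsg.Agent.SporadicA.GolayBase.maskOf d &&& X = Cfsg.Agent.SporadicA.GolayBase.maskOf d := by
    apply Nat.eq_of_testBit_eq
    intro k
    rw [Nat.testBit_and]
    by_cases hk : k < 24
    · by_cases hb : (Cfsg.Agent.SporadicA.GolayBase.maskOf d).testBit k = true
      · have h3 : Cfsg.Agent.SporadicA.GolayBase.pt k ∈ d := by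
          rw [← hfin, mem_fin, Cfsg.Agent.SporadicA.GolayBase.idx_pt hk]
          exact hb
        have h4 := mem_fin.1 (hdX h3)
        rw [Cfsg.Agent.SporadicA.GolayBase.idx_pt hk] at h4
        rw [h4, Bool.and_true]
      · rw [Bool.not_eq_true] at hb
        rw [hb, Bool.false_and]
    · have hlt := Cfsg.Agent.SporadicA.GolayBase.maskOf_lt d
      have h3 : (Cfsg.Agent.SporadicA.GolayBase.maskOf d).testBit k = false :=
        Nat.testBit_lt_two_pow (lt_of_lt_of_le hlt (Nat.pow_le_pow_right (by norm_num) (by omega)))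
      rw [h3, Bool.false_and]
  rw [hsub, Nat.beq_refl] at h2
  rcases h2 with h2 | h2 | h2
  · exact absurd h2 (by decide)
  · left
    rw [← hfin, Nat.eq_of_beq_eq_true h2]
    ext p
    rw [mem_fin]
    simp
  · right
    rw [← hfin, Nat.eq_of_beq_eq_true h2]

/-! ### signs -/

theorem isLeech_zero_of {x : GolayPt → ℤ} (hx : x ∈ leechLattice) {i : GolayPt} (h : x i % 2 = 0) : IsLeech 0 x := by
  rcases isLeech_zero_or_one hx with h1 | h1
  · exact h1
  · exfalso
    have := h1.par i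
    unfold Int.ModEq at this
    omega

/-- Two even vectors with the same absolute values differ by a sign change, if there is only one nonempty word in the
support. -/
theorem sign_fix {v r : leechLattice} (hv : IsLeech 0 (v : GolayPt → ℤ)) (hr : IsLeech 0 (r : GolayPt → ℤ))
    {X W : Finset GolayPt} (hX : ∀ i, i ∉ X → (r : GolayPt → ℤ) i = 0)
    (hW : ∀ i, (i ∈ W → (r : GolayPt → ℤ) i % 4 = 2) ∧ (i ∉ W → (r : GolayPt → ℤ) i % 4 = 0))
    (hin : ∀ d ∈ Words, d ⊆ X → d = ∅ ∨ d = W)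
    (h : ∀ i, (v : GolayPt → ℤ) i = (r : GolayPt → ℤ) i ∨ (v : GolayPt → ℤ) i = -(r : GolayPt → ℤ) i) :
    ∃ c : golayCode, signCo0 c • v = r := by
  classical
  set N : Finset GolayPt := Finset.univ.filter fun i => (v : GolayPt → ℤ) i ≠ (r : GolayPt → ℤ) i with hN
  have hmN : ∀ i, i ∈ N ↔ (v : GolayPt → ℤ) i ≠ (r : GolayPt → ℤ) i := fun i => by simp [hN]
  have hNX : N ⊆ X := by
    intro i hi
    by_contra h1
    apply (hmN i).1 hi
    have h2 := hX i h1
    rcases h i with h3 | h3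
    · exact h3
    · rw [h3, h2]; rfl
  have hsum : ∑ i, (v : GolayPt → ℤ) i = ∑ i, (r : GolayPt → ℤ) i - 2 * ∑ i ∈ N, (r : GolayPt → ℤ) i := by
    have e : ∀ i, (v : GolayPt → ℤ) i = (r : GolayPt → ℤ) i - 2 * (if i ∈ N then (r : GolayPt → ℤ) i else 0) := by
      intro i
      by_cases hi : i ∈ N
      · rw [if_pos hi]
        rcases h i with h3 | h3
        · exact absurd h3 ((hmN i).1 hi)
        · rw [h3]; ring
      · rw [if_neg hi]
        have := (not_iff_not.2 (hmN i)).1 hi
        rw [not_not] at this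
        rw [this]; ring
    rw [Finset.sum_congr rfl fun i _ => e i, Finset.sum_sub_distrib, ← Finset.mul_sum, Finset.sum_ite_mem,
      Finset.univ_inter]
  have hmod : ∑ i ∈ N, (r : GolayPt → ℤ) i ≡ 2 * ((N ∩ W).card : ℤ) [ZMOD 4] := by
    have e : ∀ i ∈ N, (r : GolayPt → ℤ) i ≡ (if i ∈ W then 2 else 0) [ZMOD 4] := by
      intro i _
      unfold Int.ModEq
      by_cases hi : i ∈ W
      · rw [if_pos hi, (hW i).1 hi]; rfl
      · rw [if_neg hi, (hW i).2 hi]; rfl
    have h2 : ∑ i ∈ N, (r : GolayPt → ℤ) i ≡ ∑ i ∈ N, (if i ∈ W then (2 : ℤ) else 0) [ZMOD 4] := by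
      clear_value N
      clear hsum hNX hmN hN
      induction N using Finset.induction_on with
      | empty => rfl
      | insert a s ha ih =>
        rw [Finset.sum_insert ha, Finset.sum_insert ha]
        exact (e a (Finset.mem_insert_self a s)).add (ih fun i hi => e i (Finset.mem_insert_of_mem hi))
    rw [Finset.sum_ite_mem, Finset.sum_const, nsmul_eq_mul, mul_comm] at h2
    exact h2
  have heven : Even (N ∩ W).card := by
    have h1 := hv.sum
    have h2 := hr.sum
    unfold Int.ModEq at h1 h2 hmod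
    rw [Nat.even_iff]
    omega
  obtain ⟨c, hc, hcX⟩ := exists_inter hNX (fun d hd hdX => by
    rcases hin d hd hdX with rfl | rfl
    · simp
    · exact heven)
  refine ⟨⟨ind c, (mem_words_iff c).1 hc⟩, ?_⟩
  apply Subtype.ext
  funext i
  rw [signCo0_smul, signMap_apply]
  have hci : sgn (ind c i) = if i ∈ c then -1 else 1 := by
    rw [ind_apply]
    by_cases hi : i ∈ c
    · rw [if_pos hi, if_pos hi]; exact sgn_one
    · rw [if_neg hi, if_neg hi]; exact sgn_zero
  show sgn (ind c i) * _ = _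
  rw [hci]
  by_cases hiX : i ∈ X
  · by_cases hi : i ∈ c
    · have hiN : i ∈ N := by rw [← hcX]; exact Finset.mem_inter.2 ⟨hi, hiX⟩
      rw [if_pos hi]
      rcases h i with h3 | h3
      · exact absurd h3 ((hmN i).1 hiN)
      · rw [h3]; ring
    · have hiN : i ∉ N := fun h4 => hi (by rw [← hcX] at h4; exact (Finset.mem_inter.1 h4).1)
      have := (not_iff_not.2 (hmN i)).1 hiN
      rw [not_not] at this
      rw [if_neg hi, this, one_mul]
  · have h2 := hX i hiX
    have h3 : (v : GolayPt → ℤ) i = 0 := by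
      rcases h i with h3 | h3 <;> rw [h3, h2]
      rfl
    rw [h3, h2, mul_zero]

/-! ### the standard shapes -/

/-- The final step for an even shape: `P` is the pattern of absolute values. -/
theorem finish {v : leechLattice} {P : GolayPt → ℤ}
    (hv : ∀ i, (v : GolayPt → ℤ) i = P i ∨ (v : GolayPt → ℤ) i = -P i) {g : Equiv.Perm GolayPt} (hg : g ∈ M24)
    {A ys : List ℕ} (hA : checkMat 8 A ys = true) (hs : symm A = true) {R : ℕ} (j : GolayPt)
    (hR : A.getD (pos j) 0 = R) (hP : ∀ i, vec R i = P (g.symm i) ∨ vec R i = -P (g.symm i))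
    (X W : ℕ) (hX : ∀ i, i ∉ fin X → vec R i = 0)
    (hW : ∀ i, (i ∈ fin W → vec R i % 4 = 2) ∧ (i ∉ fin W → vec R i % 4 = 0)) (hin : chkIn X W = true) : Good v := by
  obtain ⟨t, ht, htR⟩ := exists_invol hA hs
  have hr : ((t • e8 j : leechLattice) : GolayPt → ℤ) = vec R := by
    rw [htR j (e8 j) (e8_coe j), hR]
  apply Good.of_smul (fixes_perm ⟨g, hg⟩)
  have hw : ∀ i, ((permCo0 ⟨g, hg⟩ • v : leechLattice) : GolayPt → ℤ) i = ((t • e8 j : leechLattice) : GolayPt → ℤ) i ∨
      ((permCo0 ⟨g, hg⟩ • v : leechLattice) : GolayPt → ℤ) i = -((t • e8 j : leechLattice) : GolayPt → ℤ) i := by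
    intro i
    rw [permCo0_smul, permMap_apply, hr]
    show (v : GolayPt → ℤ) (g.symm i) = _ ∨ (v : GolayPt → ℤ) (g.symm i) = _
    rcases hv (g.symm i) with h1 | h1 <;> rcases hP i with h2 | h2 <;> rw [h1, h2]
    · left; rfl
    · right; rw [neg_neg]
    · right; rfl
    · left; rfl
  have hev : vec R none % 2 = 0 := by
    rcases em (none ∈ fin W) with h1 | h1
    · have := (hW none).1 h1; omega
    · have := (hW none).2 h1; omega
  obtain ⟨c, hc⟩ := sign_fix (v := permCo0 ⟨g, hg⟩ • v) (r := t • e8 j)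
    (isLeech_zero_of (permCo0 ⟨g, hg⟩ • v).2 (i := none) (by
      rcases hw none with h1 | h1 <;> rw [h1, hr] <;> omega))
    (isLeech_zero_of (t • e8 j).2 (i := none) (by rw [hr]; exact hev)) (X := fin X) (W := fin W)
    (fun i hi => by rw [hr]; exact hX i hi) (fun i => by rw [hr]; exact hW i)
    (fun d hd hdX => words_in hin hd hdX) hw
  exact Good.of_smul (fixes_sign c) (Good.of_eq ht hc)

theorem card_fin_eq {m n : ℕ} (hm : m < 2 ^ 24) (h : Cfsg.Agent.SporadicA.GolayBase.popcount m = n) : (fin m).card = n := by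
  rw [Cfsg.Agent.SporadicA.GolayBase.card_eq_popcount, Cfsg.Agent.SporadicA.GolayBase.maskOf_fin hm, h]

/-- `(4^4, 0^20)` -/
theorem good_four {v : leechLattice} {T : Finset GolayPt} (hT : T.card = 4)
    (h1 : ∀ i ∈ T, (v : GolayPt → ℤ) i = 4 ∨ (v : GolayPt → ℤ) i = -4)
    (h0 : ∀ i, i ∉ T → (v : GolayPt → ℤ) i = 0) : Good v := by
  obtain ⟨g, hg, hgT⟩ := four_set hT (T' := fin 15) (card_fin_eq (by norm_num) (by decide +kernel))
  have hmem : ∀ i, g.symm i ∈ T ↔ i ∈ fin 15 := by
    intro i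
    rw [← hgT, ← Finset.inv_smul_mem_iff]
    rfl
  refine finish (P := fun i => if i ∈ T then 4 else 0) (fun i => ?_) hg chk2 sym2 (some 2) getD2 (fun i => ?_)
    15 0 (by decide +kernel) (by decide +kernel) (by decide +kernel)
  · by_cases hi : i ∈ T
    · simp only [if_pos hi]; exact h1 i hi
    · simp only [if_neg hi]; left; exact h0 i hi
  · have h2 : ∀ i, vec R2 i = if i ∈ fin 15 then 4 else 0 := by decide +kernel
    left
    rw [h2 i]
    by_cases hi : i ∈ fin 15
    · rw [if_pos hi, if_pos ((hmem i).2 hi)]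
    · rw [if_neg hi, if_neg (fun h => hi ((hmem i).1 h))]

/-- mask of the standard octad -/
def o0 : ℕ := 0xc75001

theorem o0_mem : fin o0 ∈ octads :=
  ⟨(Cfsg.Agent.SporadicA.GolayBase.fin_mem_supports_iff (by norm_num [o0])).2 (by decide +kernel),
    card_fin_eq (by norm_num [o0]) (by decide +kernel)⟩

/-- `(6, 2^7, 0^16)` -/
theorem good_six {v : leechLattice} {O : Finset GolayPt} (hO : O ∈ octads) {p : GolayPt} (hp : p ∈ O)
    (h6 : (v : GolayPt → ℤ) p = 6 ∨ (v : GolayPt → ℤ) p = -6)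
    (h2 : ∀ i ∈ O, i ≠ p → (v : GolayPt → ℤ) i = 2 ∨ (v : GolayPt → ℤ) i = -2)
    (h0 : ∀ i, i ∉ O → (v : GolayPt → ℤ) i = 0) : Good v := by
  obtain ⟨g, hg, hgO, hgp⟩ := octad_flag hO o0_mem hp (p' := some 0) (by decide +kernel)
  have hmem : ∀ i, g.symm i ∈ O ↔ i ∈ fin o0 := by
    intro i
    rw [← hgO, ← Finset.inv_smul_mem_iff]
    rfl
  have hpt : ∀ i, g.symm i = p ↔ i = some 0 := by
    intro i
    rw [Equiv.symm_apply_eq, hgp]
  refine finish (P := fun i => if i = p then 6 else if i ∈ O then 2 else 0) (fun i => ?_) hg chk3 sym3 none getD3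
    (fun i => ?_) o0 o0 (by decide +kernel) (by decide +kernel) (by decide +kernel)
  · by_cases hi : i = p
    · simp only [if_pos hi]; rw [hi]; exact h6
    · simp only [if_neg hi]
      by_cases hi' : i ∈ O
      · simp only [if_pos hi']; exact h2 i hi' hi
      · simp only [if_neg hi']; left; exact h0 i hi'
  · have h3 : ∀ i, vec R3 i = if i = some 0 then -6 else if i ∈ fin o0 then 2 else 0 := by decide +kernel
    rw [h3 i]
    by_cases hi : i = some 0
    · right
      rw [if_pos hi, if_pos ((hpt i).2 hi)]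
    · left
      rw [if_neg hi, if_neg (fun h => hi ((hpt i).1 h))]
      by_cases hi' : i ∈ fin o0
      · rw [if_pos hi', if_pos ((hmem i).2 hi')]
      · rw [if_neg hi', if_neg (fun h => hi' ((hmem i).1 h))]

/-- `(4^2, 2^8, 0^14)` -/
theorem good_eight {v : leechLattice} {O : Finset GolayPt} (hO : O ∈ octads) {p q : GolayPt} (hp : p ∉ O) (hq : q ∉ O)
    (hpq : p ≠ q) (hvp : (v : GolayPt → ℤ) p = 4 ∨ (v : GolayPt → ℤ) p = -4)
    (hvq : (v : GolayPt → ℤ) q = 4 ∨ (v : GolayPt → ℤ) q = -4)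
    (h2 : ∀ i ∈ O, (v : GolayPt → ℤ) i = 2 ∨ (v : GolayPt → ℤ) i = -2)
    (h0 : ∀ i, i ∉ O → i ≠ p → i ≠ q → (v : GolayPt → ℤ) i = 0) : Good v := by
  obtain ⟨g, hg, hgO, hgp, hgq⟩ := octad_pair hO o0_mem hp hq hpq (p' := some 1) (q' := some 2) (by decide +kernel)
    (by decide +kernel) (by decide +kernel)
  have hmem : ∀ i, g.symm i ∈ O ↔ i ∈ fin o0 := by
    intro i
    rw [← hgO, ← Finset.inv_smul_mem_iff]
    rfl
  have hpt : ∀ i, g.symm i = p ↔ i = some 1 := by
    intro i
    rw [Equiv.symm_apply_eq, hgp]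
  have hqt : ∀ i, g.symm i = q ↔ i = some 2 := by
    intro i
    rw [Equiv.symm_apply_eq, hgq]
  refine finish (P := fun i => if i = p then 4 else if i = q then 4 else if i ∈ O then 2 else 0) (fun i => ?_) hg
    chk4 sym4 (some 1) getD4 (fun i => ?_) (o0 + 6) o0 (by decide +kernel) (by decide +kernel) (by decide +kernel)
  · by_cases hi : i = p
    · simp only [if_pos hi]; rw [hi]; exact hvp
    · simp only [if_neg hi]
      by_cases hi1 : i = q
      · simp only [if_pos hi1]; rw [hi1]; exact hvq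
      · simp only [if_neg hi1]
        by_cases hi' : i ∈ O
        · simp only [if_pos hi']; exact h2 i hi'
        · simp only [if_neg hi']; left; exact h0 i hi' hi hi1
  · have h3 : ∀ i, vec R4 i = if i = some 1 then 4 else if i = some 2 then 4 else if i ∈ fin o0 then 2 else 0 := by
      decide +kernel
    left
    rw [h3 i]
    by_cases hi : i = some 1
    · rw [if_pos hi, if_pos ((hpt i).2 hi)]
    · rw [if_neg hi, if_neg (fun h => hi ((hpt i).1 h))]
      by_cases hi1 : i = some 2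
      · rw [if_pos hi1, if_pos ((hqt i).2 hi1)]
      · rw [if_neg hi1, if_neg (fun h => hi1 ((hqt i).1 h))]
        by_cases hi' : i ∈ fin o0
        · rw [if_pos hi', if_pos ((hmem i).2 hi')]
        · rw [if_neg hi', if_neg (fun h => hi' ((hmem i).1 h))]

/-- mask of the standard dodecad -/
def d0 : ℕ := 340831

theorem d0_mem : fin d0 ∈ dodecads :=
  ⟨(Cfsg.Agent.SporadicA.GolayBase.fin_mem_supports_iff (by norm_num [d0])).2 (by decide +kernel),
    card_fin_eq (by norm_num [d0]) (by decide +kernel)⟩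

/-- `(4, 2^12, 0^11)` -/
theorem good_twelve {v : leechLattice} {D : Finset GolayPt} (hD : D ∈ dodecads) {p : GolayPt} (hp : p ∉ D)
    (hvp : (v : GolayPt → ℤ) p = 4 ∨ (v : GolayPt → ℤ) p = -4)
    (h2 : ∀ i ∈ D, (v : GolayPt → ℤ) i = 2 ∨ (v : GolayPt → ℤ) i = -2)
    (h0 : ∀ i, i ∉ D → i ≠ p → (v : GolayPt → ℤ) i = 0) : Good v := by
  obtain ⟨g, hg, hgO, hgp⟩ := dodecad_out hD d0_mem hp (p' := none) (by decide +kernel)
  have hmem : ∀ i, g.symm i ∈ D ↔ i ∈ fin d0 := by
    intro i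
    rw [← hgO, ← Finset.inv_smul_mem_iff]
    rfl
  have hpt : ∀ i, g.symm i = p ↔ i = none := by
    intro i
    rw [Equiv.symm_apply_eq, hgp]
  refine finish (P := fun i => if i = p then 4 else if i ∈ D then 2 else 0) (fun i => ?_) hg
    chk5 sym5 none getD5 (fun i => ?_) (d0 + 2 ^ 23) d0 (by decide +kernel) (by decide +kernel) (by decide +kernel)
  · by_cases hi : i = p
    · simp only [if_pos hi]; rw [hi]; exact hvp
    · simp only [if_neg hi]
      by_cases hi' : i ∈ D
      · simp only [if_pos hi']; exact h2 i hi'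
      · simp only [if_neg hi']; left; exact h0 i hi' hi
  · have h3 : ∀ i, vec R5 i = if i = none then 4 else if i = some 0 then -2 else if i ∈ fin d0 then 2 else 0 := by
      decide +kernel
    rw [h3 i]
    by_cases hi : i = none
    · left
      rw [if_pos hi, if_pos ((hpt i).2 hi)]
    · rw [if_neg hi, if_neg (fun h => hi ((hpt i).1 h))]
      by_cases hi1 : i = some 0
      · right
        have h5 : i ∈ fin d0 := by rw [hi1]; decide +kernel
        rw [if_pos hi1, if_pos ((hmem i).2 h5)]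
      · left
        rw [if_neg hi1]
        by_cases hi' : i ∈ fin d0
        · rw [if_pos hi', if_pos ((hmem i).2 hi')]
        · rw [if_neg hi', if_neg (fun h => hi' ((hmem i).1 h))]

/-- `(5, (-3)^2, 1^21)` -/
theorem good_odd {v : leechLattice} {p q r : GolayPt} (hpq : p ≠ q) (hpr : p ≠ r) (hqr : q ≠ r)
    (hp : (v : GolayPt → ℤ) p = 5) (hq : (v : GolayPt → ℤ) q = -3) (hr : (v : GolayPt → ℤ) r = -3)
    (h1 : ∀ i, i ≠ p → i ≠ q → i ≠ r → (v : GolayPt → ℤ) i = 1) : Good v := by
  obtain ⟨g, hg, hgp, hgq, hgr⟩ := three_map hpq hpr hqr (p' := none) (q' := some 0) (r' := some 1) (by decide +kernel)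
    (by decide +kernel) (by decide +kernel)
  obtain ⟨t, ht, htR⟩ := exists_invol chk6 sym6
  apply Good.of_smul (fixes_perm ⟨g, hg⟩)
  apply Good.of_eq ht (j := some 1)
  apply Subtype.ext
  funext i
  rw [htR (some 1) _ (e8_coe (some 1)), show A6.getD (pos (some 1)) 0 = R6 from getD6]
  have h3 : ∀ i, vec R6 i = if i = none then 5 else if i = some 0 then -3 else if i = some 1 then -3 else 1 := by
    decide +kernel
  rw [permCo0_smul, permMap_apply, h3 i]
  show (v : GolayPt → ℤ) (g.symm i) = _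
  by_cases hi : i = none
  · rw [if_pos hi, hi, show g.symm none = p by rw [Equiv.symm_apply_eq, hgp], hp]
  · rw [if_neg hi]
    by_cases hi1 : i = some 0
    · rw [if_pos hi1, hi1, show g.symm (some 0) = q by rw [Equiv.symm_apply_eq, hgq], hq]
    · rw [if_neg hi1]
      by_cases hi2 : i = some 1
      · rw [if_pos hi2, hi2, show g.symm (some 1) = r by rw [Equiv.symm_apply_eq, hgr], hr]
      · rw [if_neg hi2]
        apply h1
        · rw [Ne, Equiv.symm_apply_eq, hgp]; exact hi
        · rw [Ne, Equiv.symm_apply_eq, hgq]; exact hi1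
        · rw [Ne, Equiv.symm_apply_eq, hgr]; exact hi2

end Cfsg.Agent.H995.Co1F
end

-- part: H995/Co1F/DataB
section
/-!
# Triples of involutions for the classes of `M24`, and decompositions of the basis of the code (data)
-/

set_option autoImplicit false

namespace Cfsg.Agent.H995.Co1F

/-- `c = a b d`, and the decompositions of the basis words -/
structure TRec where
  c : ℕ
  a : ℕ
  b : ℕ
  d : ℕ
  e : List (ℕ × ℕ × ℕ)

/-- the record of the class `r0` -/
def q0 : TRec where
  c := 817407390404986744204366159001526304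
  a := 817407390404986744204366159001526304
  b := 984818244535754528103549039458486304
  d := 984818244535754528103549039458486304
  e := [(15515712, 13062145, 0), (6447171, 13062145, 0), (15274244, 13938692, 0), (210955, 14716939, 0), (10170384, 0, 0), (10350689, 13062145, 0), (15515712, 0, 0), (6656640, 15864000, 0), (0, 13938692, 0), (0, 15864000, 0), (10110017, 13062145, 0), (9347075, 14716939, 0)]

/-- the record of the class `r1` -/
def q1 : TRec where
  c := 544731467543530313478419418836575493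
  a := 544731467543530313478419418836575493
  b := 984818244535754528103549039458486304
  d := 984818244535754528103549039458486304
  e := [(13104377, 13062145, 0), (13499802, 4845570, 0), (7345676, 13938692, 0), (12500032, 7221256, 0), (7058224, 3416079, 0), (5648273, 1667135, 0), (16558121, 15335473, 0), (15618976, 3416079, 0), (7948473, 13484091, 0), (3106600, 14716939, 0), (9558888, 5902343, 0), (13881089, 11538486, 0)]

/-- the record of the class `r2` -/
def q2 : TRec where
  c := 693793083484272819170454468079749312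
  a := 818417711753696974483914894103088416
  b := 195575887210732589298578593227541696
  d := 984818244535754528103549039458486304
  e := [(12222476, 15130653, 0), (6615630, 8683614, 0), (6599853, 843820, 1302533), (14562465, 843820, 1302533), (10170384, 0, 0), (1192108, 843820, 0), (15515712, 0, 0), (12222476, 843820, 0), (4223245, 15130653, 0), (5652556, 8683614, 0), (13370381, 15130653, 0), (10385421, 15130653, 0)]

/-- the record of the class `r3` -/
def q3 : TRec where
  c := 917150455939460404939281612745760357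
  a := 882331097009847378070907503889565037
  b := 312941897574483570400844489455916553
  d := 984818244535754528103549039458486304
  e := [(16324272, 13710140, 0), (4259019, 5939296, 4845570), (8632760, 5051380, 4845570), (5273273, 13710140, 0), (7469828, 10768524, 4845570), (6516560, 3130320, 4845570), (3689957, 7693232, 4845570), (9820805, 3698756, 4845570), (8973748, 15287160, 4845570), (10929004, 3130320, 0), (14195469, 10232008, 4845570), (14445668, 9147228, 0)]

/-- the record of the class `r4` -/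
def q4 : TRec where
  c := 192613887460257670335523932379526859
  a := 515501029353775094361077550756778144
  b := 875853356779646293452674525622262187
  d := 984818244535754528103549039458486304
  e := [(14152525, 5652556, 0), (8704546, 5329044, 4845570), (13938692, 0, 0), (13611456, 463064, 0), (1769924, 15380566, 4845570), (16479188, 12312770, 0), (6152900, 5329044, 0), (3130320, 12312770, 4845570), (12423380, 15380566, 4845570), (16479188, 15380566, 4845570), (2180760, 12382234, 4845570), (4336072, 463064, 0)]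

/-- the record of the class `r5` -/
def q5 : TRec where
  c := 766078480764522267812074796576527779
  a := 894023423856696691000174015117805569
  b := 91237147086434376827419659221491048
  d := 984818244535754528103549039458486304
  e := [(11980871, 12747077, 13062145), (12629597, 6918327, 13062145), (16759068, 13463644, 13062145), (12629597, 11211250, 13062145), (11548936, 13463644, 13062145), (6714673, 3981774, 13062145), (4132673, 6709678, 13062145), (15271323, 16662667, 13062145), (9643861, 11211250, 13062145), (5476616, 9949244, 13062145), (9817626, 9969957, 0), (14919680, 0, 0)]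

/-- the record of the class `r6` -/
def q6 : TRec where
  c := 630337107645975966183283128165411569
  a := 381008218701924633485171803578251409
  b := 818417711753696974483914894103088416
  d := 984818244535754528103549039458486304
  e := [(14598693, 15515712, 0), (14038907, 16692751, 0), (997948, 15500963, 0), (12090417, 5637807, 0), (12563283, 10170384, 0), (13581318, 6668540, 0), (16077412, 15515712, 0), (3016678, 13463644, 0), (4038912, 0, 0), (12584506, 6653471, 0), (2016287, 3393107, 0), (587102, 2225919, 0)]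

/-- the record of the class `r7` -/
def q7 : TRec where
  c := 970531382982415564833320819807602177
  a := 971836263857004386005188942625883137
  b := 970531342981781179981564350474324160
  d := 984818244535754528103549039458486304
  e := [(6673507, 10846245, 0), (5820827, 525274, 0), (6755839, 11371519, 0), (14521843, 11371519, 0), (14832023, 3822531, 0), (378331, 11371519, 0), (2491452, 9949244, 0), (6755839, 4182267, 0), (3999224, 361272, 0), (140167, 3822531, 0), (8065148, 9949244, 0), (10144135, 3822531, 0)]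

/-- the record of the class `r8` -/
def q8 : TRec where
  c := 271787644222412330678682982691407336
  a := 978975687484598267695364582474554862
  b := 271793938064107129041721664064306216
  d := 984818244535754528103549039458486304
  e := [(13062145, 0, 0), (3719203, 2969648, 0), (8622214, 5210132, 0), (3678776, 7221256, 0), (10170384, 0, 0), (13062145, 2969648, 0), (6053905, 8937586, 0), (3719203, 6475812, 0), (16527728, 10825794, 0), (6053905, 4415544, 0), (95313, 8937586, 0), (2242672, 10825794, 0)]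

/-- the record of the class `r9` -/
def q9 : TRec where
  c := 441366995423741609312549231512542638
  a := 707828527147053429565191113023867599
  b := 844385991642047318116928167390856391
  d := 984818244535754528103549039458486304
  e := [(401355, 8024242, 0), (16195134, 9830549, 4845570), (13925153, 2916505, 0), (15268876, 9830549, 0), (10687016, 0, 4845570), (9341245, 2916505, 4845570), (4394981, 12506013, 0), (6404691, 12644542, 4845570), (2902972, 283537, 4845570), (12936985, 12222476, 4845570), (6404691, 5415866, 4845570), (11911538, 15213494, 4845570)]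

/-- the record of the class `r10` -/
def q10 : TRec where
  c := 352520454927167266887859745207964736
  a := 61095823814977150678620107249932011
  b := 44707945025496145619541385671629539
  d := 418284137187687763274901920266410451
  e := [(11223950, 11088501, 2031657), (767511, 3297305, 2031657), (1887910, 8884587, 0), (5909926, 11088501, 0), (14251525, 3297305, 2031657), (8265346, 8884587, 0), (5238729, 905886, 2031657), (10548633, 1897223, 2031657), (8701629, 4162183, 2031657), (12723645, 4162183, 2031657), (11329168, 1122713, 0), (12297761, 0, 2031657)]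

/-- the record of the class `r11` -/
def q11 : TRec where
  c := 639394897622536056909024109674466560
  a := 734810291915145310493271930708808748
  b := 674478422077000042141508942139901953
  d := 209088122166488112999526320741439185
  e := [(13062145, 0, 0), (4994521, 1929682, 0), (2949708, 5998157, 0), (9929280, 5998157, 0), (10417611, 1929682, 0), (10714613, 2470385, 0), (1095635, 4650911, 0), (9893393, 145176, 0), (4994521, 5878101, 0), (8861075, 4650911, 0), (4744776, 5998157, 0), (16168405, 2470385, 0)]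

/-- the record of the class `r12` -/
def q12 : TRec where
  c := 351844052827762829049910944796316010
  a := 332492695452263575585375045331289174
  b := 980150876343599078291985322429437037
  d := 984818244535754528103549039458486304
  e := [(11361349, 57883, 0), (2810896, 2121909, 0), (11265910, 12051189, 0), (5010234, 10698836, 0), (8894549, 6062602, 0), (14460737, 13361745, 0), (11361349, 4726955, 0), (2019456, 0, 0), (5727841, 13361745, 0), (2530661, 14656235, 0), (11361349, 6062602, 0), (11265910, 10723919, 0)]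

/-- the record of the class `r13` -/
def q13 : TRec where
  c := 59958983596740834366188217924985573
  a := 15962506600968255852156458894605495
  b := 218856910157072230930483217781274625
  d := 984818244535754528103549039458486304
  e := [(5671785, 7954823, 0), (14306830, 5538256, 4845570), (6280668, 4153500, 4845570), (16596579, 12394675, 0), (10190967, 15311203, 4845570), (2944836, 3006551, 0), (16777215, 14074367, 4845570), (1410188, 5538256, 0), (3026648, 4153500, 0), (6376663, 11509880, 0), (10677183, 14074367, 4845570), (6376663, 11509880, 4845570)]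

/-- the record of the class `r14` -/
def q14 : TRec where
  c := 20384579791191895985424879750235369
  a := 750986906162945175395263809584650535
  b := 297344181688718718006828887772386305
  d := 984818244535754528103549039458486304
  e := [(8716939, 2183687, 0), (7598525, 7578561, 0), (12538184, 8065148, 0), (12485089, 1950133, 0), (8704546, 10531706, 0), (14516588, 8065148, 0), (4747991, 13001395, 0), (15192751, 4686798, 0), (4825726, 14394118, 0), (2794227, 570301, 0), (7157154, 9737077, 0), (15735417, 2744762, 0)]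

/-- the record of the class `r15` -/
def q15 : TRec where
  c := 145797950094761687161608633680418285
  a := 333793457163354454162440027823508160
  b := 138259206308305717546381475188544069
  d := 984818244535754528103549039458486304
  e := [(2610325, 2425238, 0), (1410188, 6013102, 0), (6832158, 8307000, 0), (843820, 421910, 0), (1664160, 2322816, 0), (6832158, 7909678, 0), (8931660, 8683614, 0), (2019456, 0, 0), (12580272, 2322816, 0), (4581034, 6140088, 0), (7337022, 7909678, 0), (14374274, 14631152, 0)]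

/-- the record of the class `r16` -/
def q16 : TRec where
  c := 54061143792467787905420018783885681
  a := 309073592094066467684255788573576336
  b := 182072934483469168970506660205827661
  d := 984818244535754528103549039458486304
  e := [(4081329, 8442831, 0), (2808241, 9920603, 0), (8171715, 8978620, 0), (15628958, 13373586, 0), (13652978, 13791349, 0), (13978003, 9920603, 0), (14614404, 10400552, 0), (11980871, 8978620, 0), (967595, 14889305, 0), (10058826, 2552504, 0), (2799212, 6959589, 0), (11114125, 11530756, 0)]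

/-- the record of the class `r17` -/
def q17 : TRec where
  c := 296418681862333505317491920136189480
  a := 670333995580218557903665605617192532
  b := 354954220284718421586794435505886209
  d := 895326615983451852511978726981941348
  e := [(15950993, 6447171, 0), (12777991, 10028808, 0), (9405998, 11437653, 0), (9058487, 5628190, 0), (4958407, 5591417, 0), (15594226, 13391473, 0), (6801989, 10028808, 0), (3416079, 3434220, 0), (3999224, 6475812, 0), (14334090, 11362788, 0), (8358088, 219094, 0), (10902069, 16285946, 0)]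

/-- the record of the class `r18` -/
def q18 : TRec where
  c := 692782671643430358498584137066202775
  a := 673806531280713015596258574673794255
  b := 589545454503797505107662371866087425
  d := 587237288119099173979089669736959336
  e := [(8505411, 11952160, 5697579), (31554, 9465987, 0), (10429794, 0, 5697579), (14399385, 13348909, 0), (10846245, 9085422, 5697579), (12283140, 11952160, 0), (13791349, 9085422, 5697579), (5785794, 11952160, 5697579), (9058487, 6013102, 5697579), (9061365, 15573134, 0), (8158182, 16216547, 0), (13765431, 11317581, 0)]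

/-- the record of the class `r19` -/
def q19 : TRec where
  c := 311800539162905419356353909696843884
  a := 764122102813311204935758266349245041
  b := 727377384251545715709282757505328129
  d := 216067643066511402475552198516843920
  e := [(13062145, 0, 0), (4845570, 0, 0), (13938692, 0, 0), (8823769, 6697938, 0), (2269481, 6709678, 0), (10355535, 3900266, 0), (13587419, 6972313, 0), (10961337, 6709678, 0), (16601534, 6140088, 0), (7385844, 5366003, 0), (5420837, 3658529, 0), (2664522, 806987, 0)]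

/-- the record of the class `r20` -/
def q20 : TRec where
  c := 682877364871969722836355392054863185
  a := 263603436217062337734665663172564497
  b := 559478986542417259568242627522954325
  d := 86981367958407392434433310205893877
  e := [(6588684, 7241839, 0), (12842260, 3489985, 0), (5800935, 8876912, 0), (13052739, 13099110, 0), (1641341, 15118945, 0), (10188531, 9658806, 0), (7273261, 15118945, 0), (11876342, 12415695, 0), (1199086, 15332127, 0), (16092638, 16638425, 0), (9451104, 8925710, 0), (15297094, 11100169, 0)]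

/-- the record of the class `r21` -/
def q21 : TRec where
  c := 152660159869748298187992742290470223
  a := 590970235681369965492969987378399590
  b := 943842372178835372048392584753223681
  d := 760996591560032328868183917410426228
  e := [(7916140, 1570167, 0), (4177702, 12464518, 0), (10923185, 6164970, 0), (10923185, 4805882, 0), (5336373, 12342498, 0), (13024521, 11211250, 0), (2281204, 6059150, 0), (7177669, 12485089, 0), (3991792, 14716939, 0), (7916140, 1413139, 0), (12599513, 4948473, 0), (14971901, 16101503, 0)]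

/-- the record of the class `r22` -/
def q22 : TRec where
  c := 801752737117678585333135729932738209
  a := 724983372859987004231334303481871978
  b := 792399166951358281660995677538605057
  d := 23710599879492775666721044100846135
  e := [(12957859, 14156372, 0), (9268876, 1757549, 0), (2207772, 2322816, 0), (3739786, 12075408, 0), (3739786, 10170384, 0), (13553934, 905886, 0), (9869772, 14012618, 0), (9268876, 10653949, 0), (5971732, 8511869, 0), (5559212, 11899662, 0), (8561204, 14787257, 0), (13553934, 7180634, 0)]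

/-- the record of the class `r23` -/
def q23 : TRec where
  c := 798750777926542184211457386217854674
  a := 263697439737204307724767115862982912
  b := 215625134299281893422199291031237633
  d := 317082520246687933523238328788529715
  e := [(13404619, 13553934, 0), (5081773, 4666281, 0), (14641614, 13553934, 0), (8088382, 7541670, 0), (8762092, 12436136, 0), (1909678, 999806, 0), (16358262, 7541670, 0), (2019456, 0, 0), (2916505, 3416079, 0), (14407748, 12685424, 0), (11491068, 12436136, 0), (16591612, 12436136, 0)]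

/-- the record of the class `r24` -/
def q24 : TRec where
  c := 547179429011475480724681305400648085
  a := 845927669558797828799482140364704128
  b := 469278722893644215927616175694282978
  d := 756009773515125288846210107103826160
  e := [(14629810, 13201841, 0), (14117396, 14094678, 0), (6748407, 16044209, 0), (14044217, 15753531, 0), (12051189, 2343399, 0), (11952160, 0, 0), (14186774, 15380566, 0), (9969957, 1990887, 0), (9929280, 4038912, 0), (5241686, 15380566, 0), (9908775, 2584685, 0), (4819776, 4038912, 0)]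

/-- the records -/
def TR : List TRec := [q0, q1, q2, q3, q4, q5, q6, q7, q8, q9, q10, q11, q12, q13, q14, q15, q16, q17, q18, q19, q20, q21, q22, q23, q24]

end Cfsg.Agent.H995.Co1F
end

-- part: H995/Co1F/Trip
section
/-!
# Every monomial element of `Co0` is a product of three elements with central square
-/

set_option autoImplicit false

namespace Cfsg.Agent.H995.Co1F

open Cfsg
open Cfsg.Agent.SporadicA.Co0Mono
open Cfsg.Agent.SporadicA.GolayBase (isCode idx word word_apply basisMask)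
open Cfsg.Agent.SporadicA.GolayPerm (papp pimg pcomp permOf permOf_apply testBit_pimg_papp idx_permOf)
open Cfsg.Agent.SporadicStructure.M24El

/-- `x` squares into the centre -/
def Sq (x : Co0) : Prop := x * x ∈ Subgroup.center Co0

theorem Sq.conj {x : Co0} (h : Sq x) (u : Co0) : Sq (u * x * u⁻¹) := by
  unfold Sq at *
  have : u * x * u⁻¹ * (u * x * u⁻¹) = u * (x * x) * u⁻¹ := by group
  rw [this]
  have h2 : (Subgroup.center Co0).Normal := inferInstance
  exact h2.conj_mem _ h u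

theorem Sq.of_one {x : Co0} (h : x * x = 1) : Sq x := by
  unfold Sq
  rw [h]
  exact Subgroup.one_mem _

theorem sq_sign_perm {e : golayCode} {σ : M24} (hσ : σ * σ = 1)
    (he : (e : GolayPt → ZMod 2) + (wordPerm σ e : GolayPt → ZMod 2) = 0 ∨
      (e : GolayPt → ZMod 2) + (wordPerm σ e : GolayPt → ZMod 2) = 1) : Sq (signCo0 e * permCo0 σ) := by
  have h1 : signCo0 e * permCo0 σ * (signCo0 e * permCo0 σ) = signCo0 (e + wordPerm σ e) := by
    have h2 : permCo0 σ * signCo0 e * (permCo0 σ)⁻¹ = signCo0 (wordPerm σ e) := perm_mul_sign_mul_inv σ e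
    have h3 : permCo0 σ * permCo0 σ = 1 := by rw [← map_mul, hσ, map_one]
    have h4 : (permCo0 σ)⁻¹ = permCo0 σ := inv_eq_of_mul_eq_one_left h3
    rw [h4] at h2
    rw [signCo0_add, ← h2]
    group
  unfold Sq
  rw [h1]
  rcases he with he | he
  · have : e + wordPerm σ e = 0 := Subtype.ext he
    rw [this, signCo0_zero]
    exact Subgroup.one_mem _
  · have : e + wordPerm σ e = Cfsg.Agent.SporadicA.Co1Simple.allOne := Subtype.ext he
    rw [this]
    exact Cfsg.Agent.SporadicA.Co1Simple.allOne_mem_center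

/-! ### the checks -/

/-- `e` is a code word with `e + a(e) ∈ {0, 1}` -/
def inK (a e : ℕ) : Bool := isCode e && (Nat.beq (e ^^^ pimg a e) 0 || Nat.beq (e ^^^ pimg a e) 16777215)

/-- the check of a record -/
def chkT (q : TRec) : Bool :=
  ok q.c && ok q.a && ok q.b && ok q.d && Nat.beq (pcomp q.a q.a) idP && Nat.beq (pcomp q.b q.b) idP &&
    Nat.beq (pcomp q.d q.d) idP && Nat.beq (pcomp (pcomp q.a q.b) q.d) q.c &&
    (List.range 12).all fun k =>
      inK q.a (q.e.getD k (0, 0, 0)).1 && inK q.b (q.e.getD k (0, 0, 0)).2.1 && inK q.d (q.e.getD k (0, 0, 0)).2.2 &&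
        Nat.beq ((q.e.getD k (0, 0, 0)).1 ^^^ pimg q.a (q.e.getD k (0, 0, 0)).2.1 ^^^
          pimg (pcomp q.a q.b) (q.e.getD k (0, 0, 0)).2.2) (basisMask k)

theorem word_mem {m : ℕ} (h : isCode m = true) : word m ∈ golayCode := by
  have h1 := Cfsg.Agent.SporadicA.GolayBase.isCode_iff.1 h
  rw [← h1]
  exact Cfsg.Agent.SporadicA.GolayBase.enc_mem m

theorem act_word {P : ℕ} (h : ok P = true) (m : ℕ) :
    word m ∘ ((el P : M24) : Equiv.Perm GolayPt).symm = word (pimg P m) := by
  funext p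
  obtain ⟨q, rfl⟩ := ((el P : M24) : Equiv.Perm GolayPt).surjective p
  rw [Function.comp_apply, Equiv.symm_apply_apply, word_apply, word_apply]
  have h1 := idx_el_smul h q
  have h2 : idx (((el P : M24) : Equiv.Perm GolayPt) q) = papp P (idx q) := h1
  rw [h2, testBit_pimg_papp (ok_iff.1 h).1 m (Cfsg.Agent.SporadicA.GolayBase.idx_lt q)]

/-- the words `e` with `e + σ e ∈ {0, 1}` -/
def Kof (σ : M24) : AddSubgroup golayCode where
  carrier := {e | (e : GolayPt → ZMod 2) + (wordPerm σ e : GolayPt → ZMod 2) = 0 ∨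
      (e : GolayPt → ZMod 2) + (wordPerm σ e : GolayPt → ZMod 2) = 1}
  zero_mem' := by
    left
    funext i
    show (0 : ZMod 2) + 0 = 0
    rfl
  add_mem' := by
    intro e f he hf
    have h1 : ((e + f : golayCode) : GolayPt → ZMod 2) + (wordPerm σ (e + f) : GolayPt → ZMod 2) =
        ((e : GolayPt → ZMod 2) + (wordPerm σ e : GolayPt → ZMod 2)) +
        ((f : GolayPt → ZMod 2) + (wordPerm σ f : GolayPt → ZMod 2)) := by
      funext i
      show (e : GolayPt → ZMod 2) i + (f : GolayPt → ZMod 2) i + ((e : GolayPt → ZMod 2) _ + (f : GolayPt → ZMod 2) _) =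
        (e : GolayPt → ZMod 2) i + (e : GolayPt → ZMod 2) _ + ((f : GolayPt → ZMod 2) i + (f : GolayPt → ZMod 2) _)
      ring
    show _ = _ ∨ _ = _
    rw [h1]
    have h2 : (1 : GolayPt → ZMod 2) + 1 = 0 := by
      funext i
      show (1 : ZMod 2) + 1 = 0
      decide
    rcases he with he | he <;> rcases hf with hf | hf <;> rw [he, hf]
    · left; exact add_zero _
    · right; exact zero_add _
    · right; exact add_zero _
    · left; exact h2
  neg_mem' := by
    intro e he
    have h1 : -e = e := by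
      apply Subtype.ext
      funext i
      show -(e : GolayPt → ZMod 2) i = (e : GolayPt → ZMod 2) i
      have : ∀ a : ZMod 2, -a = a := by decide
      exact this _
    rw [h1]
    exact he

theorem mem_Kof {P e : ℕ} (hP : ok P = true) (h : inK P e = true) :
    ∃ w : golayCode, w ∈ Kof (el P) ∧ (w : GolayPt → ZMod 2) = word e := by
  unfold inK at h
  rw [Bool.and_eq_true, Bool.or_eq_true] at h
  refine ⟨⟨word e, word_mem h.1⟩, ?_, rfl⟩
  have h1 : (word e : GolayPt → ZMod 2) + (word e ∘ ((el P : M24) : Equiv.Perm GolayPt).symm) = word (e ^^^ pimg P e) := by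
    rw [act_word hP, Cfsg.Agent.SporadicA.GolayBase.word_xor]
  show _ = _ ∨ _ = _
  rcases h.2 with h2 | h2
  · left
    refine h1.trans ?_
    rw [Nat.eq_of_beq_eq_true h2, Cfsg.Agent.SporadicA.GolayBase.word_zero]
  · right
    refine h1.trans ?_
    rw [Nat.eq_of_beq_eq_true h2, Cfsg.Agent.SporadicA.GolayBase.word_all]

/-- the sum of the three subgroups -/
def Ssum (a b d : M24) : AddSubgroup (GolayPt → ZMod 2) where
  carrier := {w | ∃ x y z : golayCode, x ∈ Kof a ∧ y ∈ Kof b ∧ z ∈ Kof d ∧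
    w = (x : GolayPt → ZMod 2) + (wordPerm a y : GolayPt → ZMod 2) + (wordPerm (a * b) z : GolayPt → ZMod 2)}
  zero_mem' := ⟨0, 0, 0, zero_mem _, zero_mem _, zero_mem _, by
    funext i
    show (0 : ZMod 2) = 0 + 0 + 0
    rfl⟩
  add_mem' := by
    rintro _ _ ⟨x, y, z, hx, hy, hz, rfl⟩ ⟨x', y', z', hx', hy', hz', rfl⟩
    refine ⟨x + x', y + y', z + z', add_mem hx hx', add_mem hy hy', add_mem hz hz', ?_⟩
    funext i
    show (x : GolayPt → ZMod 2) i + (y : GolayPt → ZMod 2) _ + (z : GolayPt → ZMod 2) _ +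
      ((x' : GolayPt → ZMod 2) i + (y' : GolayPt → ZMod 2) _ + (z' : GolayPt → ZMod 2) _) =
      (x : GolayPt → ZMod 2) i + (x' : GolayPt → ZMod 2) i + ((y : GolayPt → ZMod 2) _ + (y' : GolayPt → ZMod 2) _) +
      ((z : GolayPt → ZMod 2) _ + (z' : GolayPt → ZMod 2) _)
    ring
  neg_mem' := by
    intro w hw
    have h1 : -w = w := by
      funext i
      have : ∀ a : ZMod 2, -a = a := by decide
      exact this _
    rw [h1]
    exact hw

theorem le_Ssum {S : AddSubgroup (GolayPt → ZMod 2)} (h : ∀ k < 12, word (basisMask k) ∈ S) {w : GolayPt → ZMod 2}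
    (hw : w ∈ golayCode) : w ∈ S := by
  obtain ⟨c, -, rfl⟩ := (Cfsg.Agent.LeechMat.Code.mem_golayCode_iff w).1 hw
  have hword : ∀ m, Cfsg.Agent.LeechMat.Code.word m = word m := by
    intro m
    funext p
    rcases p with _ | p <;> rfl
  have hb : ∀ b ∈ Cfsg.Agent.LeechMat.Code.basis, word b ∈ S := by
    intro b hb
    have h1 : ∀ b ∈ Cfsg.Agent.LeechMat.Code.basis, ∃ k < 12, basisMask k = b := by decide +kernel
    obtain ⟨k, hk, rfl⟩ := h1 b hb
    exact h k hk
  rw [hword]
  have key : ∀ (l : List ℕ), (∀ b ∈ l, word b ∈ S) → ∀ c, word (Cfsg.Agent.LeechMat.Code.encAux l c) ∈ S := by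
    intro l
    induction l with
    | nil =>
      intro _ c
      show word 0 ∈ S
      rw [Cfsg.Agent.SporadicA.GolayBase.word_zero]
      exact S.zero_mem
    | cons x l ih =>
      intro hl c
      show word ((if c.testBit 0 then x else 0) ^^^ Cfsg.Agent.LeechMat.Code.encAux l (c >>> 1)) ∈ S
      rw [Cfsg.Agent.SporadicA.GolayBase.word_xor]
      refine S.add_mem ?_ (ih (fun b hb => hl b (List.mem_cons_of_mem _ hb)) _)
      split
      · exact hl x List.mem_cons_self
      · rw [Cfsg.Agent.SporadicA.GolayBase.word_zero]; exact S.zero_mem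
  exact key _ hb c

/-- **The elements over a checked class are products of three elements with central square.** -/
theorem triple_of_chk {q : TRec} (h : chkT q = true) (e : golayCode) :
    ∃ x y z : Co0, Sq x ∧ Sq y ∧ Sq z ∧ signCo0 e * permCo0 (el q.c) = x * y * z := by
  unfold chkT at h
  simp only [Bool.and_eq_true] at h
  obtain ⟨⟨⟨⟨⟨⟨⟨⟨hc, ha⟩, hb⟩, hd⟩, haa⟩, hbb⟩, hdd⟩, hprod⟩, hall⟩ := h
  have hab := ok_pcomp ha hb
  have ea : el q.a * el q.a = 1 := by rw [← el_pcomp ha ha, Nat.eq_of_beq_eq_true haa, el_idP]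
  have eb : el q.b * el q.b = 1 := by rw [← el_pcomp hb hb, Nat.eq_of_beq_eq_true hbb, el_idP]
  have ed : el q.d * el q.d = 1 := by rw [← el_pcomp hd hd, Nat.eq_of_beq_eq_true hdd, el_idP]
  have ec : el q.c = el q.a * el q.b * el q.d := by
    rw [← el_pcomp ha hb, ← el_pcomp hab hd, Nat.eq_of_beq_eq_true hprod]
  have hS : ∀ k < 12, word (basisMask k) ∈ Ssum (el q.a) (el q.b) (el q.d) := by
    intro k hk
    have h1 := List.all_eq_true.1 hall k (List.mem_range.2 hk)
    simp only [Bool.and_eq_true] at h1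
    obtain ⟨⟨⟨h1, h2⟩, h3⟩, h4⟩ := h1
    obtain ⟨x, hx, hx'⟩ := mem_Kof ha h1
    obtain ⟨y, hy, hy'⟩ := mem_Kof hb h2
    obtain ⟨z, hz, hz'⟩ := mem_Kof hd h3
    refine ⟨x, y, z, hx, hy, hz, ?_⟩
    have hy'' : (wordPerm (el q.a) y : GolayPt → ZMod 2) = word (pimg q.a (q.e.getD k (0, 0, 0)).2.1) := by
      rw [← act_word ha, ← hy']; rfl
    have hz'' : (wordPerm (el q.a * el q.b) z : GolayPt → ZMod 2) =
        word (pimg (pcomp q.a q.b) (q.e.getD k (0, 0, 0)).2.2) := by
      rw [← act_word hab, ← hz', el_pcomp ha hb]; rfl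
    rw [← Nat.eq_of_beq_eq_true h4, Cfsg.Agent.SporadicA.GolayBase.word_xor,
      Cfsg.Agent.SporadicA.GolayBase.word_xor, hx', hy'', hz'']
  obtain ⟨x, y, z, hx, hy, hz, hxyz⟩ := le_Ssum hS e.2
  refine ⟨signCo0 x * permCo0 (el q.a), signCo0 y * permCo0 (el q.b), signCo0 z * permCo0 (el q.d),
    sq_sign_perm ea hx, sq_sign_perm eb hy, sq_sign_perm ed hz, ?_⟩
  have he : e = x + wordPerm (el q.a) y + wordPerm (el q.a * el q.b) z := Subtype.ext hxyz
  have h1 : permCo0 (el q.a) * signCo0 y * (permCo0 (el q.a))⁻¹ = signCo0 (wordPerm (el q.a) y) :=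
    perm_mul_sign_mul_inv _ _
  have h2 : permCo0 (el q.a * el q.b) * signCo0 z * (permCo0 (el q.a * el q.b))⁻¹ =
      signCo0 (wordPerm (el q.a * el q.b) z) := perm_mul_sign_mul_inv _ _
  rw [he, signCo0_add, signCo0_add, ← h1, ← h2, ec]
  simp only [map_mul]
  group

theorem chkTR : TR.all chkT = true := by decide +kernel

theorem TR_cover : (Cfsg.Agent.H334.Ore.M24Data.D.all fun r => TR.any fun q => Nat.beq q.c r.c) = true := by
  decide +kernel

open Cfsg.Agent.MonsterX.FrameStab (FixesFrame)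

/-- **Every monomial element is a product of three elements with central square.** -/
theorem triple {h : Co0} (hh : FixesFrame h) : ∃ x y z : Co0, Sq x ∧ Sq y ∧ Sq z ∧ h = x * y * z := by
  obtain ⟨c, σ, rfl⟩ := frame_form hh
  rcases Cfsg.Agent.H334.Ore.M24R.cov σ with rfl | ⟨r, hr, x, hx, hconj⟩
  · refine ⟨signCo0 c, 1, 1, Sq.of_one (signCo0_mul_self c), Sq.of_one (one_mul 1), Sq.of_one (one_mul 1), ?_⟩
    rw [map_one, mul_one, mul_one]
  · have hx' : x = el r.c := hx
    subst hx'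
    obtain ⟨u, hu⟩ := isConj_iff.1 hconj
    have h1 := List.all_eq_true.1 TR_cover r hr
    obtain ⟨q, hq, hqr⟩ := List.any_eq_true.1 h1
    have h2 := List.all_eq_true.1 chkTR q hq
    obtain ⟨a, b, d, ha, hb, hd, habd⟩ := triple_of_chk h2 (wordPerm u⁻¹ c)
    rw [Nat.eq_of_beq_eq_true hqr] at habd
    refine ⟨permCo0 u * a * (permCo0 u)⁻¹, permCo0 u * b * (permCo0 u)⁻¹, permCo0 u * d * (permCo0 u)⁻¹,
      ha.conj _, hb.conj _, hd.conj _, ?_⟩
    have h3 : permCo0 u * signCo0 (wordPerm u⁻¹ c) * (permCo0 u)⁻¹ = signCo0 c := by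
      rw [perm_mul_sign_mul_inv]
      congr 1
      apply Subtype.ext
      funext i
      show (c : GolayPt → ZMod 2) (((u⁻¹ : M24) : Equiv.Perm GolayPt).symm ((u : Equiv.Perm GolayPt).symm i)) = _
      exact congrArg (c : GolayPt → ZMod 2) (Equiv.apply_symm_apply (u : Equiv.Perm GolayPt) i)
    have h4 : permCo0 σ = permCo0 u * permCo0 (el r.c) * (permCo0 u)⁻¹ := by
      rw [← hu, map_mul, map_mul, map_inv]
    rw [h4, ← h3]
    have h5 : permCo0 u * signCo0 (wordPerm u⁻¹ c) * (permCo0 u)⁻¹ * (permCo0 u * permCo0 (el r.c) * (permCo0 u)⁻¹) =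
        permCo0 u * (signCo0 (wordPerm u⁻¹ c) * permCo0 (el r.c)) * (permCo0 u)⁻¹ := by group
    rw [h5, habd]
    group

end Cfsg.Agent.H995.Co1F
end

private theorem dce_40c9a490b111 : _root_.True := by
  try have : _root_.True := by simp only [_root_.Cfsg.Agent.H995.Co1F.o0.eq_1]
  try have : _root_.True := by simp only [_root_.Cfsg.Agent.H995.Co1F.d0.eq_1]
  exact _root_.True.intro
end

-- part: H995/Co1T/Trip
section
prune_inst 0x242044050000020000040012c0001c8395000490000b000010e40d4201067a2200022e204c201c08802018182001004004003004602000000a84400000010120900052041300a11526000980008e410000300880000000000000000000051000010000000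
set_option linter.all false
open scoped Cfsg.Agent.FastGrp

-- part: H995/Co1T/DataF
section
/-!
# Triples of involutions of `M24` for the classes of order at least 3 (data)
-/

set_option autoImplicit false

namespace Cfsg.Agent.H995.Co1T

/-- `c = a b d`; decompositions of the basis words; commutator decompositions of the basis words; commutator
decompositions of the pairs `{i, 23}` -/
structure FRec where
  c : ℕ
  a : ℕ
  b : ℕ
  d : ℕ
  e : List (ℕ × ℕ × ℕ)
  l : List (ℕ × ℕ × ℕ)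
  s : List (ℕ × ℕ × ℕ × ℕ)

/-- the record of the class `r2` -/
def f2 : FRec where
  c := 693793083484272819170454468079749312
  a := 757403950761131390561603056405229777
  b := 717884720132249091200391046282627748
  d := 26030311867553257779033005995071159
  e := [(0, 9830549, 0), (15636613, 16650999, 7622914), (7598525, 16196511, 7622914), (8055275, 14336968, 7622914), (2664522, 3006551, 0), (5390753, 15073798, 7622914), (2865535, 10433021, 0), (657763, 14336968, 7622914), (657763, 11190619, 0), (16777215, 15676270, 0), (2207772, 3535014, 7622914), (9920603, 12312770, 0)]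
  l := [(13062145, 1302533, 0), (8536111, 8966165, 13062145), (0, 2605066, 13062145), (2605066, 11100169, 13062145), (3416079, 9347075, 0), (7417889, 1302533, 13062145), (7417889, 12382234, 0), (15953934, 11100169, 13062145), (2605066, 11100169, 0), (8536111, 7221256, 0), (10687016, 13062145, 13062145), (5902343, 10305542, 0)]
  s := [(262204, 8237, 0, 0), (264254, 9324, 16, 0), (262144, 4, 0, 0), (262180, 44, 0, 0), (262204, 8236, 0, 0), (262148, 36, 0, 0), (264252, 9324, 16, 0), (262844, 8748, 16, 0), (262180, 36, 0, 0), (262716, 8236, 16, 0), (262204, 8236, 16, 0), (262204, 9260, 16, 0), (262148, 4, 0, 0), (262188, 44, 0, 0), (279228, 8876, 16, 0), (297022, 9326, 16, 0), (262188, 8236, 0, 0), (262205, 8237, 0, 0), (262144, 0, 0, 0), (264252, 9260, 16, 0), (262844, 8876, 16, 0), (264254, 9326, 16, 0), (262716, 8748, 16, 0), (0, 0, 0, 0)]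

/-- the record of the class `r3` -/
def f3 : FRec where
  c := 917150455939460404939281612745760357
  a := 667994393937370575706322966668630017
  b := 716673342561197780463614298455441794
  d := 10933693947939454205426322345332855
  e := [(7241839, 12726562, 2896126), (6990012, 7082895, 12202091), (314056, 14907322, 12202091), (8884587, 11472927, 0), (12698124, 5068055, 2896126), (4608871, 5068055, 0), (11509880, 11472927, 2896126), (2948059, 2180760, 2896126), (15588300, 14907322, 12202091), (4364719, 5007269, 12202091), (9543051, 11412141, 12202091), (4364719, 7151933, 12202091)]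
  l := [(4726955, 10305542, 9347075), (9465987, 2605066, 13062145), (118953, 9347075, 13062145), (10846245, 9347075, 0), (15900839, 3416079, 9347075), (7417889, 13062145, 0), (11055264, 8245261, 9347075), (9347075, 2605066, 9347075), (14762146, 9347075, 13062145), (2494627, 0, 13062145), (13262980, 4845570, 13062145), (14762146, 13938692, 13062145)]
  s := [(0, 0, 1, 0), (1, 0, 1, 0), (0, 1, 1, 0), (1, 0, 3, 0), (65536, 16, 0, 0), (65552, 48, 0, 0), (9, 64, 3, 0), (73, 64, 131, 0), (257, 2, 1, 0), (73, 192, 131, 0), (585, 1216, 131, 0), (201, 64, 131, 0), (1, 2, 1, 0), (65552, 16, 0, 0), (585, 192, 131, 0), (9, 0, 3, 0), (65536, 0, 0, 0), (65584, 48, 0, 0), (73, 64, 3, 0), (524289, 8, 3, 0), (1609, 1216, 131, 0), (1, 8, 3, 0), (4, 1, 1, 0), (0, 0, 0, 0)]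

/-- the record of the class `r4` -/
def f4 : FRec where
  c := 192613887460257670335523932379526859
  a := 692784174056706601658429695021073513
  b := 177376747167970781988858954671143937
  d := 544097821952360805260638051255392914
  e := [(7762565, 11628792, 12153634), (16611456, 5063048, 0), (1327290, 4264387, 12153634), (1722420, 806987, 12153634), (15567280, 45159, 14496011), (1110320, 4301220, 0), (9256176, 16527728, 0), (919694, 0, 6570537), (15567280, 4264387, 14496011), (1722420, 15753531, 6570537), (0, 12394675, 14496011), (15953934, 0, 6570537)]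
  l := [(15515712, 8245261, 9347075), (13062145, 2605066, 0), (10350689, 15953934, 9347075), (15380566, 13938692, 9347075), (6557781, 4845570, 4845570), (7815223, 1302533, 0), (6475812, 13938692, 0), (3719203, 11100169, 13062145), (7438406, 5902343, 4845570), (9347075, 2605066, 13062145), (13811730, 9347075, 4845570), (1413139, 11100169, 13062145)]
  s := [(65664, 128, 1, 0), (65664, 129, 1, 0), (65669, 640, 1, 0), (65666, 129, 1, 0), (0, 16, 0, 0), (16, 16, 0, 0), (4112, 112, 0, 0), (65536, 128, 0, 0), (65925, 644, 1, 0), (65665, 128, 1, 0), (4176, 112, 0, 0), (4176, 1136, 0, 0), (4112, 48, 0, 0), (16, 48, 0, 0), (65666, 137, 1, 0), (65669, 644, 1, 0), (65536, 0, 0, 0), (65665, 640, 1, 0), (65664, 128, 0, 0), (6224, 1136, 0, 0), (82050, 137, 1, 0), (2163077, 900, 1, 0), (65925, 900, 1, 0), (0, 0, 0, 0)]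

/-- the record of the class `r5` -/
def f5 : FRec where
  c := 766078480764522267812074796576527779
  a := 46835238524303810292963710184281832
  b := 943838804610929865100243599897577473
  d := 550809598757767865418311164923103369
  e := [(16195134, 15009708, 0), (16548119, 954839, 8581192), (15380566, 13938692, 0), (6359604, 722544, 8581192), (15380566, 13938692, 8581192), (7814005, 1814947, 8581192), (1454401, 954839, 0), (2019456, 0, 0), (16195134, 15439483, 0), (13342995, 13566375, 0), (761641, 366503, 0), (14526546, 13938692, 0)]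
  l := [(10170384, 13811730, 0), (2969648, 8024242, 13062145), (0, 9347075, 0), (11952160, 14254209, 13062145), (7417889, 3719203, 13062145), (16375860, 7332001, 13062145), (8966165, 13373586, 0), (13811730, 0, 0), (10305542, 2019456, 0), (3719203, 5709954, 0), (2207772, 10743859, 0), (5210132, 9347075, 0)]
  s := [(2, 1, 0, 0), (2, 0, 0, 0), (2223, 2729, 0, 0), (2219, 2721, 0, 0), (264431, 10941, 0, 0), (2179, 2209, 0, 0), (264431, 10925, 0, 0), (3, 129, 0, 0), (3, 1, 0, 0), (2211, 2209, 0, 0), (2211, 2721, 0, 0), (131, 2177, 0, 0), (2219, 2721, 8, 0), (264367, 10925, 0, 0), (131, 129, 0, 0), (2219, 6817, 8, 0), (2179, 2177, 0, 0), (6315, 2721, 8, 0), (2223, 2733, 0, 0), (34987, 6817, 8, 0), (264367, 2733, 0, 0), (2219, 2729, 0, 0), (264447, 10941, 0, 0), (0, 0, 0, 0)]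

/-- the record of the class `r6` -/
def f6 : FRec where
  c := 630337107645975966183283128165411569
  a := 843859199289869515293859594605418002
  b := 590078031242935956310897987810630657
  d := 505789200060823498874520273243445807
  e := [(9827259, 9041464, 0), (14313264, 7800532, 16044209), (14616083, 12674804, 16044209), (6653471, 12674804, 16044209), (16061575, 12677739, 16044209), (3031301, 11952160, 0), (16698701, 15515712, 0), (3031301, 10768524, 0), (6599853, 4755660, 16044209), (3031301, 10765331, 0), (4966170, 10208916, 0), (0, 11952160, 16044209)]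
  l := [(4370577, 10170384, 0), (9347075, 2605066, 13062145), (8622214, 11100169, 13062145), (0, 11100169, 13062145), (5902343, 2207772, 13062145), (0, 9347075, 0), (0, 14716939, 0), (8622214, 12222476, 0), (6053905, 3297305, 13062145), (13373586, 3297305, 0), (9830549, 11472927, 0), (15171795, 15130653, 13062145)]
  s := [(1362, 17233, 0, 0), (1362, 17232, 0, 0), (1179784, 163852, 0, 0), (1179656, 163840, 0, 0), (1344, 16720, 0, 0), (320, 16704, 32, 0), (320, 16640, 0, 0), (1179784, 163848, 0, 0), (256, 16384, 0, 0), (1360, 16720, 0, 0), (1344, 16704, 0, 0), (256, 16640, 0, 0), (1179656, 163848, 0, 0), (352, 16704, 32, 0), (0, 16384, 0, 0), (1179648, 163840, 0, 0), (1360, 17232, 0, 0), (1048576, 131072, 0, 0), (1363, 17233, 0, 0), (1179648, 131072, 0, 0), (1048576, 0, 0, 0), (1179788, 163852, 0, 0), (320, 16704, 0, 0), (0, 0, 0, 0)]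

/-- the record of the class `r7` -/
def f7 : FRec where
  c := 970531382982415564833320819807602177
  a := 338337427655210495729450587124730881
  b := 629941663219680669576189016441128013
  d := 849294817956796734769581144539175021
  e := [(12635423, 95313, 692282), (277580, 12641313, 692282), (8442831, 10793623, 0), (7340691, 6628071, 0), (3416079, 5448047, 0), (16527728, 12685424, 0), (4444255, 5448047, 0), (4444255, 6435391, 0), (7860304, 12685424, 0), (12780432, 15762208, 0), (15782236, 0, 692282), (4713491, 9613599, 692282)]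
  l := [(2019456, 2969648, 13062145), (5709954, 15495207, 13062145), (5709954, 6594610, 0), (864389, 10846245, 0), (2204803, 15495207, 0), (1413139, 12656663, 0), (3421328, 15495207, 0), (11654144, 10305542, 0), (10170384, 12656663, 0), (9347075, 11538486, 0), (10630149, 1302533, 13062145), (12379269, 4108341, 13062145)]
  s := [(1057152, 897, 0, 0), (1057153, 897, 0, 0), (1057153, 899, 0, 0), (1057157, 899, 0, 0), (1122757, 987, 0, 0), (1122773, 1019, 0, 0), (1122693, 971, 0, 0), (1048960, 768, 0, 0), (256, 0, 0, 0), (1048832, 768, 0, 0), (1123829, 3067, 0, 0), (1122805, 3067, 0, 0), (1122757, 971, 0, 0), (1057152, 896, 0, 0), (1123829, 4091, 0, 0), (1140213, 4091, 0, 0), (1122693, 907, 0, 0), (1057157, 907, 0, 0), (1048960, 896, 0, 0), (1122805, 1019, 0, 0), (256, 256, 0, 0), (1048832, 256, 0, 0), (1122773, 987, 0, 0), (0, 0, 0, 0)]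

/-- the record of the class `r8` -/
def f8 : FRec where
  c := 271787644222412330678682982691407336
  a := 483763696016061765216140813436815872
  b := 755572196042213532498310766347179267
  d := 944538120308085280955162509247166699
  e := [(13745914, 13104377, 0), (7385844, 6386038, 0), (14072509, 8663097, 0), (5731070, 6386038, 0), (10525252, 14979558, 0), (10513600, 12985424, 0), (14125071, 15024463, 0), (2593398, 6386038, 0), (2704706, 4441280, 0), (5694644, 2274742, 0), (10959611, 13104377, 0), (16206914, 4441280, 0)]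
  l := [(10305542, 13811730, 9347075), (4845570, 7438406, 0), (12656663, 806987, 4845570), (10305542, 5652556, 13062145), (5902343, 3416079, 0), (5902343, 13938692, 4845570), (9347075, 11100169, 4845570), (5902343, 7438406, 0), (421910, 9506893, 4845570), (1413139, 14716939, 4845570), (13938692, 4063314, 4845570), (10170384, 9506893, 4845570)]
  s := [(2048, 0, 1, 0), (2304, 2050, 0, 0), (2306, 18434, 4, 0), (2048, 1, 1, 0), (2432, 2066, 2, 0), (2448, 2066, 2, 0), (1051536, 2674, 2, 0), (2304, 2050, 2, 0), (2304, 2048, 0, 0), (2960, 2098, 2, 0), (131072, 263168, 0, 0), (2048, 0, 0, 0), (2448, 2098, 2, 0), (2432, 2050, 2, 0), (2306, 18434, 0, 0), (2304, 2178, 2, 0), (2306, 2050, 0, 0), (131072, 262144, 0, 0), (0, 262144, 0, 0), (2048, 2048, 0, 0), (2960, 2610, 2, 0), (2306, 18438, 4, 0), (1051536, 2610, 2, 0), (0, 0, 0, 0)]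

/-- the record of the class `r9` -/
def f9 : FRec where
  c := 441366995423741609312549231512542638
  a := 104639073774899646805165131021409312
  b := 648269786747869497567891206317887489
  d := 680234353924810946439007792191296170
  e := [(4538962, 1065303, 0), (4538962, 2384216, 0), (15274244, 7221256, 0), (5476616, 7221256, 0), (2634003, 5902343, 0), (13887039, 13484091, 0), (5468947, 8286559, 0), (1204944, 2384216, 0), (0, 7221256, 0), (8077824, 0, 0), (15332127, 10743859, 0), (7145475, 3416079, 0)]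
  l := [(10846245, 2564625, 4845570), (2826278, 8077824, 4845570), (9347075, 9347075, 0), (0, 9347075, 0), (11952160, 8077824, 0), (3719203, 7262739, 0), (6475812, 9929280, 0), (3719203, 4845570, 9347075), (13938692, 9347075, 0), (10305542, 0, 0), (10305542, 14709264, 0), (0, 2908802, 9347075)]
  s := [(512, 33296, 17, 0), (512, 33297, 17, 0), (4, 0, 0, 0), (8, 32768, 0, 0), (0, 32768, 16, 0), (544, 33296, 16, 0), (131332, 4164, 0, 0), (8, 32776, 128, 0), (131332, 4100, 0, 0), (512, 32784, 16, 0), (512, 33296, 16, 0), (8, 32904, 128, 0), (131076, 4100, 0, 0), (590368, 565808, 16, 0), (0, 32784, 16, 0), (0, 32768, 0, 0), (544, 33328, 16, 0), (131076, 4, 0, 0), (8, 32776, 0, 0), (66080, 557616, 16, 0), (4, 4, 0, 0), (590368, 557616, 16, 0), (66080, 33328, 16, 0), (0, 0, 0, 0)]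

/-- the record of the class `r10` -/
def f10 : FRec where
  c := 352520454927167266887859745207964736
  a := 61355928858207127350155533105830640
  b := 294884026115852233116626701607702529
  d := 212133143435326304547443914550483210
  e := [(4510744, 5325835, 0), (2965485, 15316476, 0), (2430217, 2307939, 7221256), (8737015, 13727199, 7221256), (16777215, 15316476, 0), (9578566, 8401364, 0), (14346998, 14336968, 7221256), (8295236, 2654580, 0), (14346998, 12120567, 0), (5998157, 4261212, 0), (4094736, 3719203, 7221256), (4253780, 1065303, 0)]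
  l := [(9506893, 4845570, 0), (9347075, 421910, 0), (11980871, 13811730, 4845570), (16748578, 6832158, 4845570), (4845570, 421910, 0), (2076750, 2605066, 0), (15974505, 8101915, 4845570), (2076750, 13062145, 0), (7221256, 5210132, 0), (45159, 15130653, 0), (14688364, 7221256, 4845570), (2031657, 11472927, 0)]
  s := [(2, 1, 0, 0), (2, 0, 0, 0), (292, 224, 0, 0), (11, 1025, 0, 0), (292, 228, 0, 0), (32, 128, 0, 0), (288, 224, 0, 0), (0, 128, 0, 0), (288, 160, 0, 0), (131380, 17124, 0, 0), (3, 1025, 0, 0), (292, 228, 16, 0), (4388, 2276, 16, 0), (2340, 228, 16, 0), (308, 228, 0, 0), (32779, 1033, 0, 0), (3, 1, 0, 0), (131380, 16612, 0, 0), (292, 2276, 16, 0), (131892, 17124, 0, 0), (308, 16612, 0, 0), (32, 160, 0, 0), (11, 1033, 0, 0), (0, 0, 0, 0)]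

/-- the record of the class `r11` -/
def f11 : FRec where
  c := 639394897622536056909024109674466560
  a := 981493711375442193712446667146048051
  b := 348174628579123508963703709689395201
  d := 683169087659137434874501940399610987
  e := [(14251525, 4470275, 0), (5756422, 4470275, 0), (13938692, 0, 0), (7345676, 4470275, 0), (8721940, 4470275, 0), (16246970, 3375280, 0), (14094678, 4444255, 0), (63108, 4470275, 0), (421910, 4444255, 0), (7397512, 2204803, 0), (10768524, 6656640, 0), (10625178, 3375280, 0)]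
  l := [(2854977, 15953934, 2019456), (10350689, 14176296, 4845570), (7417889, 2826278, 5709954), (8077824, 421910, 0), (2220640, 11472927, 2019456), (15118945, 14557246, 0), (10350689, 16375860, 2019456), (13062145, 1302533, 2019456), (2220640, 843820, 0), (13062145, 6594610, 2019456), (7417889, 4845570, 4845570), (11952160, 0, 4845570)]
  s := [(64, 265, 2, 0), (64, 264, 2, 0), (1048677, 6441, 2, 0), (64, 264, 0, 0), (66, 280, 2, 0), (97, 2313, 2, 0), (64, 256, 0, 0), (72, 392, 0, 0), (0, 256, 0, 0), (72, 264, 512, 0), (584, 264, 512, 0), (65, 2313, 2, 0), (1048673, 6441, 2, 0), (584, 1288, 512, 0), (1048677, 6445, 2, 0), (97, 2313, 34, 0), (97, 35081, 34, 0), (66, 264, 2, 0), (72, 776, 512, 0), (65, 265, 2, 0), (97, 2345, 2, 0), (72, 264, 0, 0), (1048673, 2345, 2, 0), (0, 0, 0, 0)]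

/-- the record of the class `r12` -/
def f12 : FRec where
  c := 351844052827762829049910944796316010
  a := 984515117569209367539328673988755457
  b := 430333645710799343005151413268391107
  d := 15703911290856618441534391422981623
  e := [(15753531, 1467197, 0), (8307000, 1467197, 0), (14709264, 2969648, 0), (4895563, 806987, 0), (11530756, 2969648, 0), (11952160, 0, 0), (15515712, 0, 0), (3168928, 2019456, 0), (3006551, 2162811, 0), (5210132, 2969648, 0), (8721940, 2969648, 0), (16375860, 3375280, 0)]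
  l := [(11100169, 6053905, 13938692), (6488205, 5476616, 0), (13062145, 7479572, 13938692), (13062145, 5902343, 4845570), (14254209, 4038912, 13938692), (14254209, 1044761, 13938692), (864389, 5210132, 10305542), (0, 4038912, 0), (6488205, 2605066, 4845570), (13262980, 8245261, 0), (6488205, 9347075, 4845570), (864389, 5210132, 13938692)]
  s := [(0, 0, 1, 0), (1, 0, 1, 0), (33281, 4100, 3, 0), (0, 1, 1, 0), (33281, 4116, 7, 0), (33281, 4100, 7, 0), (1, 2, 1, 0), (1, 128, 3, 0), (8, 1, 1, 0), (33281, 4096, 3, 0), (0, 1024, 0, 0), (129, 128, 3, 0), (32769, 4096, 3, 0), (8, 257, 1, 0), (49669, 69636, 3, 0), (1, 0, 3, 0), (33285, 4100, 3, 0), (33313, 135172, 7, 0), (49669, 86020, 3, 0), (32769, 0, 3, 0), (33313, 4100, 7, 0), (33285, 69636, 3, 0), (129, 2176, 3, 0), (0, 0, 0, 0)]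

/-- the record of the class `r13` -/
def f13 : FRec where
  c := 59958983596740834366188217924985573
  a := 984778551226145691544909149262458112
  b := 727343817507079632475265668095782084
  d := 757345321967680385260356305275165236
  e := [(13062145, 0, 0), (7943163, 3695835, 0), (1030138, 6915112, 11980871), (4167192, 6915112, 0), (13276672, 6915112, 0), (11952160, 0, 0), (5154361, 10150073, 0), (12367609, 10150073, 0), (877305, 3695835, 0), (8077824, 0, 0), (11654144, 0, 0), (3715070, 6915112, 11980871)]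
  l := [(2076750, 15495207, 0), (15515712, 10743859, 0), (12222476, 10170384, 11100169), (7438406, 6053905, 1302533), (2605066, 6053905, 7221256), (7438406, 7815223, 0), (4845570, 13938692, 1302533), (15515712, 6475812, 8245261), (10305542, 6475812, 7221256), (4845570, 7815223, 8245261), (0, 12656663, 1302533), (2076750, 2969648, 12222476)]
  s := [(522, 131081, 258, 0), (0, 131072, 2, 0), (0, 131074, 6, 0), (514, 131080, 258, 0), (522, 131080, 258, 0), (1050122, 132137, 259, 0), (0, 131074, 2, 0), (64, 131074, 2, 0), (2, 131072, 2, 0), (2, 131072, 258, 0), (1049098, 132105, 259, 0), (4, 131074, 6, 0), (2, 131584, 258, 0), (1050154, 132137, 259, 0), (64, 131202, 2, 0), (1050122, 132105, 259, 0), (64, 196610, 130, 0), (0, 131072, 0, 0), (2, 131328, 2, 0), (514, 131072, 258, 0), (522, 131081, 259, 0), (1049098, 131081, 259, 0), (64, 131074, 130, 0), (0, 0, 0, 0)]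

/-- the record of the class `r14` -/
def f14 : FRec where
  c := 20384579791191895985424879750235369
  a := 568947635157983003572628728035215361
  b := 895310665120346902224479361667043329
  d := 25372901570853550914586307288451543
  e := [(11530756, 0, 15335473), (2183687, 0, 15335473), (13938692, 0, 0), (3462795, 16662667, 0), (10170384, 0, 0), (14379043, 4424227, 0), (15413891, 11391363, 0), (2019456, 0, 0), (3822531, 11391363, 0), (8077824, 0, 0), (15413891, 16662667, 0), (9347075, 4424227, 0)]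
  l := [(8581192, 806987, 10305542), (4563017, 806987, 10305542), (4563017, 8581192, 1302533), (4563017, 2854977, 0), (4563017, 3698756, 1302533), (10350689, 13062145, 4845570), (8581192, 8581192, 4845570), (8581192, 806987, 0), (4563017, 13303882, 0), (2854977, 4845570, 4845570), (0, 6447171, 4845570), (0, 9347075, 0)]
  s := [(0, 0, 1, 0), (1, 0, 1, 0), (8224, 2052, 16, 0), (8296, 2144, 256, 0), (8224, 2048, 16, 0), (8224, 2048, 0, 0), (8288, 2080, 256, 0), (1, 128, 3, 0), (8224, 2080, 256, 0), (8224, 2080, 0, 0), (8288, 2144, 256, 0), (8192, 2048, 0, 0), (8224, 2336, 256, 0), (8192, 0, 0, 0), (1, 0, 3, 0), (40992, 2052, 20, 0), (40992, 34820, 20, 0), (139296, 264196, 20, 0), (8224, 2052, 20, 0), (8224, 264196, 20, 0), (8296, 2152, 256, 0), (8736, 2080, 0, 0), (139296, 395268, 20, 0), (0, 0, 0, 0)]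

/-- the record of the class `r15` -/
def f15 : FRec where
  c := 145797950094761687161608633680418285
  a := 565501094882288692942129088064391494
  b := 734312125029980272656405385467742501
  d := 596187530724587997963456477934197361
  e := [(16611456, 15864000, 0), (3628775, 16650999, 0), (11811045, 1577201, 0), (11729044, 7139732, 0), (16496881, 1577201, 0), (11952160, 0, 0), (11952160, 15335473, 0), (8280161, 1577201, 0), (8511869, 7659877, 0), (8077824, 0, 0), (13597413, 16650999, 0), (8593633, 1577201, 0)]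
  l := [(1302533, 13938692, 9347075), (15953934, 1687640, 0), (13938692, 3698756, 4845570), (12222476, 5210132, 13062145), (13938692, 5210132, 0), (13062145, 2854977, 9347075), (13938692, 10170384, 9347075), (13938692, 5210132, 9347075), (13938692, 0, 13062145), (2605066, 2076750, 4845570), (7221256, 1687640, 0), (0, 5210132, 0)]
  s := [(1581073, 2105424, 0, 0), (8208, 8208, 2, 0), (1581072, 2105424, 4, 0), (8210, 8216, 2, 0), (8208, 8192, 0, 0), (1581073, 2105425, 0, 0), (1581072, 2105424, 0, 0), (8192, 8192, 128, 0), (8218, 8216, 2, 0), (8208, 8210, 2, 0), (8210, 8208, 2, 0), (10240, 8320, 128, 0), (8192, 8320, 128, 0), (8192, 0, 0, 0), (8218, 8472, 2, 0), (8192, 8192, 0, 0), (10240, 10368, 128, 0), (0, 131072, 0, 0), (1581072, 2105428, 4, 0), (8208, 8208, 0, 0), (1581072, 2105360, 0, 0), (532496, 2105360, 0, 0), (532496, 8208, 0, 0), (0, 0, 0, 0)]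

/-- the record of the class `r16` -/
def f16 : FRec where
  c := 54061143792467787905420018783885681
  a := 20973380177022435288117477186522775
  b := 886241479176976972984840612873273442
  d := 707591256139489491738660036703604421
  e := [(13062145, 0, 0), (5854030, 525274, 0), (1613974, 1302533, 0), (11412141, 1728778, 12222476), (5709954, 1302533, 0), (9465987, 11952160, 0), (947148, 12477434, 12222476), (947148, 525274, 0), (16319023, 525274, 12222476), (4322264, 12051189, 12222476), (1989958, 6161781, 0), (11960891, 15959690, 0)]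
  l := [(10305542, 0, 0), (13829156, 13062145, 0), (10305542, 11575377, 0), (9310308, 13303882, 11952160), (16748578, 11575377, 0), (0, 2605066, 0), (5129250, 3297305, 11952160), (16262146, 13062145, 0), (6100032, 1413139, 11952160), (8733800, 10170384, 11952160), (15515712, 6053905, 0), (15515712, 806987, 0)]
  s := [(1, 0, 0, 0), (70877, 44435, 0, 0), (1, 1, 0, 0), (70877, 44433, 0, 0), (69, 273, 0, 0), (201951, 175539, 0, 0), (69, 257, 0, 0), (70869, 44305, 0, 0), (5, 257, 0, 0), (70869, 44433, 0, 0), (65621, 34065, 0, 0), (66645, 34065, 0, 0), (66645, 36113, 0, 0), (70741, 44305, 0, 0), (70741, 36113, 0, 0), (85, 273, 0, 0), (85, 33041, 0, 0), (70879, 175507, 0, 0), (201951, 175507, 0, 0), (5, 1, 0, 0), (70879, 44435, 0, 0), (201983, 175539, 0, 0), (65621, 33041, 0, 0), (0, 0, 0, 0)]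

/-- the record of the class `r17` -/
def f17 : FRec where
  c := 296418681862333505317491920136189480
  a := 483520344840068942002592128389556774
  b := 350615876269243458488459966097827396
  d := 523455638402740993173943393776517709
  e := [(7397512, 884962, 14176296), (13982988, 9123748, 14176296), (5709954, 5129250, 14176296), (15899910, 9123748, 14176296), (10996863, 14927837, 0), (8747465, 12906835, 0), (16317368, 13201841, 0), (8551822, 9123748, 14176296), (877305, 6877305, 0), (14101751, 14927837, 14176296), (877305, 99029, 14176296), (7397512, 11272490, 14176296)]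
  l := [(10305542, 3297305, 13062145), (13062145, 13938692, 13062145), (8937586, 1413139, 13062145), (12685424, 13938692, 13062145), (13893731, 6053905, 0), (1413139, 14716939, 0), (7417889, 11100169, 0), (10743859, 13938692, 13062145), (16719941, 15953934, 0), (1302533, 2605066, 13062145), (13811730, 5902343, 13062145), (13811730, 6832158, 13062145)]
  s := [(66454, 5543, 0, 0), (65920, 4482, 0, 0), (65926, 5506, 0, 0), (99223, 5615, 0, 0), (66454, 5542, 0, 0), (66438, 5542, 0, 0), (66455, 5543, 0, 0), (384, 4352, 0, 0), (0, 256, 0, 0), (65926, 5510, 0, 0), (65922, 5506, 0, 0), (2048, 0, 0, 0), (256, 256, 0, 0), (256, 4352, 0, 0), (99231, 5615, 0, 0), (66455, 5607, 0, 0), (384, 4480, 0, 0), (65922, 4482, 0, 0), (65920, 4480, 0, 0), (66438, 5510, 0, 0), (2048, 2048, 0, 0), (99223, 5607, 0, 0), (1050624, 2048, 0, 0), (0, 0, 0, 0)]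

/-- the record of the class `r18` -/
def f18 : FRec where
  c := 692782671643430358498584137066202775
  a := 633991567882777283318916747596808746
  b := 384770561577539661808754545404394497
  d := 651244649240620263695352466770297058
  e := [(0, 2814095, 8024242), (15464870, 4870480, 6557781), (15049556, 5063048, 15515712), (1727659, 0, 8024242), (614069, 0, 1990887), (2456276, 463064, 8966165), (9292404, 0, 15515712), (9292404, 463064, 8966165), (9096755, 4870480, 15900839), (940786, 463064, 15515712), (8688833, 3006551, 1990887), (13098439, 5063048, 8024242)]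
  l := [(12222476, 4845570, 1302533), (16056344, 13062145, 13938692), (3416079, 1302533, 11952160), (16719941, 1302533, 1302533), (9347075, 5902343, 13062145), (8101915, 13938692, 6475812), (0, 0, 11952160), (6557781, 13938692, 6475812), (8101915, 13938692, 7417889), (3416079, 10305542, 11952160), (5210132, 10305542, 13062145), (15515712, 0, 1302533)]
  s := [(32768, 4, 1, 0), (32768, 5, 1, 0), (32768, 4, 0, 0), (32777, 1028, 1, 0), (16, 512, 0, 0), (32770, 5, 33, 0), (16, 528, 0, 0), (32777, 1036, 1, 0), (32772, 4, 256, 0), (0, 512, 0, 0), (32769, 4, 1, 0), (32770, 37, 33, 0), (32905, 1036, 1, 0), (32769, 1028, 8193, 0), (34818, 37, 33, 0), (32768, 0, 0, 0), (32772, 4, 0, 0), (32770, 5, 1, 0), (80, 528, 0, 0), (32802, 5, 33, 0), (32769, 1028, 1, 0), (40961, 1028, 8193, 0), (33028, 4, 256, 0), (0, 0, 0, 0)]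

/-- the record of the class `r19` -/
def f19 : FRec where
  c := 311800539162905419356353909696843884
  a := 397875025969655459905827320064349803
  b := 712988032221785636519104455153920001
  d := 467607242416350717616851951445790160
  e := [(1613111, 7124855, 0), (11108882, 9929280, 0), (15585107, 14868976, 1667135), (4597797, 4731956, 1667135), (11108882, 10170384, 0), (7302503, 7693232, 1667135), (14578242, 10170384, 0), (14072509, 14661236, 1667135), (2826278, 4731956, 0), (11108882, 832080, 0), (7705908, 4490852, 0), (14423846, 16463159, 0)]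
  l := [(8101915, 14176296, 0), (622863, 15953934, 0), (10170384, 16748578, 4845570), (8474906, 10305542, 4845570), (14369053, 8245261, 0), (14496011, 843820, 4845570), (9613599, 8245261, 0), (15130653, 7221256, 4845570), (11100169, 2605066, 0), (4845570, 9347075, 0), (4587803, 11100169, 0), (6795527, 2826278, 0)]
  s := [(332550, 70437, 0, 0), (332550, 70436, 0, 0), (262660, 544, 0, 0), (332551, 70445, 0, 0), (332639, 70637, 0, 0), (262656, 544, 0, 0), (332623, 70573, 0, 0), (332559, 70445, 0, 0), (262916, 548, 0, 0), (512, 0, 0, 0), (262660, 548, 0, 0), (332551, 70437, 0, 0), (332548, 66340, 0, 0), (332639, 70653, 0, 0), (332559, 70573, 0, 0), (332623, 70637, 0, 0), (328452, 804, 0, 0), (340831, 70653, 0, 0), (512, 512, 0, 0), (332548, 70436, 0, 0), (328452, 66340, 0, 0), (262916, 804, 0, 0), (262656, 512, 0, 0), (0, 0, 0, 0)]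

/-- the record of the class `r20` -/
def f20 : FRec where
  c := 682877364871969722836355392054863185
  a := 726926684945533470783673512350656117
  b := 402019196394971765218050519154932900
  d := 886236138227999152442820848260693609
  e := [(9346466, 7157154, 0), (4845570, 0, 0), (4845570, 95313, 11628792), (9346466, 381252, 1613974), (9333542, 1570167, 11628792), (10382482, 1474854, 1613974), (814570, 381252, 1613974), (9346466, 304405, 1613974), (63108, 95313, 11128942), (12227731, 8107140, 0), (8196023, 8283584, 11128942), (11167139, 7157154, 0)]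
  l := [(12275877, 9347075, 0), (10170384, 0, 0), (10846245, 13938692, 13938692), (118953, 12222476, 13062145), (118953, 8245261, 13938692), (16056344, 13938692, 13062145), (3375280, 12222476, 13062145), (7417889, 11100169, 13062145), (8773776, 11100169, 1302533), (843820, 2605066, 0), (8978620, 5902343, 1302533), (8126628, 9347075, 0)]
  s := [(131088, 131073, 0, 0), (131090, 131200, 16, 0), (4, 512, 0, 0), (133170, 131466, 16, 0), (131088, 131072, 0, 0), (131090, 131202, 16, 0), (133178, 131466, 16, 0), (131088, 131072, 16, 0), (131122, 131202, 16, 0), (0, 512, 0, 0), (131216, 131072, 16, 0), (133170, 131458, 16, 0), (4100, 516, 0, 0), (141370, 131530, 16, 0), (133178, 131530, 16, 0), (4, 516, 0, 0), (4100, 4612, 0, 0), (131072, 0, 0, 0), (131122, 131458, 16, 0), (131088, 131200, 16, 0), (131072, 131072, 0, 0), (131089, 131073, 0, 0), (69636, 4612, 0, 0), (0, 0, 0, 0)]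

/-- the record of the class `r21` -/
def f21 : FRec where
  c := 152660159869748298187992742290470223
  a := 590970235681369965492969987378399590
  b := 943842372178835372048392584753223681
  d := 760996591560032328868183917410426228
  e := [(14047398, 1384564, 10350689), (6295992, 16213372, 782580), (5738725, 1413139, 9830549), (5738725, 185603, 9830549), (10506593, 16241947, 9830549), (3637597, 14716939, 9830549), (13890208, 1570167, 9830549), (3287899, 16241947, 782580), (9599546, 14828808, 10350689), (14047398, 1525008, 10350689), (10481223, 185603, 782580), (14971901, 16101503, 0)]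
  l := [(5902343, 4845570, 13938692), (13062145, 13062145, 1302533), (1687640, 13938692, 13062145), (10305542, 16748578, 13062145), (10305542, 4845570, 13062145), (8966165, 6475812, 13062145), (806987, 2826278, 13062145), (0, 13938692, 1302533), (15515712, 0, 13938692), (6053905, 11952160, 13938692), (5210132, 6475812, 1302533), (1413139, 10846245, 0)]
  s := [(147456, 16384, 1, 0), (147456, 16385, 1, 0), (147457, 16388, 1, 0), (147469, 16404, 1, 0), (147461, 16404, 1, 0), (180256, 86016, 0, 0), (147457, 16384, 1, 0), (180768, 86176, 0, 0), (147725, 16412, 1, 0), (180768, 86048, 0, 0), (147725, 16668, 1, 0), (147458, 16385, 1, 0), (180224, 86016, 0, 0), (180256, 86048, 0, 0), (16384, 0, 0, 0), (180224, 81920, 0, 0), (147456, 81920, 0, 0), (16384, 16384, 0, 0), (147461, 16388, 1, 0), (148749, 16668, 1, 0), (147456, 16384, 0, 0), (147469, 16412, 1, 0), (180896, 86176, 0, 0), (0, 0, 0, 0)]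

/-- the record of the class `r22` -/
def f22 : FRec where
  c := 801752737117678585333135729932738209
  a := 970336565708648288190807373782393857
  b := 519686401807313274049387461574296645
  d := 167791915866154330203384428747041477
  e := [(15686835, 4523185, 0), (6421680, 4523185, 0), (4239031, 1107375, 1405448), (13524168, 12661896, 0), (12580272, 12661896, 1405448), (9610624, 12661896, 1405448), (5024896, 12661896, 0), (2019456, 0, 0), (4038912, 0, 0), (15686835, 1107375, 1405448), (11654144, 0, 0), (14919680, 0, 0)]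
  l := [(5210132, 15573134, 5902343), (7221256, 6488205, 5902343), (7221256, 2814095, 1302533), (6053905, 10768524, 5902343), (7221256, 7221256, 4845570), (16056344, 7221256, 4845570), (13938692, 2814095, 5902343), (15130653, 2814095, 10305542), (3297305, 5709954, 5902343), (6053905, 10768524, 1302533), (3297305, 8622214, 13062145), (15130653, 9347075, 0)]
  s := [(16, 1, 16, 0), (17, 1, 16, 0), (17, 3, 16, 0), (67601, 2049, 26, 0), (0, 0, 16, 0), (16, 0, 16, 0), (67609, 2049, 26, 0), (17, 131, 20, 0), (2065, 2049, 274, 0), (21, 3, 16, 0), (17, 3, 20, 0), (2065, 1, 18, 0), (0, 4096, 0, 0), (67601, 2057, 26, 0), (4096, 4096, 0, 0), (4096, 20480, 0, 0), (67601, 2049, 18, 0), (67609, 2113, 26, 0), (0, 16, 16, 0), (262144, 16, 16, 0), (2065, 2305, 274, 0), (2065, 2049, 18, 0), (17, 1, 18, 0), (0, 0, 0, 0)]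

/-- the record of the class `r23` -/
def f23 : FRec where
  c := 798750777926542184211457386217854674
  a := 978288180344178655415768347585978720
  b := 47199172162596813364543027279069922
  d := 140396115677829144754300341840496275
  e := [(13062145, 0, 0), (13617794, 13373586, 0), (11890965, 1302533, 0), (262637, 5379037, 0), (16687760, 2019456, 0), (12174149, 5030749, 0), (8999616, 2019456, 0), (8077824, 2019456, 0), (3797649, 864389, 0), (8077824, 0, 0), (11654144, 0, 0), (0, 13811730, 0)]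
  l := [(5210132, 5476616, 13062145), (7221256, 13062145, 7221256), (5210132, 14496011, 13062145), (2605066, 3273035, 7221256), (7221256, 1454401, 7221256), (12382234, 2605066, 0), (2605066, 2605066, 11100169), (0, 9998658, 0), (16056344, 13303882, 11100169), (10170384, 0, 0), (0, 8884587, 7221256), (13811730, 13721920, 0)]
  s := [(1048578, 133123, 4, 0), (0, 2, 0, 0), (1048578, 133122, 4, 0), (1049090, 133131, 5, 0), (1179650, 133138, 0, 0), (1049098, 133131, 5, 0), (1048582, 133186, 4, 0), (1048578, 395267, 133, 0), (1048582, 133122, 4, 0), (1049090, 133123, 5, 0), (1049098, 133163, 5, 0), (2, 2, 0, 0), (1048578, 395395, 133, 0), (1179666, 133138, 0, 0), (1196050, 141330, 0, 0), (1196050, 157714, 0, 0), (1179666, 141330, 0, 0), (1048578, 133122, 0, 0), (1048578, 395267, 5, 0), (1048578, 133123, 5, 0), (1048578, 2050, 0, 0), (2, 2050, 0, 0), (1179650, 133122, 0, 0), (0, 0, 0, 0)]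

/-- the record of the class `r24` -/
def f24 : FRec where
  c := 547179429011475480724681305400648085
  a := 435592661095651603262433157106213107
  b := 602798530593388432321539270223399937
  d := 892717791927645169233907121469328711
  e := [(9451104, 12243568, 0), (78514, 4424227, 0), (8605500, 5350928, 11170108), (15578129, 8065148, 11170108), (7783138, 7845555, 0), (7860304, 5350928, 0), (78514, 7845555, 0), (15500963, 9365216, 0), (4012121, 15430752, 11170108), (15578129, 15430752, 0), (737427, 13460675, 0), (3623544, 12698124, 11170108)]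
  l := [(7417889, 12222476, 0), (2969648, 13811730, 0), (12382234, 421910, 10170384), (692282, 8245261, 10170384), (10743859, 15130653, 0), (15335473, 2207772, 0), (16748578, 15130653, 0), (11952160, 9347075, 0), (8536111, 12382234, 10170384), (11952160, 10170384, 0), (1413139, 6053905, 0), (1413139, 13062145, 10170384)]
  s := [(267266, 5249, 0, 0), (267266, 5248, 0, 0), (4, 16384, 256, 0), (4, 16388, 256, 0), (267331, 5329, 0, 0), (16384, 16416, 0, 0), (267267, 5313, 0, 0), (267264, 5248, 0, 0), (0, 16384, 256, 0), (16416, 16416, 0, 0), (1024, 0, 0, 0), (12, 16388, 256, 0), (5120, 1024, 0, 0), (1024, 1024, 0, 0), (0, 16384, 0, 0), (16416, 16928, 0, 0), (267347, 5329, 0, 0), (16384, 16384, 0, 0), (267264, 5120, 0, 0), (267267, 5249, 0, 0), (267331, 5313, 0, 0), (5120, 5120, 0, 0), (49184, 16928, 0, 0), (0, 0, 0, 0)]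

/-- all the records -/
def FR : List FRec := [f2, f3, f4, f5, f6, f7, f8, f9, f10, f11, f12, f13, f14, f15, f16, f17, f18, f19, f20, f21, f22, f23, f24]

end Cfsg.Agent.H995.Co1T
end

-- part: H995/Co1T/Fix
section
/-!
# Vectors of `Λ / 2Λ` fixed by monomial involutions
-/

set_option autoImplicit false

namespace Cfsg.Agent.H995.Co1T

open Cfsg Cfsg.Agent.Leech.Code Cfsg.Agent.Leech.Basic
open Cfsg.Agent.SporadicA.Co0Mono
open Cfsg.Agent.H995.Co1F
open Cfsg.Agent.SporadicStructure.Co0Base (e8 e8_coe)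

/-! ### the pairing -/

/-- the standard pairing -/
def dot (f g : GolayPt → ZMod 2) : ZMod 2 := ∑ i, f i * g i

theorem dot_add_right (f g h : GolayPt → ZMod 2) : dot f (g + h) = dot f g + dot f h := by
  simp only [dot, Pi.add_apply, mul_add, Finset.sum_add_distrib]

theorem dot_add_left (f g h : GolayPt → ZMod 2) : dot (f + g) h = dot f h + dot g h := by
  simp only [dot, Pi.add_apply, add_mul, Finset.sum_add_distrib]

theorem dot_zero_left (g : GolayPt → ZMod 2) : dot 0 g = 0 := by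
  simp [dot]

theorem dot_comp (σ : Equiv.Perm GolayPt) (f g : GolayPt → ZMod 2) :
    dot f (g ∘ σ.symm) = dot (f ∘ σ) g := by
  unfold dot
  rw [← Equiv.sum_comp σ]
  exact Finset.sum_congr rfl fun i _ => by simp

theorem dot_eq (f g : GolayPt → ZMod 2) : dot f g = ((support₂ f ∩ support₂ g).card : ZMod 2) := by
  rw [← sum_ind, ind_support₂, ind_support₂]
  rfl

theorem dot_code {f g : GolayPt → ZMod 2} (hf : f ∈ golayCode) (hg : g ∈ golayCode) : dot f g = 0 := by
  rw [dot_eq]
  exact (ZMod.natCast_eq_zero_iff_even).2 (even_inter (support₂_mem hf) (support₂_mem hg))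

theorem mem_of_dot {f : GolayPt → ZMod 2} (h : ∀ g ∈ golayCode, dot f g = 0) : f ∈ golayCode := by
  have h1 : support₂ f ∈ Words := by
    refine mem_of_even_inter fun d hd => ?_
    have h2 := h (ind d) ((mem_words_iff d).1 hd)
    rw [dot_eq, support₂_ind] at h2
    exact (ZMod.natCast_eq_zero_iff_even).1 h2
  have h2 := (mem_words_iff _).1 h1
  rwa [ind_support₂] at h2

theorem one_mem_code : (1 : GolayPt → ZMod 2) ∈ golayCode := by
  have h := (mem_words_iff _).1 univ_mem
  have e : ind (Finset.univ : Finset GolayPt) = 1 := by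
    funext i
    simp [ind_apply]
  rwa [e] at h

/-! ### the code words of a vector -/

theorem cast_eq_zero {n : ℤ} (h : n % 2 = 0) : ((n : ℤ) : ZMod 2) = 0 :=
  (ZMod.intCast_zmod_eq_zero_iff_dvd n 2).2 (by omega)

theorem cast_eq_one {n : ℤ} (h : n % 2 = 1) : ((n : ℤ) : ZMod 2) = 1 := by
  have h1 : n = 2 * (n / 2) + 1 := by omega
  rw [h1]
  push_cast
  rw [show (2 : ZMod 2) = 0 from rfl, zero_mul, zero_add]

theorem half_mem {m : ℤ} {x : GolayPt → ℤ} (h : IsLeech m x) :
    (fun i => (((x i - m) / 2 : ℤ) : ZMod 2)) ∈ golayCode := by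
  have h1 := (mem_words_iff _).1 (cls_mem_of_isLeech h)
  have e : (fun i => (((x i - m) / 2 : ℤ) : ZMod 2)) = 1 + ind (cls x m) := by
    funext i
    rw [Pi.add_apply, Pi.one_apply, ind_apply]
    have hp := h.par i
    by_cases hi : i ∈ cls x m
    · rw [if_pos hi, cast_eq_zero]
      · rfl
      · have := (mem_cls x m i).1 hi
        unfold Int.ModEq at *
        (clear * - this; omega)
    · rw [if_neg hi, cast_eq_one, add_zero]
      rw [mem_cls] at hi
      unfold Int.ModEq at *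
      omega
  rw [e]
  exact golayCode.add_mem one_mem_code h1

/-! ### odd vectors -/

/-- the word of an odd vector -/
def fO (x : GolayPt → ℤ) : GolayPt → ZMod 2 := fun i => (((x i ^ 2 - 1) / 8 : ℤ) : ZMod 2)

theorem sq_mod {n : ℤ} (h : n % 2 = 1) : ∃ k, n ^ 2 = 8 * k + 1 := by
  obtain ⟨m, hm⟩ : ∃ m, n = 2 * m + 1 := ⟨n / 2, by omega⟩
  obtain ⟨k, hk⟩ := Int.even_mul_succ_self m
  refine ⟨k, ?_⟩
  rw [hm]
  linarith only [hk]

theorem fO_add {v u : GolayPt → ℤ} (hv : IsLeech 1 v) (hu : u ∈ leechLattice) :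
    fO (v + 2 • u) + fO v ∈ golayCode := by
  have key : ∀ i, fO (v + 2 • u) i + fO v i = ((u i * (u i + v i) / 2 : ℤ) : ZMod 2) := by
    intro i
    have hp := hv.par i
    unfold Int.ModEq at hp
    have h1 : (v + 2 • u) i = v i + 2 * u i := by simp [Pi.add_apply]
    obtain ⟨a, ha⟩ := sq_mod (n := v i) (by omega)
    obtain ⟨b, hb⟩ := sq_mod (n := v i + 2 * u i) (by omega)
    have h2 : u i * (u i + v i) = 2 * (b - a) := by linarith only [ha, hb]
    unfold fO
    rw [h1, ha, hb, h2]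
    have e1 : (8 * b + 1 - 1) / 8 = b := by omega
    have e2 : (8 * a + 1 - 1) / 8 = a := by omega
    have e3 : 2 * (b - a) / 2 = b - a := by omega
    rw [e1, e2, e3]
    push_cast
    have : ∀ x y : ZMod 2, x + y = x - y := by decide
    exact this _ _
  rcases isLeech_zero_or_one hu with h | h
  · have e : fO (v + 2 • u) + fO v = fun i => (((u i - 0) / 2 : ℤ) : ZMod 2) := by
      funext i
      rw [Pi.add_apply, key]
      have hp := hv.par i
      have hq := h.par i
      unfold Int.ModEq at hp hq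
      obtain ⟨k, hk⟩ : ∃ k, u i = 2 * k := ⟨u i / 2, by omega⟩
      obtain ⟨l, hl⟩ : ∃ l, v i = 2 * l + 1 := ⟨v i / 2, by omega⟩
      have e1 : u i * (u i + v i) / 2 = k + 2 * (k * (k + l)) := by
        have : u i * (u i + v i) = 2 * (k + 2 * (k * (k + l))) := by rw [hk, hl]; ring
        rw [this]
        omega
      have e2 : (u i - 0) / 2 = k := by (clear * - hk; omega)
      rw [e1, e2]
      push_cast
      rw [show (2 : ZMod 2) = 0 from rfl, zero_mul, add_zero]
    rw [e]
    exact half_mem h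
  · have h' : IsLeech 0 (u + v) := (h.add hv).congr (by decide)
    have e : fO (v + 2 • u) + fO v = fun i => ((((u + v) i - 0) / 2 : ℤ) : ZMod 2) := by
      funext i
      rw [Pi.add_apply, key]
      have hp := hv.par i
      have hq := h.par i
      unfold Int.ModEq at hp hq
      obtain ⟨k, hk⟩ : ∃ k, u i = 2 * k + 1 := ⟨u i / 2, by omega⟩
      obtain ⟨l, hl⟩ : ∃ l, v i = 2 * l + 1 := ⟨v i / 2, by omega⟩
      have e1 : u i * (u i + v i) / 2 = (k + l + 1) + 2 * (k * (k + l + 1)) := by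
        have : u i * (u i + v i) = 2 * ((k + l + 1) + 2 * (k * (k + l + 1))) := by rw [hk, hl]; ring
        rw [this]
        omega
      have e2 : ((u + v) i - 0) / 2 = k + l + 1 := by
        rw [Pi.add_apply, hk, hl]
        (clear * -; omega)
      rw [e1, e2]
      push_cast
      rw [show (2 : ZMod 2) = 0 from rfl, zero_mul, add_zero]
    rw [e]
    exact half_mem h'

theorem sum_fO {v : GolayPt → ℤ} (hv : IsLeech 1 v) (hv' : v ∈ leechLattice) : dot (fO v) 1 = 1 := by
  have h1 := sixteen_dvd_sqNorm hv'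
  have h2 : ∀ i, v i ^ 2 = 8 * ((v i ^ 2 - 1) / 8) + 1 := by
    intro i
    have hp := hv.par i
    unfold Int.ModEq at hp
    obtain ⟨a, ha⟩ := sq_mod (n := v i) (by omega)
    omega
  have h3 : sqNorm v = 8 * ∑ i, ((v i ^ 2 - 1) / 8) + 24 := by
    show ∑ i, v i ^ 2 = _
    rw [Finset.sum_congr rfl fun i _ => h2 i, Finset.sum_add_distrib, ← Finset.mul_sum]
    congr 1
  have h4 : (∑ i, ((v i ^ 2 - 1) / 8)) % 2 = 1 := by omega
  have h5 := cast_eq_one h4
  unfold dot fO
  rw [← h5]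
  push_cast
  exact Finset.sum_congr rfl fun i _ => by rw [Pi.one_apply, mul_one]

/-! ### even vectors -/

/-- An exact monomial involution without fixed points does not negate an odd vector. -/
theorem no_odd {E : Finset GolayPt} (hEw : E ∈ Words) {a : Equiv.Perm GolayPt} (ha : ∀ i, a (a i) = i)
    (hfix : ∀ i, a i ≠ i) {u : GolayPt → ℤ} (hu : IsLeech 1 u) (h1 : ∀ i ∈ E, u (a i) = u i)
    (h2 : ∀ i, i ∉ E → u (a i) = -u i) : False := by
  have hodd : ∀ i, u i % 2 = 1 := fun i => by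
    have := hu.par i
    unfold Int.ModEq at this
    omega
  have haE : ∀ i, i ∈ E → a i ∈ E := by
    intro i hi
    by_contra hc
    have h3 := h2 _ hc
    rw [ha, h1 i hi] at h3
    have := hodd i
    omega
  have haE' : ∀ i, i ∉ E → a i ∉ E := by
    intro i hi hc
    apply hi
    have := haE _ hc
    rwa [ha] at this
  obtain ⟨K, hKw, hKm⟩ : ∃ K ∈ Words, ∀ i, i ∈ K ↔ u i % 4 = 3 := by
    refine ⟨(cls u 1)ᶜ, compl_mem (cls_mem_of_isLeech hu), fun i => ?_⟩
    rw [Finset.mem_compl, mem_cls]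
    have := hodd i
    unfold Int.ModEq
    omega
  -- the sum outside `E` vanishes
  have s1 : ∑ i ∈ Eᶜ, u i = 0 := by
    refine Finset.sum_involution (fun i _ => a i) ?_ ?_ ?_ ?_
    · intro i hi
      rw [h2 i (Finset.mem_compl.1 hi)]
      ring
    · intro i _ _
      exact hfix i
    · intro i hi
      exact Finset.mem_compl.2 (haE' i (Finset.mem_compl.1 hi))
    · intro i _
      exact ha i
  -- the sum over `E`
  set μ : GolayPt → ℤ := fun i => (u i - 1 - 2 * (if i ∈ K then 1 else 0)) / 4 with hμ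
  have hμe : ∀ i, u i = 1 + 2 * (if i ∈ K then 1 else 0) + 4 * μ i := by
    intro i
    have h3 := hodd i
    have h4 := hKm i
    simp only [hμ]
    by_cases hi : i ∈ K
    · rw [if_pos hi]
      have := h4.1 hi
      omega
    · rw [if_neg hi]
      have := (not_iff_not.2 h4).1 hi
      omega
  have s2 : (∑ i ∈ E, μ i) % 2 = 0 := by
    have h3 : ∑ i ∈ E, ((μ i : ℤ) : ZMod 2) = 0 := by
      refine Finset.sum_involution (fun i _ => a i) ?_ ?_ ?_ ?_
      · intro i hi
        have h4 : μ (a i) = μ i := by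
          have h5 : u (a i) = u i := h1 i hi
          have h6 : (a i ∈ K) ↔ (i ∈ K) := by rw [hKm, hKm, h5]
          simp only [hμ, h5, h6]
        rw [h4]
        have : ∀ x : ZMod 2, x + x = 0 := by decide
        exact this _
      · intro i _ _
        exact hfix i
      · intro i hi
        exact haE i hi
      · intro i _
        exact ha i
    have h4 : (((∑ i ∈ E, μ i : ℤ)) : ZMod 2) = 0 := by
      push_cast
      exact h3
    have h5 := (ZMod.intCast_zmod_eq_zero_iff_dvd _ 2).1 h4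
    push_cast at h5
    omega
  have s3 : ∑ i ∈ E, u i = (E.card : ℤ) + 2 * ((K ∩ E).card : ℤ) + 4 * ∑ i ∈ E, μ i := by
    rw [Finset.sum_congr rfl fun i _ => hμe i, Finset.sum_add_distrib, Finset.sum_add_distrib, ← Finset.mul_sum,
      ← Finset.mul_sum]
    have e1 : ∑ i ∈ E, (1 : ℤ) = (E.card : ℤ) := by simp
    have e2 : ∑ i ∈ E, (if i ∈ K then (1 : ℤ) else 0) = ((K ∩ E).card : ℤ) := by
      rw [← Finset.sum_filter, Finset.sum_const, nsmul_eq_mul, mul_one]
      congr 1
      apply congrArg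
      ext i
      rw [Finset.mem_filter, Finset.mem_inter]
      (clear * - E K i; tauto)
    rw [e1, e2]
  -- half of the complement is in `K`
  have s4 : (K ∩ Eᶜ).card = (Eᶜ \ K).card := by
    refine Finset.card_bij (fun i _ => a i) ?_ ?_ ?_
    · intro i hi
      rw [Finset.mem_inter, Finset.mem_compl (s := E)] at hi
      rw [Finset.mem_sdiff, Finset.mem_compl (s := E)]
      refine ⟨haE' i hi.2, ?_⟩
      rw [hKm, h2 i hi.2]
      have := (hKm i).1 hi.1
      omega
    · intro i _ j _ hij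
      exact a.injective hij
    · intro i hi
      rw [Finset.mem_sdiff, Finset.mem_compl (s := E)] at hi
      refine ⟨a i, ?_, ha i⟩
      rw [Finset.mem_inter, Finset.mem_compl (s := E)]
      refine ⟨?_, haE' i hi.1⟩
      rw [hKm, h2 i hi.1]
      have h5 := hodd i
      have h6 := (not_iff_not.2 (hKm i)).1 hi.2
      omega
  have s5 : (K ∩ Eᶜ).card + (Eᶜ \ K).card = Eᶜ.card := by
    rw [Finset.inter_comm]
    exact Finset.card_inter_add_card_sdiff _ _
  have s6 : (K ∩ E).card + (K ∩ Eᶜ).card = K.card := by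
    have : K ∩ Eᶜ = K \ E := by
      ext i
      simp
    rw [this]
    exact Finset.card_inter_add_card_sdiff _ _
  have s7 : E.card + Eᶜ.card = 24 := by
    rw [Finset.card_add_card_compl, card_golayPt]
  have s8 := four_dvd_card hKw
  have s9 := four_dvd_card hEw
  have s10 : ∑ i, u i = ∑ i ∈ E, u i + ∑ i ∈ Eᶜ, u i := (Finset.sum_add_sum_compl E u).symm
  have s11 := hu.sum
  rw [s10, s1, s3] at s11
  unfold Int.ModEq at s11
  omega

/-! ### fixed vectors of one element -/

theorem mono_apply (e : golayCode) (a : M24) (v : leechLattice) (i : GolayPt) :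
    (((signCo0 e * permCo0 a) • v : leechLattice) : GolayPt → ℤ) i =
      sgn (((e : GolayPt → ZMod 2) i :)) * (v : GolayPt → ℤ) ((a : Equiv.Perm GolayPt).symm i) := by
  rw [mul_smul, signCo0_smul, signMap_apply, permCo0_smul, permMap_apply]

theorem sgn_cases (x : ZMod 2) : (x = 0 ∧ sgn x = 1) ∨ (x ≠ 0 ∧ sgn x = -1) := by
  by_cases h : x = 0
  · left; exact ⟨h, if_pos h⟩
  · right; exact ⟨h, if_neg h⟩

theorem cong_eq {y : Co0} {v : leechLattice} (h : Cong (y • v) v) :
    ∃ u : leechLattice, y • v = v + 2 • u ∧ ((y • v : leechLattice) : GolayPt → ℤ) = (v : GolayPt → ℤ) + 2 • (u : GolayPt → ℤ) := by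
  obtain ⟨u, hu⟩ := h
  have h1 : y • v = v + 2 • u := by rw [← hu]; abel
  refine ⟨u, h1, ?_⟩
  rw [h1]
  rfl

theorem odd_step {e : golayCode} {a : M24} {v : leechLattice} (hv : IsLeech 1 (v : GolayPt → ℤ))
    (h : Cong ((signCo0 e * permCo0 a) • v) v) :
    fO v ∘ (a : Equiv.Perm GolayPt).symm + fO v ∈ golayCode := by
  obtain ⟨u, -, hu⟩ := cong_eq h
  have h1 := fO_add hv u.2
  rw [← hu] at h1
  have h2 : fO (((signCo0 e * permCo0 a) • v : leechLattice) : GolayPt → ℤ) =
      fO v ∘ (a : Equiv.Perm GolayPt).symm := by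
    funext i
    unfold fO
    rw [mono_apply]
    rcases sgn_cases (((e : GolayPt → ZMod 2) i :)) with ⟨-, h3⟩ | ⟨-, h3⟩
    · rw [h3, one_mul]; rfl
    · rw [h3, neg_one_mul, neg_sq]; rfl
  rwa [h2] at h1

theorem even_step {e : golayCode} {a : M24} (ha : a * a = 1)
    (hy : (signCo0 e * permCo0 a) * (signCo0 e * permCo0 a) = 1) {v : leechLattice}
    (hv : IsLeech 0 (v : GolayPt → ℤ)) (h : Cong ((signCo0 e * permCo0 a) • v) v) :
    ∃ u : leechLattice, IsLeech 0 (u : GolayPt → ℤ) ∧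
      ∀ i, sgn (((e : GolayPt → ZMod 2) i :)) * (v : GolayPt → ℤ) ((a : Equiv.Perm GolayPt).symm i) =
        (v : GolayPt → ℤ) i + 2 * (u : GolayPt → ℤ) i := by
  obtain ⟨u, h1, h2⟩ := cong_eq h
  have h3 : ∀ i, sgn (((e : GolayPt → ZMod 2) i :)) * (v : GolayPt → ℤ) ((a : Equiv.Perm GolayPt).symm i) =
        (v : GolayPt → ℤ) i + 2 * (u : GolayPt → ℤ) i := by
    intro i
    rw [← mono_apply, h2]
    simp [Pi.add_apply]
  refine ⟨u, ?_, h3⟩
  rcases isLeech_zero_or_one u.2 with h0 | h0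
  · exact h0
  exfalso
  have haa : ∀ i, (a : Equiv.Perm GolayPt) ((a : Equiv.Perm GolayPt) i) = i := by
    intro i
    have := congrArg (fun x : M24 => (x : Equiv.Perm GolayPt) i) ha
    exact this
  have has : ∀ i, (a : Equiv.Perm GolayPt).symm i = (a : Equiv.Perm GolayPt) i := by
    intro i
    rw [Equiv.symm_apply_eq, haa]
  have hvp : ∀ i, (v : GolayPt → ℤ) i % 2 = 0 := fun i => by
    have := hv.par i
    unfold Int.ModEq at this
    omega
  have hup : ∀ i, (u : GolayPt → ℤ) i % 2 = 1 := fun i => by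
    have := h0.par i
    unfold Int.ModEq at this
    omega
  by_cases hfix : ∀ i, (a : Equiv.Perm GolayPt) i ≠ i
  · -- `y u = - u`
    have h4 : (signCo0 e * permCo0 a) • u = -u := by
      have h5 : (signCo0 e * permCo0 a) • ((signCo0 e * permCo0 a) • v) = v := by
        rw [← mul_smul, hy, one_smul]
      rw [h1, Cfsg.Agent.SporadicA.Co0Mono.smul_add, smul_nsmul, h1] at h5
      have h6 : 2 • ((signCo0 e * permCo0 a) • u) = 2 • (-u) := by
        have h7 : v + 2 • u + 2 • ((signCo0 e * permCo0 a) • u) - (v + 2 • u) = v - (v + 2 • u) := by rw [h5]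
        rw [add_sub_cancel_left] at h7
        rw [h7, _root_.smul_neg]
        abel
      apply Subtype.ext
      funext i
      have h8 := congrFun (congrArg (fun x : leechLattice => (x : GolayPt → ℤ)) h6) i
      simp only [two_smul, AddSubgroup.coe_add, Pi.add_apply, AddSubgroup.coe_neg, Pi.neg_apply] at h8
      rw [AddSubgroup.coe_neg, Pi.neg_apply]
      omega
    have h5 : ∀ i, sgn (((e : GolayPt → ZMod 2) i :)) * (u : GolayPt → ℤ) ((a : Equiv.Perm GolayPt) i) =
        -(u : GolayPt → ℤ) i := by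
      intro i
      rw [← has, ← mono_apply, h4, AddSubgroup.coe_neg, Pi.neg_apply]
    refine no_odd (E := support₂ (e : GolayPt → ZMod 2)) (support₂_mem e.2) haa hfix h0 ?_ ?_
    · intro i hi
      rw [mem_support₂] at hi
      have h6 := h5 i
      rcases sgn_cases ((e : GolayPt → ZMod 2) i) with ⟨h7, h8⟩ | ⟨h7, h8⟩
      · exact absurd h7 hi
      · rw [h8] at h6
        omega
    · intro i hi
      rw [mem_support₂, not_not] at hi
      have h6 := h5 i
      rcases sgn_cases (((e : GolayPt → ZMod 2) i :)) with ⟨h7, h8⟩ | ⟨h7, h8⟩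
      · rw [h8] at h6
        omega
      · exact absurd hi h7
  · push Not at hfix
    obtain ⟨i, hi⟩ := hfix
    have h4 := h3 i
    rw [has, hi] at h4
    have h5 := hvp i
    have h6 := hup i
    rcases sgn_cases (((e : GolayPt → ZMod 2) i :)) with ⟨h7, h8⟩ | ⟨h7, h8⟩ <;> rw [h8] at h4 <;> omega

end Cfsg.Agent.H995.Co1T
end

-- part: H995/Co1T/FixOnly
section
/-!
# Common fixed vectors of three monomial involutions
-/

set_option autoImplicit false

namespace Cfsg.Agent.H995.Co1T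

open Cfsg Cfsg.Agent.Leech.Code Cfsg.Agent.Leech.Basic
open Cfsg.Agent.SporadicA.Co0Mono
open Cfsg.Agent.H995.Co1F
open Cfsg.Agent.SporadicStructure.Co0Base (e8 e8_coe)

/-- the group generated by the three permutations has no fixed points on the cocode, and only the trivial ones on
the code -/
structure Gen3 (a b d : M24) : Prop where
  y1 : ∀ f : GolayPt → ZMod 2, f ∘ (a : Equiv.Perm GolayPt).symm + f ∈ golayCode →
    f ∘ (b : Equiv.Perm GolayPt).symm + f ∈ golayCode → f ∘ (d : Equiv.Perm GolayPt).symm + f ∈ golayCode →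
    f ∈ golayCode
  y2 : ∀ f ∈ golayCode, f ∘ (a : Equiv.Perm GolayPt).symm = f → f ∘ (b : Equiv.Perm GolayPt).symm = f →
    f ∘ (d : Equiv.Perm GolayPt).symm = f → ∀ i, f i = f none

/-- an exact monomial involution -/
def Exact (e : golayCode) (a : M24) : Prop :=
  a * a = 1 ∧ (signCo0 e * permCo0 a) * (signCo0 e * permCo0 a) = 1

theorem exists_odd : ∃ w : leechLattice, ∀ i, (w : GolayPt → ℤ) i % 2 = 1 := by
  refine ⟨⟨_, Cfsg.Agent.SporadicStructure.Co0Base.minus3_mem none⟩, fun i => ?_⟩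
  by_cases h : i = none
  · subst h
    show (if (none : GolayPt) = none then (-3 : ℤ) else 1) % 2 = 1
    rw [if_pos rfl]; rfl
  · show (if i = none then (-3 : ℤ) else 1) % 2 = 1
    rw [if_neg h]; rfl

theorem two_smul_coe (x : leechLattice) (i : GolayPt) :
    ((2 • x : leechLattice) : GolayPt → ℤ) i = 2 * (x : GolayPt → ℤ) i := by
  show ((2 • (x : GolayPt → ℤ)) : GolayPt → ℤ) i = _
  simp

theorem cong_of_four {v : leechLattice} (hv4 : ∀ i, (v : GolayPt → ℤ) i % 4 = 0)
    (hf : (fun i => (((v : GolayPt → ℤ) i / 4 : ℤ) : ZMod 2)) ∈ golayCode) : Cong v 0 ∨ Cong v (e8 none) := by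
  have hv : IsLeech 0 (v : GolayPt → ℤ) := isLeech_zero_of v.2 (i := none) (by have := hv4 none; omega)
  have hw := (mem_words_iff _).2 (show ind (support₂ _) ∈ golayCode by rw [ind_support₂]; exact hf)
  set x : GolayPt → ℤ := fun i => (v : GolayPt → ℤ) i / 2 with hx
  have hx2 : ∀ i, (v : GolayPt → ℤ) i = 2 * x i := by
    intro i
    have := hv4 i
    simp only [hx]
    omega
  have hsum : ∑ i, (v : GolayPt → ℤ) i = 2 * ∑ i, x i := by
    rw [Finset.mul_sum]
    exact Finset.sum_congr rfl fun i _ => hx2 i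
  have hs8 := hv.sum
  rw [hsum] at hs8
  unfold Int.ModEq at hs8
  have hcls : ∀ z : GolayPt → ℤ, (∀ i, (z i - x i) % 4 = 0) → cls z 0 ∈ Words := by
    intro z hz
    have e : cls z 0 = (support₂ (fun i => (((v : GolayPt → ℤ) i / 4 : ℤ) : ZMod 2)))ᶜ := by
      ext i
      rw [mem_cls, Finset.mem_compl (s := support₂ _), mem_support₂, not_not]
      have h1 := hz i
      have h2 := hv4 i
      have h3 := hx2 i
      unfold Int.ModEq
      constructor
      · intro h
        apply cast_eq_zero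
        omega
      · intro h
        have h4 := (ZMod.intCast_zmod_eq_zero_iff_dvd _ 2).1 h
        push_cast at h4
        omega
    rw [e]
    exact compl_mem hw
  have hpar : ∀ i, x i % 2 = 0 := by
    intro i
    have := hv4 i
    simp only [hx]
    omega
  rcases (show (∑ i, x i) % 8 = 0 ∨ (∑ i, x i) % 8 = 4 by omega) with h8 | h8
  · left
    have hL : IsLeech 0 x := isLeech_of_cls (fun i => by have := hpar i; unfold Int.ModEq; omega)
      (by unfold Int.ModEq; omega) (hcls x fun i => by omega)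
    refine ⟨⟨x, hL.mem⟩, ?_⟩
    rw [sub_zero]
    apply Subtype.ext
    funext i
    rw [two_smul_coe, hx2 i]
  · right
    have hs : ∑ i, (x - (Pi.single (none : GolayPt) (4 : ℤ) : GolayPt → ℤ)) i = ∑ i, x i - 4 := by
      simp only [Finset.sum_sub_distrib, _root_.Pi.sub_apply, _root_.Fintype.sum_option, _root_.Finset.sum_pi_single', _root_.Finset.mem_univ, ↓ _root_.reduceIte]
    have hL : IsLeech 0 (x - (Pi.single (none : GolayPt) (4 : ℤ) : GolayPt → ℤ)) := by
      refine isLeech_of_cls (fun i => ?_) ?_ (hcls _ fun i => ?_)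
      · rw [Pi.sub_apply, Pi.single_apply]
        have := hpar i
        unfold Int.ModEq
        split_ifs <;> omega
      · rw [hs]
        unfold Int.ModEq
        omega
      · rw [Pi.sub_apply, Pi.single_apply]
        split_ifs <;> omega
    refine ⟨⟨_, hL.mem⟩, ?_⟩
    apply Subtype.ext
    funext i
    rw [two_smul_coe]
    show (v : GolayPt → ℤ) i - (e8 none : leechLattice).1 i = _
    rw [e8_coe, hx2 i]
    show _ = 2 * (x i - (Pi.single (none : GolayPt) (4 : ℤ) : GolayPt → ℤ) i)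
    rw [Pi.single_apply, Pi.single_apply]
    split_ifs <;> ring

theorem four_step {e : golayCode} {a : M24} (h : Exact e a) {v : leechLattice}
    (hv4 : ∀ i, (v : GolayPt → ℤ) i % 4 = 0) (hc : Cong ((signCo0 e * permCo0 a) • v) v) :
    (fun i => (((v : GolayPt → ℤ) i / 4 : ℤ) : ZMod 2)) ∘ (a : Equiv.Perm GolayPt).symm +
      (fun i => (((v : GolayPt → ℤ) i / 4 : ℤ) : ZMod 2)) ∈ golayCode := by
  have hv : IsLeech 0 (v : GolayPt → ℤ) := isLeech_zero_of v.2 (i := none) (by have := hv4 none; omega)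
  obtain ⟨u, hu, h1⟩ := even_step h.1 h.2 hv hc
  have h2 := half_mem hu
  have e1 : (fun i => (((v : GolayPt → ℤ) i / 4 : ℤ) : ZMod 2)) ∘ (a : Equiv.Perm GolayPt).symm +
      (fun i => (((v : GolayPt → ℤ) i / 4 : ℤ) : ZMod 2)) = fun i => ((((u : GolayPt → ℤ) i - 0) / 2 : ℤ) : ZMod 2) := by
    funext i
    rw [Pi.add_apply, Function.comp_apply]
    have h3 := h1 i
    obtain ⟨k, hk⟩ : ∃ k, (v : GolayPt → ℤ) i = 4 * k := ⟨(v : GolayPt → ℤ) i / 4, by have := hv4 i; omega⟩
    obtain ⟨l, hl⟩ : ∃ l, (v : GolayPt → ℤ) ((a : Equiv.Perm GolayPt).symm i) = 4 * l :=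
      ⟨(v : GolayPt → ℤ) ((a : Equiv.Perm GolayPt).symm i) / 4, by have := hv4 ((a : Equiv.Perm GolayPt).symm i); omega⟩
    rw [hk, hl] at h3
    rw [hk, hl]
    have e2 : 4 * k / 4 = k := by omega
    have e3 : 4 * l / 4 = l := by omega
    rw [e2, e3]
    rcases sgn_cases (((e : GolayPt → ZMod 2) i :)) with ⟨-, h4⟩ | ⟨-, h4⟩ <;> rw [h4] at h3
    · have e4 : ((u : GolayPt → ℤ) i - 0) / 2 = l - k := by omega
      rw [e4]
      push_cast
      have : ∀ x y : ZMod 2, x + y = x - y := by decide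
      exact this _ _
    · have e4 : ((u : GolayPt → ℤ) i - 0) / 2 = -l - k := by omega
      rw [e4]
      push_cast
      have : ∀ x y : ZMod 2, x + y = -x - y := by decide
      exact this _ _
  rw [e1]
  exact h2

theorem half_step {e : golayCode} {a : M24} (h : Exact e a) {v : leechLattice}
    (hv : IsLeech 0 (v : GolayPt → ℤ)) (hc : Cong ((signCo0 e * permCo0 a) • v) v) :
    (fun i => ((((v : GolayPt → ℤ) i - 0) / 2 : ℤ) : ZMod 2)) ∘ (a : Equiv.Perm GolayPt).symm =
      (fun i => ((((v : GolayPt → ℤ) i - 0) / 2 : ℤ) : ZMod 2)) := by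
  obtain ⟨u, hu, h1⟩ := even_step h.1 h.2 hv hc
  funext i
  rw [Function.comp_apply]
  have h3 := h1 i
  have p1 := hv.par i
  have p2 := hv.par ((a : Equiv.Perm GolayPt).symm i)
  have p3 := hu.par i
  unfold Int.ModEq at p1 p2 p3
  obtain ⟨k, hk⟩ : ∃ k, (v : GolayPt → ℤ) i = 2 * k := ⟨(v : GolayPt → ℤ) i / 2, by omega⟩
  obtain ⟨l, hl⟩ : ∃ l, (v : GolayPt → ℤ) ((a : Equiv.Perm GolayPt).symm i) = 2 * l :=
    ⟨(v : GolayPt → ℤ) ((a : Equiv.Perm GolayPt).symm i) / 2, by omega⟩
  obtain ⟨m, hm⟩ : ∃ m, (u : GolayPt → ℤ) i = 2 * m := ⟨(u : GolayPt → ℤ) i / 2, by omega⟩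
  rw [hk, hl, hm] at h3
  rw [hk, hl]
  have e2 : (2 * k - 0) / 2 = k := by omega
  have e3 : (2 * l - 0) / 2 = l := by omega
  rw [e2, e3]
  rcases sgn_cases (((e : GolayPt → ZMod 2) i :)) with ⟨-, h4⟩ | ⟨-, h4⟩ <;> rw [h4] at h3
  · have e4 : l = k + 2 * m := by omega
    rw [e4]
    push_cast
    rw [show (2 : ZMod 2) = 0 from rfl, zero_mul, add_zero]
  · have e4 : l = -k - 2 * m := by omega
    rw [e4]
    push_cast
    rw [show (2 : ZMod 2) = 0 from rfl, zero_mul, sub_zero]
    have : ∀ x : ZMod 2, -x = x := by decide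
    exact this _

/-- **Three exact monomial involutions whose permutations satisfy `Gen3` fix only the frame vector modulo `2 Λ`.** -/
theorem fix_only {a b d : M24} (hG : Gen3 a b d) {x y z : golayCode} (hx : Exact x a) (hy : Exact y b)
    (hz : Exact z d) {v : leechLattice} (h1 : Cong ((signCo0 x * permCo0 a) • v) v)
    (h2 : Cong ((signCo0 y * permCo0 b) • v) v) (h3 : Cong ((signCo0 z * permCo0 d) • v) v) :
    Cong v 0 ∨ Cong v (e8 none) := by
  have key : ∀ w : leechLattice, (∀ i, (w : GolayPt → ℤ) i % 4 = 0) → Cong w v → Cong w 0 ∨ Cong w (e8 none) := by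
    intro w hw4 hc
    have t : ∀ g : Co0, Cong (g • v) v → Cong (g • w) w := fun g hg => ((hc.smul g).trans hg).trans hc.symm
    exact cong_of_four hw4 (hG.y1 _ (four_step hx hw4 (t _ h1)) (four_step hy hw4 (t _ h2))
      (four_step hz hw4 (t _ h3)))
  rcases isLeech_zero_or_one v.2 with hv | hv
  · have hf := half_mem hv
    have hc := hG.y2 _ hf (half_step hx hv h1) (half_step hy hv h2) (half_step hz hv h3)
    rcases Cfsg.Agent.SporadicStructure.LeechBase.zmod2_cases
      ((fun i => ((((v : GolayPt → ℤ) i - 0) / 2 : ℤ) : ZMod 2)) none) with h0 | h0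
    · refine key v (fun i => ?_) (Cong.refl v)
      have h4 := (hc i).trans h0
      have h5 := (ZMod.intCast_zmod_eq_zero_iff_dvd _ 2).1 h4
      push_cast at h5
      have p1 := hv.par i
      unfold Int.ModEq at p1
      omega
    · obtain ⟨w, hw⟩ := exists_odd
      have hcw : Cong (v + 2 • w) v := ⟨w, by abel⟩
      have h6 : Cong (v + 2 • w) 0 ∨ Cong (v + 2 • w) (e8 none) := by
        refine key _ (fun i => ?_) hcw
        have h4 := (hc i).trans h0
        have h5 : ((((v : GolayPt → ℤ) i - 0) / 2 : ℤ) : ZMod 2) ≠ 0 := by rw [h4]; decide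
        have h7 : ¬ (((v : GolayPt → ℤ) i - 0) / 2) % 2 = 0 := fun h => h5 (cast_eq_zero h)
        have p1 := hv.par i
        have p2 := hw i
        unfold Int.ModEq at p1
        rw [AddSubgroup.coe_add, Pi.add_apply, two_smul_coe]
        omega
      rcases h6 with h6 | h6
      · left; exact hcw.symm.trans h6
      · right; exact hcw.symm.trans h6
  · exfalso
    have hf := hG.y1 _ (odd_step hv h1) (odd_step hv h2) (odd_step hv h3)
    have h4 := dot_code hf one_mem_code
    rw [sum_fO hv v.2] at h4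
    exact one_ne_zero h4

end Cfsg.Agent.H995.Co1T
end

-- part: H995/Co1T/Trip
section
/-!
# Monomial elements as products of three exact involutions without common fixed vectors outside the frame
-/

set_option autoImplicit false

namespace Cfsg.Agent.H995.Co1T

open Cfsg
open Cfsg.Agent.SporadicA.Co0Mono
open Cfsg.Agent.H995.Co1F
open Cfsg.Agent.SporadicA.GolayBase (isCode idx pt word word_apply basisMask word_xor)
open Cfsg.Agent.SporadicA.GolayPerm (papp pimg pcomp permOf permOf_apply testBit_pimg_papp idx_permOf)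
open Cfsg.Agent.SporadicStructure.M24El
open Cfsg.Agent.MonsterX.FrameStab (FixesFrame)
open Cfsg.Agent.SporadicStructure.Co0Base (e8 e8_coe)

/-- `e` is a code word with `a(e) = e` -/
def inZ (a e : ℕ) : Bool := isCode e && Nat.beq (pimg a e) e

/-- the check of a record -/
def chkF (q : FRec) : Bool :=
  ok q.c && ok q.a && ok q.b && ok q.d && Nat.beq (pcomp q.a q.a) idP && Nat.beq (pcomp q.b q.b) idP &&
    Nat.beq (pcomp q.d q.d) idP && Nat.beq (pcomp (pcomp q.a q.b) q.d) q.c &&
    ((List.range 12).all fun k =>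
      inZ q.a (q.e.getD k (0, 0, 0)).1 && inZ q.b (q.e.getD k (0, 0, 0)).2.1 && inZ q.d (q.e.getD k (0, 0, 0)).2.2 &&
        Nat.beq ((q.e.getD k (0, 0, 0)).1 ^^^ pimg q.a (q.e.getD k (0, 0, 0)).2.1 ^^^
          pimg (pcomp q.a q.b) (q.e.getD k (0, 0, 0)).2.2) (basisMask k)) &&
    ((List.range 12).all fun k =>
      isCode (q.l.getD k (0, 0, 0)).1 && isCode (q.l.getD k (0, 0, 0)).2.1 && isCode (q.l.getD k (0, 0, 0)).2.2 &&
        Nat.beq (((q.l.getD k (0, 0, 0)).1 ^^^ pimg q.a (q.l.getD k (0, 0, 0)).1) ^^^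
          ((q.l.getD k (0, 0, 0)).2.1 ^^^ pimg q.b (q.l.getD k (0, 0, 0)).2.1) ^^^
          ((q.l.getD k (0, 0, 0)).2.2 ^^^ pimg q.d (q.l.getD k (0, 0, 0)).2.2)) (basisMask k)) &&
    ((List.range 24).all fun k =>
      isCode (q.s.getD k (0, 0, 0, 0)).2.2.2 &&
        Nat.beq (((q.s.getD k (0, 0, 0, 0)).1 ^^^ pimg q.a (q.s.getD k (0, 0, 0, 0)).1) ^^^
          ((q.s.getD k (0, 0, 0, 0)).2.1 ^^^ pimg q.b (q.s.getD k (0, 0, 0, 0)).2.1) ^^^
          ((q.s.getD k (0, 0, 0, 0)).2.2.1 ^^^ pimg q.d (q.s.getD k (0, 0, 0, 0)).2.2.1) ^^^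
          (q.s.getD k (0, 0, 0, 0)).2.2.2) (2 ^ k ^^^ 2 ^ 23))

private noncomputable def _root_.Cfsg.Agent.GolayF.f0 : {f // @Cfsg.Agent.H995.Co1T.chkF = f} :=
  ⟨_, by delta Cfsg.Agent.H995.Co1T.chkF Cfsg.Agent.H995.Co1T.inZ; rewrite [Cfsg.Agent.GolayF.pcomp_eq, Cfsg.Agent.GolayF.pimg_eq, Cfsg.Agent.GolayF.isCode_eq, Cfsg.Agent.GolayF.ok_eq]; exact rfl⟩

theorem chkFR : FR.all chkF = true := by (rewrite [Cfsg.Agent.GolayF.f0.2]; decide +kernel)

theorem FR_cover : (Cfsg.Agent.H334.Ore.M24Data.D.all fun r =>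
    (ok r.c && Nat.beq (pcomp r.c r.c) idP) || FR.any fun q => Nat.beq q.c r.c) = true := by
  (rewrite [Cfsg.Agent.GolayF.pcomp_eq, Cfsg.Agent.GolayF.ok_eq]; decide +kernel)

/-- the words fixed by `σ` -/
def Zof (σ : M24) : AddSubgroup golayCode where
  carrier := {e | wordPerm σ e = e}
  zero_mem' := by
    apply Subtype.ext
    funext i
    rfl
  add_mem' := by
    intro e f he hf
    have h1 : wordPerm σ (e + f) = wordPerm σ e + wordPerm σ f := by
      apply Subtype.ext
      funext i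
      rfl
    show wordPerm σ (e + f) = e + f
    rw [h1, show wordPerm σ e = e from he, show wordPerm σ f = f from hf]
  neg_mem' := by
    intro e he
    have h1 : -e = e := by
      apply Subtype.ext
      funext i
      show -(e : GolayPt → ZMod 2) i = (e : GolayPt → ZMod 2) i
      have : ∀ a : ZMod 2, -a = a := by decide
      exact this _
    rw [h1]
    exact he

theorem exact_of {σ : M24} (hσ : σ * σ = 1) {e : golayCode} (he : e ∈ Zof σ) : Exact e σ := by
  refine ⟨hσ, ?_⟩
  have h2 : permCo0 σ * signCo0 e * (permCo0 σ)⁻¹ = signCo0 (wordPerm σ e) := perm_mul_sign_mul_inv σ e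
  have h3 : permCo0 σ * permCo0 σ = 1 := by rw [← map_mul, hσ, map_one]
  have h4 : (permCo0 σ)⁻¹ = permCo0 σ := (inv_eq_of_mul_eq_one_left h3 :)
  rw [h4, show wordPerm σ e = e from he] at h2
  have h5 : signCo0 e * permCo0 σ * (signCo0 e * permCo0 σ) = signCo0 e * (permCo0 σ * signCo0 e * permCo0 σ) := by
    group
  rw [h5, h2, signCo0_mul_self]

theorem mem_Zof {P e : ℕ} (hP : ok P = true) (h : inZ P e = true) :
    ∃ w : golayCode, w ∈ Zof (el P) ∧ (w : GolayPt → ZMod 2) = word e := by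
  unfold inZ at h
  rw [Bool.and_eq_true] at h
  refine ⟨⟨word e, word_mem h.1⟩, ?_, rfl⟩
  apply Subtype.ext
  show word e ∘ ((el P : M24) : Equiv.Perm GolayPt).symm = word e
  rw [act_word hP, Nat.eq_of_beq_eq_true h.2]

/-- the sum of the three subgroups -/
def Zsum (a b d : M24) : AddSubgroup (GolayPt → ZMod 2) where
  carrier := {w | ∃ x y z : golayCode, x ∈ Zof a ∧ y ∈ Zof b ∧ z ∈ Zof d ∧
    w = (x : GolayPt → ZMod 2) + (wordPerm a y : GolayPt → ZMod 2) + (wordPerm (a * b) z : GolayPt → ZMod 2)}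
  zero_mem' := ⟨0, 0, 0, zero_mem _, zero_mem _, zero_mem _, by
    funext i
    show (0 : ZMod 2) = 0 + 0 + 0
    rfl⟩
  add_mem' := by
    rintro _ _ ⟨x, y, z, hx, hy, hz, rfl⟩ ⟨x', y', z', hx', hy', hz', rfl⟩
    refine ⟨x + x', y + y', z + z', add_mem hx hx', add_mem hy hy', add_mem hz hz', ?_⟩
    funext i
    show (x : GolayPt → ZMod 2) i + (y : GolayPt → ZMod 2) _ + (z : GolayPt → ZMod 2) _ +
      ((x' : GolayPt → ZMod 2) i + (y' : GolayPt → ZMod 2) _ + (z' : GolayPt → ZMod 2) _) =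
      (x : GolayPt → ZMod 2) i + (x' : GolayPt → ZMod 2) i + ((y : GolayPt → ZMod 2) _ + (y' : GolayPt → ZMod 2) _) +
      ((z : GolayPt → ZMod 2) _ + (z' : GolayPt → ZMod 2) _)
    ring
  neg_mem' := by
    intro w hw
    have h1 : -w = w := by
      funext i
      have : ∀ a : ZMod 2, -a = a := by decide
      exact this _
    rw [h1]
    exact hw

/-- the functions orthogonal to `f` -/
def Orth (f : GolayPt → ZMod 2) : AddSubgroup (GolayPt → ZMod 2) where
  carrier := {w | dot f w = 0}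
  zero_mem' := by simp only [dot, _root_.Fintype.sum_option, _root_.Set.mem_ofPred_eq, _root_.Pi.zero_apply, _root_.MulZeroClass.mul_zero, _root_.Finset.sum_const_zero, _root_.add_zero]
  add_mem' := by
    intro v w hv hw
    show dot f (v + w) = 0
    rw [dot_add_right, show dot f v = 0 from hv, show dot f w = 0 from hw, add_zero]
  neg_mem' := by
    intro w hw
    have h1 : -w = w := by
      funext i
      have : ∀ a : ZMod 2, -a = a := by decide
      exact this _
    rw [h1]
    exact hw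

theorem symm_of_sq {σ : M24} (hσ : σ * σ = 1) : (σ : Equiv.Perm GolayPt).symm = (σ : Equiv.Perm GolayPt) := by
  apply Equiv.ext
  intro i
  rw [Equiv.symm_apply_eq]
  exact (congrArg (fun x : M24 => (x : Equiv.Perm GolayPt) i) hσ).symm

/-- the pairing with a commutator -/
theorem dot_comm {P : ℕ} (hP : ok P = true) (hs : el P * el P = 1) (f : GolayPt → ZMod 2) (m : ℕ) :
    dot f (word (m ^^^ pimg P m)) = dot (f ∘ ((el P : M24) : Equiv.Perm GolayPt).symm + f) (word m) := by
  rw [word_xor, dot_add_right, ← act_word hP, dot_comp, symm_of_sq hs, dot_add_left, add_comm]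

theorem dot_pow {k : ℕ} (hk : k < 24) (f : GolayPt → ZMod 2) : dot f (word (2 ^ k)) = f (pt k) := by
  unfold dot
  rw [Finset.sum_eq_single (pt k)]
  · rw [word_apply, Cfsg.Agent.SporadicA.GolayBase.idx_pt hk, Nat.testBit_two_pow_self, if_pos rfl, mul_one]
  · intro p _ hp
    rw [word_apply, Nat.testBit_two_pow, if_neg, mul_zero]
    rw [decide_eq_true_eq]
    intro h
    apply hp
    rw [h, Cfsg.Agent.SporadicA.GolayBase.pt_idx]
  · intro h
    exact absurd (Finset.mem_univ _) h

/-- the conclusions of the check -/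
theorem of_chk {q : FRec} (h : chkF q = true) : Gen3 (el q.a) (el q.b) (el q.d) ∧
    ∀ e : golayCode, ∃ x y z : golayCode, Exact x (el q.a) ∧ Exact y (el q.b) ∧ Exact z (el q.d) ∧
      signCo0 e * permCo0 (el q.c) =
        (signCo0 x * permCo0 (el q.a)) * (signCo0 y * permCo0 (el q.b)) * (signCo0 z * permCo0 (el q.d)) := by
  unfold chkF at h
  simp only [Bool.and_eq_true] at h
  obtain ⟨⟨⟨⟨⟨⟨⟨⟨⟨⟨hc, ha⟩, hb⟩, hd⟩, haa⟩, hbb⟩, hdd⟩, hprod⟩, hall⟩, hl⟩, hs⟩ := h
  have hab := ok_pcomp ha hb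
  have ea : el q.a * el q.a = 1 := by rw [← el_pcomp ha ha, Nat.eq_of_beq_eq_true haa, el_idP]
  have eb : el q.b * el q.b = 1 := by rw [← el_pcomp hb hb, Nat.eq_of_beq_eq_true hbb, el_idP]
  have ed : el q.d * el q.d = 1 := by rw [← el_pcomp hd hd, Nat.eq_of_beq_eq_true hdd, el_idP]
  have ec : el q.c = el q.a * el q.b * el q.d := by
    rw [← el_pcomp ha hb, ← el_pcomp hab hd, Nat.eq_of_beq_eq_true hprod]
  refine ⟨⟨?_, ?_⟩, ?_⟩
  · intro f h1 h2 h3
    refine mem_of_dot fun g hg => ?_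
    refine le_Ssum (S := Orth f) (fun k hk => ?_) hg
    have h4 := List.all_eq_true.1 hl k (List.mem_range.2 hk)
    simp only [Bool.and_eq_true] at h4
    obtain ⟨⟨⟨c1, c2⟩, c3⟩, c4⟩ := h4
    show dot f (word (basisMask k)) = 0
    rw [← Nat.eq_of_beq_eq_true c4, word_xor, word_xor, dot_add_right, dot_add_right, dot_comm ha ea,
      dot_comm hb eb, dot_comm hd ed, dot_code h1 (word_mem c1), dot_code h2 (word_mem c2),
      dot_code h3 (word_mem c3), add_zero, add_zero]
  · intro f hf h1 h2 h3 i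
    have h4 := List.all_eq_true.1 hs (idx i) (List.mem_range.2 (Cfsg.Agent.SporadicA.GolayBase.idx_lt i))
    simp only [Bool.and_eq_true] at h4
    obtain ⟨c1, c2⟩ := h4
    have hz : ∀ g : GolayPt → ZMod 2, g + g = 0 := by
      intro g
      funext i
      have : ∀ a : ZMod 2, a + a = 0 := by decide
      exact this _
    have h5 : dot f (word (2 ^ idx i ^^^ 2 ^ 23)) = 0 := by
      rw [← Nat.eq_of_beq_eq_true c2, word_xor, word_xor, word_xor, dot_add_right, dot_add_right, dot_add_right,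
        dot_comm ha ea, dot_comm hb eb, dot_comm hd ed, h1, h2, h3, hz, dot_zero_left, dot_zero_left, dot_zero_left,
        dot_code hf (word_mem c1)]
      rfl
    rw [word_xor, dot_add_right, dot_pow (Cfsg.Agent.SporadicA.GolayBase.idx_lt i), dot_pow (by norm_num),
      Cfsg.Agent.SporadicA.GolayBase.pt_idx] at h5
    have : ∀ x y : ZMod 2, x + y = 0 → x = y := by decide
    exact this _ _ h5
  · intro e
    have hS : ∀ k < 12, word (basisMask k) ∈ Zsum (el q.a) (el q.b) (el q.d) := by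
      intro k hk
      have h1 := List.all_eq_true.1 hall k (List.mem_range.2 hk)
      simp only [Bool.and_eq_true] at h1
      obtain ⟨⟨⟨h1, h2⟩, h3⟩, h4⟩ := h1
      obtain ⟨x, hx, hx'⟩ := mem_Zof ha h1
      obtain ⟨y, hy, hy'⟩ := mem_Zof hb h2
      obtain ⟨z, hz, hz'⟩ := mem_Zof hd h3
      refine ⟨x, y, z, hx, hy, hz, ?_⟩
      have hy'' : (wordPerm (el q.a) y : GolayPt → ZMod 2) = word (pimg q.a (q.e.getD k (0, 0, 0)).2.1) := by
        rw [← act_word ha, ← hy']; rfl
      have hz'' : (wordPerm (el q.a * el q.b) z : GolayPt → ZMod 2) =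
          word (pimg (pcomp q.a q.b) (q.e.getD k (0, 0, 0)).2.2) := by
        rw [← act_word hab, ← hz', el_pcomp ha hb]; rfl
      rw [← Nat.eq_of_beq_eq_true h4, word_xor, word_xor, hx', hy'', hz'']
    obtain ⟨x, y, z, hx, hy, hz, hxyz⟩ := le_Ssum hS e.2
    refine ⟨x, y, z, exact_of ea hx, exact_of eb hy, exact_of ed hz, ?_⟩
    have he : e = x + wordPerm (el q.a) y + wordPerm (el q.a * el q.b) z := Subtype.ext hxyz
    have h1 : permCo0 (el q.a) * signCo0 y * (permCo0 (el q.a))⁻¹ = signCo0 (wordPerm (el q.a) y) :=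
      perm_mul_sign_mul_inv _ _
    have h2 : permCo0 (el q.a * el q.b) * signCo0 z * (permCo0 (el q.a * el q.b))⁻¹ =
        signCo0 (wordPerm (el q.a * el q.b) z) := perm_mul_sign_mul_inv _ _
    rw [he, signCo0_add, signCo0_add, ← h1, ← h2, ec]
    simp only [map_mul]
    group

/-- **Triples.** -/
theorem triple_fix {c : golayCode} {σ : M24} (hσ : σ * σ ≠ 1) : ∃ x y z : Co0, x * x = 1 ∧ y * y = 1 ∧ z * z = 1 ∧
    signCo0 c * permCo0 σ = x * y * z ∧ ∀ v : leechLattice, Cong (x • v) v → Cong (y • v) v → Cong (z • v) v →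
      Cong v 0 ∨ Cong v (e8 none) := by
  rcases Cfsg.Agent.H334.Ore.M24R.cov σ with rfl | ⟨r, hr, x, hx, hconj⟩
  · exact absurd (one_mul 1) hσ
  · have hx' : x = el r.c := hx
    subst hx'
    obtain ⟨u, hu⟩ := isConj_iff.1 hconj
    have h1 := List.all_eq_true.1 FR_cover r hr
    rw [Bool.or_eq_true, Bool.and_eq_true] at h1
    rcases h1 with ⟨h1, h2⟩ | h1
    · exfalso
      apply hσ
      have h3 : el r.c * el r.c = 1 := by rw [← el_pcomp h1 h1, Nat.eq_of_beq_eq_true h2, el_idP]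
      rw [← hu]
      have : u * el r.c * u⁻¹ * (u * el r.c * u⁻¹) = u * (el r.c * el r.c) * u⁻¹ := by group
      rw [this, h3]
      group
    obtain ⟨q, hq, hqr⟩ := List.any_eq_true.1 h1
    obtain ⟨hG, h2⟩ := of_chk (List.all_eq_true.1 chkFR q hq)
    obtain ⟨a, b, d, ha, hb, hd, habd⟩ := h2 (wordPerm u⁻¹ c)
    rw [Nat.eq_of_beq_eq_true hqr] at habd
    have hsq : ∀ t : Co0, t * t = 1 → permCo0 u * t * (permCo0 u)⁻¹ * (permCo0 u * t * (permCo0 u)⁻¹) = 1 := by
      intro t ht
      have : permCo0 u * t * (permCo0 u)⁻¹ * (permCo0 u * t * (permCo0 u)⁻¹) = permCo0 u * (t * t) * (permCo0 u)⁻¹ := by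
        group
      rw [this, ht]
      group
    refine ⟨permCo0 u * (signCo0 a * permCo0 (el q.a)) * (permCo0 u)⁻¹,
      permCo0 u * (signCo0 b * permCo0 (el q.b)) * (permCo0 u)⁻¹,
      permCo0 u * (signCo0 d * permCo0 (el q.d)) * (permCo0 u)⁻¹,
      hsq _ ha.2, hsq _ hb.2, hsq _ hd.2, ?_, ?_⟩
    · have h3 : permCo0 u * signCo0 (wordPerm u⁻¹ c) * (permCo0 u)⁻¹ = signCo0 c := by
        rw [perm_mul_sign_mul_inv]
        congr 1
        apply Subtype.ext
        funext i
        show (c : GolayPt → ZMod 2) (((u⁻¹ : M24) : Equiv.Perm GolayPt).symm ((u : Equiv.Perm GolayPt).symm i)) = _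
        exact congrArg (c : GolayPt → ZMod 2) (Equiv.apply_symm_apply (u : Equiv.Perm GolayPt) i)
      have h4 : permCo0 σ = permCo0 u * permCo0 (el r.c) * (permCo0 u)⁻¹ := by
        rw [← hu, map_mul, map_mul, map_inv]
      rw [h4, ← h3]
      have h5 : permCo0 u * signCo0 (wordPerm u⁻¹ c) * (permCo0 u)⁻¹ * (permCo0 u * permCo0 (el r.c) * (permCo0 u)⁻¹) =
          permCo0 u * (signCo0 (wordPerm u⁻¹ c) * permCo0 (el r.c)) * (permCo0 u)⁻¹ := by group
      rw [h5, habd]
      group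
    · intro v h3 h4 h5
      have hcj : ∀ t : Co0, Cong ((permCo0 u * t * (permCo0 u)⁻¹) • v) v →
          Cong (t • ((permCo0 u)⁻¹ • v)) ((permCo0 u)⁻¹ • v) := by
        intro t ht
        have h6 := ht.smul (permCo0 u)⁻¹
        rw [← mul_smul] at h6
        have h7 : (permCo0 u)⁻¹ * (permCo0 u * t * (permCo0 u)⁻¹) = t * (permCo0 u)⁻¹ := by group
        rw [h7, mul_smul] at h6
        exact h6
      rcases fix_only hG ha hb hd (hcj _ h3) (hcj _ h4) (hcj _ h5) with h6 | h6
      · left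
        have h7 := h6.smul (permCo0 u)
        rwa [smul_inv_smul, Cfsg.Agent.SporadicA.Co0Mono.smul_zero] at h7
      · right
        have h7 := h6.smul (permCo0 u)
        rw [smul_inv_smul, perm_e8] at h7
        exact h7.trans (cong_e8 _ _)

end Cfsg.Agent.H995.Co1T
end

private theorem dce_b8b9a79a0019 : _root_.True := by
  try have : _root_.True := by simp only [_root_.Cfsg.Agent.H995.Co1T.dot.eq_1]
  exact _root_.True.intro
end

-- part: H995/Co1T/Shapes
section
prune_inst 0x242000050000020000040012800000811500049000000000b0e40d42014672208002a8004c801c08002030082001000000000020000000000a84400000010120984012061100001506000980108e010000300880000000000000000000051000010000000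
set_option linter.all false
open scoped Cfsg.Agent.FastGrp

-- part: H995/Co1T/DataW
section
/-!
# Involutions in the cosets `t N` (data)
-/

set_option autoImplicit false

namespace Cfsg.Agent.H995.Co1T

/-- `c` a word, `w` an element of `M24`, `v` its inverse, `B` the matrix of `t c w`, `Y` the images of the generators -/
structure WRec where
  c : ℕ
  w : ℕ
  v : ℕ
  B : List ℕ
  Y : List ℕ

/-- an involution in `t2 N` -/
def w2_0 : WRec where
  c := 6768515
  w := 714064377395740424202513347695528589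
  v := 219497824678489906320779053763316365
  B := [0x841948521084190842108421084210, 0x8418c8521084290842108421084210, 0x8428c8521084190842108421084210, 0x842948521084290842108421084210, 0x84210842108420c832106420c84210, 0x642108419083210842108419084210, 0x832108421084210642908521084210, 0x84210842108420c85210a420c84210, 0x842106421464210842148421084210, 0x852108421084210a42908521084210, 0x84210842108421483210a420c84210, 0x852108421084210642908321084210, 0x842108421084214852106420c84210, 0x8421084210842108421084210a328c, 0x642108429085210842108419084210, 0x8421064214a42108420c8421084210, 0x842106420ca4210842148421084210, 0xa42108419085210842108419084210, 0x8421084210842108421084210a5294, 0x842106420c642108420c8421084210, 0x8421084210842108421084210a3194, 0x8421084210842108421084210a518c, 0x832108421084210a42908321084210, 0xa42108429083210842108419084210]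
  Y := [0x941d284a50839d084210841d084210, 0x941ce84a5083a5084210841d084210, 0x9424e84a50839d084210841d084210, 0x9425284a5083a5084210841d084210, 0x942108425083a0e83a10741ce84210, 0x842108421083210842108419084210, 0x93a108425083a1074250849d084210, 0x942108425083a0e84a10941ce84210, 0x942107425273a1084212841d084210, 0x94a108425083a1094250849d084210, 0x942108425083a1283a10941ce84210, 0x94a108425083a1074250839d084210, 0x942108425083a1284a10741ce84210, 0x942108425083a1084210841d093a4e, 0x842108429084210842108419084210, 0x942107425293a108420e841d084210, 0x942107424e93a1084212841d084210, 0xa42108421084210842108419084210, 0x942108425083a1084210841d094a52, 0x942107424e73a108420e841d084210, 0x942108425083a1084210841d0939d2, 0x942108425083a1084210841d0949ce, 0x93a108425083a1094250839d084210, 0xa42108429083210842108419084210, 0x74210749d084a10842508420e94210, 0x8bdf17c62f8c5f18c6317bdaf8c631, 0x7bdef6c62f8c6318c62f7bdef8be2f, 0x8be2f7c6318bdf18c62f7bdef9be31, 0x8be317c5ef7c6318c62f7bdef9c62f,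 0x942107420e8421084210741ce93a10, 0x8421084210842108421084190a4210, 0x83a1074250842108424e841d094a10, 0x842107421084a1084a0e841ce94212, 0x8421064210842108421084210a4210, 0x842107420e84a1094250841d0941d0, 0x84210742509421284210841ce941d0, 0x94210742109421084250839d09420e]

/-- an involution in `t2 N` -/
def w2_1 : WRec where
  c := 6305926
  w := 967812080365637446185006481767940595
  v := 970211625348736861749282644150566408
  B := [0x842106421464210842148421084210, 0x842106420c642108420c8421084210, 0x84210a420c64210842148421084210, 0x84210a4214642108420c8421084210, 0x84210842108420c85210a420c84210, 0x642108429083210842108429084210, 0x852108421084210a41908321084210, 0x84210842108421485210a421484210, 0x842108421084210842108421065194, 0x832108421084210a42908321084210, 0x84210842108420c83210a421484210, 0x852108421084210a42908521084210, 0x84210842108421483210a420c84210, 0x842948521084290842108421084210, 0x642108429085210842108419084210, 0x84210842108421084210842106318c,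 0x8421084210842108421084210a3194, 0x642108419085210842108429084210, 0x8418c8521084290842108421084210, 0x8421084210842108421084210a518c, 0x8428c8321084290842108421084210, 0x841948321084290842108421084210, 0x832108421084210a41908521084210, 0x642108419083210842108419084210]
  Y := [0x74210741d273a1084212841d084210, 0x74210741ce73a108420e841d084210, 0x74210941ce73a1084212841d084210, 0x74210941d273a108420e841d084210, 0x74210841d083a0e84a10941ce84210, 0x642108421083210842108421084210, 0x74a10841d083a10941d0839d084210, 0x74210841d083a1284a10941d284210, 0x74210841d083a1084210841d0749d2, 0x73a10841d083a1094250839d084210, 0x74210841d083a0e83a10941d284210, 0x74a10841d083a1094250849d084210, 0x74210841d083a1283a10941ce84210, 0x74252849d083a5084210841d084210, 0x642108421084210842108419084210, 0x74210841d083a1084210841d0739ce, 0x74210841d083a1084210841d0939d2, 0x642108419084210842108421084210, 0x741ce849d083a5084210841d084210, 0x74210841d083a1084210841d0949ce, 0x7424e839d083a5084210841d084210,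 0x741d2839d083a5084210841d084210, 0x73a10841d083a10941d0849d084210, 0x642108419083210842108419084210, 0x842108425074a509421094250841d0, 0x6bdef7c5f17c6318bdf18c5ef8bdf1, 0x7be317c62f7c6318bdef8c5ef8bdaf, 0x7be2f8c5ef7be718bdf18c5ef7bdef, 0x7bdf18c5f17c6718bdef8c62f8c5ef, 0x74250841d084250842109420e941d0, 0x642108421084290842108421084210, 0x741d08421084250941d0841d0841ce, 0x7420e8421084a528421094210841ce, 0x842108421084290842108421084190, 0x73a1083a1084a509421084210941d0, 0x7421083a108425083a10941d0839d0, 0x74212841d0842509421084a10839d0]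

/-- the involutions in `t2 N` -/
def W2 : List WRec := [w2_0, w2_1]

/-- the words -/
def P2 : List (List ℕ) := [[1, 0, 1], [1, 1, 0, 1, 0], [1, 0, 1], [1, 1, 0, 1, 0], [0, 0], [0, 0], [0, 0], [0, 0], [0, 0], [0, 0], [0, 0], [0, 0], [0, 0], [1, 0, 1], [0, 0], [0, 0], [0, 0], [0, 0], [1, 0, 1], [0, 0], [1, 0, 1], [1, 0, 1], [0, 0], [0, 0]]

/-- an involution in `t3 N` -/
def w3_0 : WRec where
  c := 16216547
  w := 30035061641070665042210981386914454
  v := 914373196074059233800569635340487031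
  B := [0x75a10839ce83a0e84210842108420e, 0x84252942109425094a5294a5294a50, 0x841ce942109425074a5273a4e73a50, 0x8425274210941d0749d2739d293a50, 0x841ce94210741d073a52949d293a50, 0x841ce74210941d0949d2949ce74a50, 0x8424e94210741d0949ce93a5273a50, 0x841d274210941d093a4e74a5273a50, 0x841ce7421074250939d273a5294a50, 0x841d29421094250739ce939d274a50, 0x841d294210741d0749ce74a4e94a50, 0x842527421074250739d294a4e73a50, 0x73a10839ce83a1684210842108420e, 0x8425294210741d093a52739ce74a50, 0x73a10839d683a0e84210842108420e, 0x8424e74210941d073a4e93a4e94a50, 0x73a10839ce85a0e84210842108420e, 0x73a10859ce83a0e84210842108420e, 0x73a1083ace83a0e84210842108420e, 0x8424e742107425074a4e749d274a50, 0x841d2742107425094a4e939ce93a50, 0x8424e9421094250939ce749ce93a50, 0x73a10839ce83a0e842108421084216, 0xb3a10839ce83a0e84210842108420e]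
  Y := [0x94a10839ce83a0e84210842108420e, 0x9be318bdef8be2f8c6318c6318c62f, 0x9bdef8bdef8be2f7c6317be2f7be2f, 0x9be317bdef8bdef7c5f17bdf18be2f, 0x9bdef8bdef7bdef7be318c5f18be2f, 0x9bdef7bdef8bdef8c5f18c5ef7c62f, 0x9be2f8bdef7bdef8c5ef8be317be2f, 0x9bdf17bdef8bdef8be2f7c6317be2f, 0x9bdef7bdef7be2f8bdf17be318c62f, 0x9bdf18bdef8be2f7bdef8bdf17c62f, 0x9bdf18bdef7bdef7c5ef7c62f8c62f, 0x9be317bdef7be2f7bdf18c62f7be2f, 0x93a10839ce83a1284210842108420e, 0x9be318bdef7bdef8be317bdef7c62f, 0x93a10839d283a0e84210842108420e, 0x9be2f7bdef8bdef7be2f8be2f8c62f, 0x93a10839ce84a0e84210842108420e, 0x93a10849ce83a0e84210842108420e, 0x93a1083a4e83a0e84210842108420e, 0x9be2f7bdef7be2f7c62f7c5f17c62f, 0x9bdf17bdef7be2f8c62f8bdef8be2f, 0x9be2f8bdef8be2f8bdef7c5ef8be2f, 0x93a10839ce83a0e842108421084212, 0xb3a10839ce83a0e84210842108420e, 0x642108421084210842108421084290, 0x73a10839ce83a0e84210842108420e, 0x73a50839d084210842508421084a50, 0x83a1083a0e83a108425083a0e84250, 0x73a508420e83a1084210741d084250,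 0x83a10841ce7421084250841d08424e, 0x83a108421083a0e94210841ce8424e, 0x83a4e83a1083a0e8420e8421084250, 0x73a107421083a108424e842108424e, 0x7be2f7be2f7c62f8be2f7bdef8c66f, 0x73a10841d08424e8420e841d084250, 0x83a10839d0842108420e8420e9424e, 0x83a50841ce8420e83a108420e84250]

/-- an involution in `t3 N` -/
def w3_1 : WRec where
  c := 2631052
  w := 913972586067681110051206529904038962
  v := 777634437923989783121582310477701174
  B := [0x94a1082a5284a12842108421084212, 0x841ce94210941d094a4e739d2949d0, 0x8425294210741d093a52739ce74a50, 0x8425274210941d0749d2739d293a50, 0x841ce94210741d073a52949d293a50, 0x841ce74210741d0739ce739ce739d0, 0x8424e742109425093a52939d2739d0, 0x841d29421074250949d2749d2739d0, 0x8425274210741d0939ce949d2949d0, 0x8424e742107425074a4e749d274a50, 0x841d2742107425094a4e939ce93a50, 0x841ce74210941d0949d2949ce74a50, 0x94a108495284a12842108421084212, 0x8425294210941d074a4e949ce739d0, 0x94a1084a5282a12842108421084212, 0x8424e9421094250939ce749ce93a50,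 0x94a1084a4a84a12842108421084212, 0x94a1084a5284a0a842108421084212, 0x94a1084a5284a1284210842108420a, 0x841d29421094250739ce939d274a50, 0x8424e9421074250749d2939ce949d0, 0x841d2742109425073a52749ce949d0, 0x54a1084a5284a12842108421084212, 0x92a1084a5284a12842108421084212]
  Y := [0x93a1083a5284a12842108421084212, 0x8b5ef8c6318c5f18c62f7bdf18c5f1, 0x8b6318c6317c5f18be317bdef7c631, 0x8b6317c6318c5f17c5f17bdf18be31, 0x8b5ef8c6317c5f17be318c5f18be31, 0x8b5ef7c6317c5f17bdef7bdef7bdf1, 0x8b62f7c6318c6318be318bdf17bdf1, 0x8b5f18c6317c6318c5f17c5f17bdf1, 0x8b6317c6317c5f18bdef8c5f18c5f1, 0x8b62f7c6317c6317c62f7c5f17c631, 0x8b5f17c6317c6318c62f8bdef8be31, 0x8b5ef7c6318c5f18c5f18c5ef7c631, 0x93a10849d284a12842108421084212, 0x8b6318c6318c5f17c62f8c5ef7bdf1, 0x93a1084a5283a12842108421084212, 0x8b62f8c6318c6318bdef7c5ef8be31, 0x93a1084a4e84a12842108421084212, 0x93a1084a5284a0e842108421084212, 0x93a1084a5284a1284210842108420e, 0x8b5f18c6318c6317bdef8bdf17c631, 0x8b62f8c6317c6317c5f18bdef8c5f1,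 0x8b5f17c6318c6317be317c5ef8c5f1, 0x73a1084a5284a12842108421084212, 0x92a1084a5284a12842108421084212, 0x852108421084210842108419084210, 0x94a1084a5284a12842108421084212, 0x84a1094a10942128420e841d084212, 0x8425094a1284a1284210841ce84210, 0x84a1284a1294a1074210841d084210, 0x9421094a1084a1074210941d084212, 0x9421084a528421074210841ce841d0, 0x8421084a529425283a10841d084210, 0x94a1094a1284250841d0841d084210, 0x8c6318c62f8c6317bdef8c5af8c5ef, 0x84a1084a508425074210841d084a12, 0x9421084a108425284210841ce94212, 0x8421084a5094a1084210849ce84212]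

/-- the involutions in `t3 N` -/
def W3 : List WRec := [w3_0, w3_1]

/-- the words -/
def P3 : List (List ℕ) := [[0], [0], [1, 1, 0, 1], [0], [0], [0], [0], [0], [0], [0], [0], [0], [1, 1, 0, 1], [0], [0], [0], [0], [0], [0], [0], [0], [0], [0], [0]]

/-- an involution in `t4 N` -/
def w4_0 : WRec where
  c := 4526126
  w := 21061158636840488757168086865450103
  v := 21061158636840488757168086865450103
  B := [0x842527421094250949ce73a4e73a50, 0x93a1083a4e84a0e842108419064212, 0x74a10849d283a1284210841906420e, 0x73a10839ce83a0e84210842108318e, 0x74a1083a5284a0ea4214842108420e, 0x94a1084a5284a12842108421083192, 0x93a14a49d284a0e84210842108420e, 0x94a9084a4e83a0e84290842108420e, 0x73a1084a4e84a9284210842148420e, 0x93a1083a52a3a1284210a42108420e, 0x74a14a3a4e83a12842108421084212, 0x94a10839d283a8e842108421484212, 0x841ce942109425074a5273a4e749d0, 0x93a10849ce83a12a42148421084212, 0x8424e94210941d0739d274a5273a50, 0x73a90839d284a12842908421084212, 0x841d274210941d093a4e74a52749d0,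 0x841d274210741d074a5293a5273a50, 0x842527421074250739d294a4e749d0, 0x94a10839ce84a1285210852108420e, 0x73a1084a5283a0e852108521084212, 0x74a10849cea4a0e84210a421084212, 0x8424e94210741d0949ce93a52749d0, 0x841ce942107425093a4e94a4e73a50]
  Y := [0x8421084210842509420e8424e73a50, 0x8bdef8be2f7c62f8be2f8c5ef6be31, 0x7c5ef8c5f17be318be2f8c5ef6be2f, 0x7bdef8bdef7be2f8be2f8c62f7b5ef, 0x7c5ef8be317c62f9be318c62f7be2f, 0x8c5ef8c6317c6318be2f8c62f7b5f1, 0x8bdf19c5f17c62f8be2f8c62f7be2f, 0x8c62f8c62f7be2f8be6f8c62f7be2f, 0x7bdef8c62f7c6718be2f8c6317be2f, 0x8bdef8be318be318be2f9c62f7be2f, 0x7c5f19be2f7be318be2f8c62f7be31, 0x8c5ef8bdf17be6f8be2f8c6317be31, 0x841ce9421084250842508424e74210, 0x8bdef8c5ef7be319be318c62f7be31, 0x8420e942108421083a1084a5073a50, 0x7be2f8bdf17c6318be6f8c62f7be31, 0x841d0842108421093a4e84a5074210, 0x841d08421074210842509425073a50, 0x84210842107425083a1094a4e74210, 0x8c5ef8bdef7c6318c62f8ce2f7be2f, 0x7bdef8c6317be2f8c62f8ce2f7be31, 0x7c5ef8c5ef8c62f8be2f9c62f7be31,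 0x8420e94210742109420e9425074210, 0x841ce942107425093a4e94a4e73a50, 0x84252842109421084a1284212741d0, 0x842108421084210842108429064210, 0x8be2f8bdef8c5f18c6317c6316c5f1, 0x7be2f8c5f17be318c6318c62f6c5f1, 0x84210841ce8421084a1294250741d0, 0x841d0842108421094a5284a5074210, 0x8421084a10842108421294a5073a12, 0x84250941d084a108421094a5074210, 0x84250842108421074a5284a5074210, 0x7be317c5ef8c6318c6318ce317c5f1, 0x8421084210941d084a1094a5274210, 0x7421094210942108425084a5074212, 0x84210841d084210942509425274212]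

/-- an involution in `t4 N` -/
def w4_1 : WRec where
  c := 12251089
  w := 517254924542702898728424622117653682
  v := 516925493843421824440257949083964530
  B := [0x8425274210741d0939ce949d293a50, 0x93a1083a4e84a0e8421084290a4212, 0x74a10849d283a128421084290a420e, 0x94a1084a5284a12842108421085292, 0x93a10849ce83a126420c8421084212, 0x73a10839ce83a0e84210842108528e, 0x74a0c63a4e83a12842108421084212, 0x73990839d284a12841908421084212, 0x73a1084a4e84992842108420c8420e, 0x93a1083a5263a1284210642108420e, 0x93a0c649d284a0e84210842108420e, 0x94a10839d28398e842108420c84212, 0x841ce94210741d073a52949d2949d0, 0x74a1083a5284a0e6420c842108420e, 0x8424e9421074250749d2939ce93a50, 0x9499084a4e83a0e84190842108420e, 0x841d2742107425094a4e939ce949d0, 0x841d2742109425073a52749ce93a50, 0x8425274210941d0749d2739d2949d0, 0x94a10839ce84a1283210832108420e, 0x73a1084a5283a0e832108321084212, 0x74a10849ce64a0e842106421084212, 0x8424e9421094250939ce749ce949d0, 0x841ce94210941d094a4e739d293a50]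
  Y := [0x8421084210841d09420e841d293a50, 0x8bdef8be2f8c5ef8c62f7be319be31, 0x7c5ef8c5f18bdf18c62f7be319be2f, 0x8c5ef8c6318c5f18c62f7bdf18c671, 0x8bdef8c5ef8bdf17c62d7bdf18be31, 0x7bdef8bdef8bdef8c62f7bdf18c66f, 0x7c5ed7be2f8bdf18c62f7bdf18be31, 0x7bdaf8bdf18c5f18c5ef7bdf18be31, 0x7bdef8c62f8c5b18c62f7bdef8be2f, 0x8bdef8be317bdf18c62f6bdf18be2f, 0x8bded7c5f18c5ef8c62f7bdf18be2f, 0x8c5ef8bdf18bdaf8c62f7bdef8be31, 0x841ce94210841d084250841d294210, 0x7c5ef8be318c5ef7c62d7bdf18be2f, 0x8420e942108421084a10839d093a50, 0x8c5af8c62f8bdef8c5ef7bdf18be2f, 0x841d0842108421094a4e839d094210, 0x841d0842109421084250741d093a50, 0x8421084210941d084a10739d294210, 0x8c5ef8bdef8c5f18be2f7b5f18be2f, 0x7bdef8c6318bdef8be2f7b5f18be31, 0x7c5ef8c5ef7c5ef8c62f6bdf18be31, 0x8420e94210942109420e741d094210, 0x841ce94210941d094a4e739d293a50, 0x842107421074210739d08420e94a10, 0x8421084210842108421084190a4210, 0x8c5ef8be2f7c62f7bdef8bdef9c5ef, 0x7c5ef8c6318bdef7bdef7bdf19c5ef, 0x84a108421084a1073a10741d094a10,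 0x841d0842108421073a4e839d094210, 0x74210842108420e74210739d094250, 0x84a0e8420e84210841d0739d094210, 0x841d08421084210739d2839d094210, 0x7c5f17c62f7c5ef7bdef7b5ef8c5ef, 0x84210842107425083a10739ce94210, 0x841ce84a107420e84210839d094210, 0x849d0842108420e8420e741ce94210]

/-- an involution in `t4 N` -/
def w4_2 : WRec where
  c := 6100032
  w := 499093866328784827859983275755902066
  v := 683095868760404803856031288054025398
  B := [0x841ce942109425074a5273a4e749d0, 0x74a10849d283a128421084290a420e, 0x93a1083a4e84a0e8421084290a4212, 0x73a10839ce83a0e84210842108528e, 0x73a1084a4e84a9284210842148420e, 0x94a1084a5284a12842108421085292, 0x94a10839ce84a1283210832108420e, 0x94a9084a4e83a0e84290842108420e, 0x93a10849ce83a12a42148421084212, 0x74a10849cea4a0e84210a421084212, 0x73a1084a5283a0e832108321084212, 0x74a1083a5284a0ea4214842108420e, 0x8424e94210941d0739d274a5273a50, 0x94a10839d283a8e842108421484212, 0x841d274210941d093a4e74a52749d0, 0x73a90839d284a12842908421084212,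 0x842527421094250949ce73a4e73a50, 0x8424e94210741d0949ce93a52749d0, 0x841d274210741d074a5293a5273a50, 0x74a0c63a4e83a12842108421084212, 0x93a0c649d284a0e84210842108420e, 0x93a1083a52a3a1284210a42108420e, 0x841ce942107425093a4e94a4e73a50, 0x842527421074250739d294a4e749d0]
  Y := [0x842108421084250742128424e749d0, 0x7c6317c5f17be317bdf18c66f8c5ef, 0x8be317be2f7c62f7bdf18c66f8c5f1, 0x7be317bdef7be2f7bdf18c62f7ce2f, 0x7be317c62f7c6717bdf18c6317c5ef, 0x8c6317c6317c6317bdf18c62f7ce31, 0x8c6317bdef7c6317b5f18be2f7c5ef, 0x8c6717c62f7be2f7be318c62f7c5ef, 0x8be317c5ef7be318bdf38c62f7c5f1, 0x7c6317c5ef8c62f7bdf19c62f7c5f1, 0x7be317c6317be2f7b5f18be2f7c5f1, 0x7c6317be317c62f8bdf38c62f7c5ef, 0x842508421084210739d284a5074210, 0x8c6317bdf17be6f7bdf18c6317c5f1, 0x84212742108421083a1084a50749d0, 0x7be717bdf17c6317be318c62f7c5f1, 0x842527421084250841d08424e74210, 0x842508421074210841d094250749d0, 0x842127421074210742129425074210, 0x7c62f6be2f7be317bdf18c62f7c5f1, 0x8be2f6c5f17c62f7bdf18c62f7c5ef,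 0x8be317be318be317bdf19c62f7c5ef, 0x84210842107425083a1094a4e74210, 0x842527421074250739d294a4e749d0, 0x8420e84210942109425083a5284250, 0x842108421084210842108429064210, 0x7c62f7bdf18be318be2f7c6717be31, 0x8be2f7bdf17c62f7be318c6717be31, 0x8420e83a1083a10842109425274250, 0x8424e7421084250841d08425274210, 0x942107421284210842109425274a10, 0x8421073a108421283a509425074210, 0x8424e74210841d0842508425274210, 0x8be2f6bdf18be318c6318be317be31, 0x8420e74210942109420e9425074210, 0x83a50742129421083a108425074210, 0x8425083a1284250942109425074210]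

/-- the involutions in `t4 N` -/
def W4 : List WRec := [w4_0, w4_1, w4_2]

/-- the words -/
def P4 : List (List ℕ) := [[2], [2], [2], [2], [1, 0], [2], [1, 0], [2], [2], [2], [1, 0], [2], [2], [1, 0], [2], [2], [2], [2], [2], [2], [2], [2], [2], [2]]

/-- an involution in `t5 N` -/
def w5_0 : WRec where
  c := 12618748
  w := 903078893029885608349930141983525286
  v := 942061676783427919658369208482663849
  B := [0x74a529425094a1094a10942508420c, 0x93a52941d094a1073a107425084190, 0x939d2741d094a1094a10941cc84210, 0x739d27425093a1493a107425084210, 0x939ce9425093a1074a109425083210, 0x8421083a12851d2841d283a1293a52, 0x73a4e7425094a1073a90941d084210, 0x8421083a0e84252841d2a4a12749d2, 0x739ce951d074a1093a109425084210, 0x739d29425074a1074a10751d084210, 0x8421084a12841d28524e83a12749d2, 0x8421084a928424e841d283a0e949d2, 0x73a52741d073a1074a1094250a4210, 0x93a52942507399093a10941d084210, 0x8421083a12841ce8425284a8e74a52, 0x8421084a0ea41ce841ce84a1294a52, 0x93a4e7424c74a1094a107425084210,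 0x8421083a128424ea424e84a12939d2, 0x73a4e941d093a1094a14741d084210, 0x8421484a0e8424e8425283a1273a52, 0x84210a3a0e842528424e83a0e94a52, 0x8429084a1284252841ce84a0e73a52, 0x6421083a0e841ce841ce83a0e739d2, 0x8321083a128424e841ce83a1274a4e]
  Y := [0x7be318be318c62f8c5ef8be317c62d, 0x8b6318bdf18c62f7bdef7be317c5ef, 0x8b5f17bdf18c62f8c5ef8bdef7c62f, 0x7b5f17be318be318bdef7be317c62f, 0x8b5ef8be318be2f7c5ef8be317be2f, 0x83a1083a1284a10841d083a1284250, 0x7b62f7be318c62f7be2f8bdf17c62f, 0x83a1083a1084250841d09421274a10, 0x7b5ef8c5f17c62f8bdef8be317c62f, 0x7b5f18be317c62f7c5ef7c5f17c62f, 0x83a10842128421084a0e83a1274a10, 0x83a10842528424e841d083a1084a10, 0x7b6317bdf17be2f7c5ef8be318c62f, 0x8b6318be317bdef8bdef8bdf17c62f, 0x83a1083a128420e842108425074a50, 0x83a10842109420e841ce8421284a50, 0x8b62f7be2f7c62f8c5ef7be317c62f, 0x83a1083a128424e9420e8421284210, 0x7b62f8bdf18be2f8c5f17bdf17c62f, 0x83a12842108424e8421083a1274250, 0x83a1093a10842508420e83a1084a50, 0x83a508421284250841ce8421074250,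 0x73a1083a108420e841ce83a1074210, 0x8321083a128424e841ce83a1274a4e, 0x7be318c62f8c5f18c6318c62f8bdf3, 0x73a5083a108420e94a108425084210, 0x83a528420e841ce842108425084212, 0x7b6318bdef8bdef8c5ef8bdef8c631, 0x73a528421083a10942108421083a12, 0x8b6318be2f7be2f8c62f8be318be31, 0x83a5093a1284210942108421084252, 0x73a50842109420e842108421074252, 0x7be318bdef8be2f8c6318c6318c633, 0x83a5094a0e84210942108421084252, 0x7be318be2f7c62f8c62f7c62f7be33, 0x83a50842108421084a0e8425084a52, 0x83a50842508420e941ce8421084212]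

/-- an involution in `t5 N` -/
def w5_1 : WRec where
  c := 2290517
  w := 379689784127319449332263367531150951
  v := 395359998242355757060778119598953006
  B := [0x8421084a0e841d2641d283a0e74a4e, 0x84210a3a0e842528424e83a0e94a52, 0x8421083a12841ce8425284a8e74a52, 0x8421084a12841ce8424e63a0e93a4e, 0x8421083a12642528425283a0e739ce, 0x74a52741d074a1093a10741d085210, 0x8421084a0e8324e8424e84a0e749ce, 0x949ce9425094a1093a10741d064210, 0x8421084a12841d28524e83a12749d2, 0xa421084a12842528425284a1294a4e, 0x73a4e941d093a1094a14741d084210, 0x74a529425094a1094a10942508420c, 0x8421484a0e8424e8425283a1273a52, 0x842108398e841d28424e84a1273a4e, 0x94a4e741d093a1093a109325084210, 0x939d2741d094a1094a10941cc84210, 0x8419083a0e841ce8425283a12949ce, 0x93a52942507399093a10941d084210, 0x8521084a0e841d28425284a0e939d2, 0x749ce7425073a1094a10941d084290, 0x739d27425093a1493a107425084210, 0x93a4e7424c74a1094a107425084210, 0x739ce951d074a1093a109425084210, 0x73a4e7425094a1073a90941d084210]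
  Y := [0x7be2f7c62f8c5f16be318bdef7c62f, 0x7be2f8be2f8c6317be6f8bdef8c631, 0x7be2f7be318c5ef7be718c62f7c631, 0x7be2f7c6318c5ef7be6f7bdef8be2f, 0x7be2f7be317c6317be718bdef7bdef, 0x742507421084a1083a50841d084a10, 0x7be2f7c62f8be2f7be6f8c5ef7c5ef, 0x8420e8425094a1083a50841d074210, 0x7be2f7c6318c5f17c66f8bdf17c5f1, 0x8be2f7c6318c6317be718c5f18c62f, 0x73a4e842109421084252841d084210, 0x742508425094a1084250942108420e, 0x7be317c62f8c62f7be718bdf17be31, 0x7be2f7bdef8c5f17be6f8c5f17be2f, 0x8424e742109421083a5093a1084210, 0x83a107421094a1084250941ce84210, 0x7bdef7be2f8c5ef7be718bdf18c5ef, 0x83a5084250841d083a50941d084210, 0x7c62f7c62f8c5f17be718c5ef8bdf1, 0x7420e742508421084250941d084250, 0x73a10742509421283a508421084210, 0x83a4e7424e84a10842508421084210, 0x73a0e84a1084a1083a509421084210, 0x73a4e7425094a1073a90941d084210, 0x8c5f18c5ef7bdf19c6317be2f7c62f, 0x8421084a0e841d083a5293a1084210, 0x841d0841ce842109425093a1084250, 0x7bdf17c5ef8c5f18be718c62f7be31, 0x8421084a0e741d0942508421083a50,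 0x7bdf17be2f7bdf18be718bdf17be2f, 0x842507420e841d293a508421084210, 0x8420e74a0e84210942509420e84210, 0x8c5f17c62f8bdf19be318bdef7be31, 0x841d07420e841d294a508421084210, 0x8bdef7c62f7bdf19be318be318c62f, 0x83a107420e942109425283a1084210, 0x83a108420e849d094250942108420e]

/-- the involutions in `t5 N` -/
def W5 : List WRec := [w5_0, w5_1]

/-- the words -/
def P5 : List (List ℕ) := [[0], [0], [0], [0], [0], [0], [0], [0], [0], [0], [], [0], [0], [0], [0], [0], [1, 1], [0], [0], [0], [0], [0], [0], [0]]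

/-- the involution in `t5 N` centralising `M12` -/
def w5 : WRec where
  c := 6326497
  w := 983560717692735993919980769309208998
  v := 983560717692735993919980769309208998
  B := [0x74a529425094a1094a10942508420c, 0x93a52941d094a1073a107425084190, 0x939ce9425093a1074a109425083210, 0x949ce9425094a1093a10741d064210, 0x939d2741d094a1094a10941cc84210, 0x8421083a12841ce8425284a8e74a52, 0x94a4e741d093a1093a109325084210, 0x8421083a0e84252841d2a4a12749d2, 0x949d27425074a1073a0c9425084210, 0x949d2941d073a10949907425084210, 0x8421084a12841d28524e83a12749d2, 0x8421083a128424ea424e84a12939d2, 0x94a4e941d074a0c74a10941d084210, 0x93a52942507399093a10941d084210, 0x8421083a12851d2841d283a1293a52, 0x8421084a0ea41ce841ce84a1294a52, 0x93a4e7424c74a1094a107425084210, 0x8421084a928424e841d283a0e949d2, 0x94a527325093a1074a10741d084210, 0x84210a3a0e842528424e83a0e94a52, 0x8421484a0e8424e8425283a1273a52, 0x8429084a1284252841ce84a0e73a52, 0x8521084a0e841d28425284a0e939d2, 0xa421084a12842528425284a1294a4e]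
  Y := [0x8c6318c6318c6318c6318c6318c62d, 0x9be318c5f18c6317be317c6318c5ef, 0x9bdef8c6318be317c6318c6318be2f, 0x9c5ef8c6318c6318be317c5f17c62f, 0x9bdf17c5f18c6318c6318c5ef8c62f, 0x9421084212842108425284a5084a50, 0x9c62f7c5f18be318be318be318c62f, 0x9421084210842528421294a1284a10, 0x9c5f17c6317c6317be2f8c6318c62f, 0x9c5f18c5f17be318c5f17c6318c62f, 0x9421084a128421284a508421284a10, 0x9421084212842509425084a1294210, 0x9c62f8c5f17c62f7c6318c5f18c62f, 0x9be318c6317bdf18be318c5f18c62f, 0x942108421284a12842128421294250, 0x9421084a10942108421084a1294a50, 0x9be2f7c62f7c6318c6317c6318c62f, 0x9421084a5284250842128421094a10, 0x9c6317be318be317c6317c5f18c62f, 0x942109421084252842508421094a50, 0x9421284a1084250842528421284250, 0x9425084a12842528421084a1084250, 0x94a1084a10842128425284a1094210, 0xa421084a12842528425284a1294a4e, 0x8c6318be2f8c5ef8c5ef8be2f7bdf3, 0x94a508425084a1084a128421094210, 0x942509420e849d0842108421094212, 0x9c6318c62f8bdef7c6318c5f18be31, 0x94a50942508421084210841ce84212,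 0x9be318c62f7c62f8c6318bdef8c631, 0x942528425284210842128421084252, 0x94a508421094212842108421094252, 0x8c6318be2f8c62f7c5f18bdf18c633, 0x942528424e842108420e8421084252, 0x8c6318c62f7c6318c5f17be2f8be33, 0x9425084a1084a1084a108421284252, 0x9425084a50842109421084a1094212]

/-- the words to all the points -/
def M5 : List (List ℕ) := [[1, 0, 0, 0, 1, 0, 1], [1, 0, 1, 0, 1], [1, 0, 0, 0, 0], [1, 0, 0, 0], [1, 0], [1, 0, 1], [1, 0, 0, 0, 1, 1], [1, 0, 1, 0, 0], [1], [1, 0, 0, 0, 1, 1, 0], [], [1, 0, 0, 0, 1], [1, 0, 0], [1, 0, 0, 1, 0, 1], [1, 0, 0, 0, 1, 0], [1, 0, 0, 0, 0, 1], [1, 0, 0, 0, 0, 0, 1, 1], [1, 0, 1, 0], [1, 0, 0, 0, 0, 0], [1, 0, 0, 1, 0], [1, 0, 0, 1], [1, 0, 0, 0, 0, 0, 1], [1, 0, 0, 0, 0, 0, 1, 0], [1, 0, 0, 0, 1, 1, 0, 1]]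

/-- an involution in `t6 N` -/
def w6_0 : WRec where
  c := 16777215
  w := 2939054852695036457341001850540769
  v := 52210146170920123758554376311068695
  B := [0x5bdef7bdef7bdef7bdef7bdef7be73, 0x9bdef7bdef7bdef7bdef7bdef7bd73, 0x7cdf37cdef7bdef7bdef7ce6f7bdef, 0x7cdef9bdef7cdef7be737bdef7bdef, 0x7bdef7bdef9bdef7bdf39be737bdef, 0x7cdef7bdf37be6f7bdef7bdf37cdef, 0x7be6f9bdef7bdef7bdef9cdef7cdef, 0x7bdef7be6f7bdf37be6f7cdf37bdef, 0x7bdf39bdef7bdef9bdef7bdf39bdef, 0x7bdef7cdf37bdef7be6f9bdef9bdef, 0x7bdef9ce6f9be6f7bdef7bdef7bdef, 0x7be737be737bdef7bdf37bdef7bdef, 0x7bdf37bdef7ce737bdef9bdef7bdef, 0x7bdef9bdf37bdf37cdef7be6f7bdef, 0x7ce6f7bdef9bdf37bdef7bdef9bdef, 0x7be6f7cdef7cdef7cdef7bdf37bdef, 0x7be6f7bdef7be6f9be6f7be6f7bdef, 0x7cdef7be6f7bdef9cdef9bdef7bdef, 0x7bdf37bdef9bdef7ce6f7bdef7cdef, 0x7bdef7bdef7be6f7cdf37cdef9bdef, 0x7bdef7cdef7bdf39bdf37bdef7cdef, 0x7bdef7bdf39cdef9bdef7cdef7bdef, 0x7bdef7be6f7cdef7bdef7be6f9cdef, 0x9bdef7bdef7bdef7bdef7bdef7be6b]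
  Y := [0x7bdef7bdef7bdef7bdef7bdef7be6f, 0x9bdef7bdef7bdef7bdef7bdef7bdef, 0x8c5f17c5ef7bdef7bdef7c62f7be2d, 0x8c5ef8bdef7c5ef7be317bdef7be2d, 0x8bdef7bdef8bdef7bdf18be317be2d, 0x8c5ef7bdf17be2f7bdef7bdf17c62d, 0x8be2f8bdef7bdef7bdef8c5ef7c62d, 0x8bdef7be2f7bdf17be2f7c5f17be2d, 0x8bdf18bdef7bdef8bdef7bdf18be2d, 0x8bdef7c5f17bdef7be2f8bdef8be2d, 0x8bdef8c62f8be2f7bdef7bdef7be2d, 0x8be317be317bdef7bdf17bdef7be2d, 0x8bdf17bdef7c6317bdef8bdef7be2d, 0x8bdef8bdf17bdf17c5ef7be2f7be2d, 0x8c62f7bdef8bdf17bdef7bdef8be2d, 0x8be2f7c5ef7c5ef7c5ef7bdf17be2d, 0x8be2f7bdef7be2f8be2f7be2f7be2d, 0x8c5ef7be2f7bdef8c5ef8bdef7be2d, 0x8bdf17bdef8bdef7c62f7bdef7c62d, 0x8bdef7bdef7be2f7c5f17c5ef8be2d, 0x8bdef7c5ef7bdf18bdf17bdef7c62d, 0x8bdef7bdf18c5ef8bdef7c5ef7be2d, 0x8bdef7be2f7c5ef7bdef7be2f8c62d, 0x9bdef7bdef7bdef7bdef7bdef7be6b, 0x642108421084210842108421084190, 0x7421073a0e842108420e83a0e8420e, 0x7be2f7bdef7c6317c5ef7be2f8bdaf, 0x7bdf17c5ef7c5f17c5ef7be2f7c5ed, 0x741d083a1084a1084a108420e841ce,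 0x7bdef7bdef7be318c5f18be2f7bded, 0x7c5ef7bdf18bdf18c5ef7bdef7c5ed, 0x7be2f7bdef8c5ef7c5ef7c5ef8c5ed, 0x742107420e8421284a10841d0841ce, 0x73a10841d08421094a1074210841ce, 0x7420e7421084210942108420e941ce, 0x7be2f7c5ef8c6318bdef7bdef7bded, 0x7be2f7be317c5ef8c5ef7be2f7bded]

/-- an involution in `t6 N` -/
def w6_1 : WRec where
  c := 0
  w := 69214099230229889082301799000902368
  v := 56717400396294154906165905130556128
  B := [0x6c6318c6318c6318c6318c6318c5b5, 0x6c6318c6318c6318c6318c6318c6ad, 0x8c6318c5b18b6318c6318c5b16b631, 0x8c6318b6318c62d6c62d8c6318b631, 0x8b6318c5b18c6316b6316c6318c631, 0x8c5b16c6318c6318c6316b6318b631, 0x8b62d8b6318c6318c6318b5b18c631, 0x8c6318c6316c6318c62d6c5ad8c631, 0x8c6318b62d8c6318c5b16c6316c631, 0x8b6316c6318b6318c5ad8c6318c631, 0x8c5b18b6318b6318b6318c62d8c631, 0x8c62d6c6318c6316c6318c62d6c631, 0x8b5b18c6316c62d8c6318c6316c631, 0x8c6316b5b16c5b18c6318c6318c631, 0x8c62d8c6316c6318b5b18c6318b631, 0x8c62d8c6318b5ad8c6316c6318c631, 0x8c5ad8c5ad8c6318c62d8c6318c631,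 0x8b6318c62d8c5b18c6318c62d8b631, 0x8c6318c6318c5b18b62d8b6316c631, 0x8c5b18c6318c5b16c5b18c5b18c631, 0x8c6318c62d6b6316c6318b6318c631, 0x8c6316c62d8c62d8b6318c5b18c631, 0x8c6318c5b18c62d8c5b18b62d8c631, 0xac6318c6318c6318c6318c6318c5ad]
  Y := [0x8c6318c6318c6318c6318c6318c5b1, 0x8c6318c6318c6318c6318c6318c62d, 0x9c6318c5f18be318c6318c5f17bdef, 0x9c6318be318c62f7c62f8c6318bdef, 0x9be318c5f18c6317be317c6318c5ef, 0x9c5f17c6318c6318c6317be318bdef, 0x9be2f8be318c6318c6318bdf18c5ef, 0x9c6318c6317c6318c62f7c5ef8c5ef, 0x9c6318be2f8c6318c5f17c6317c5ef, 0x9be317c6318be318c5ef8c6318c5ef, 0x9c5f18be318be318be318c62f8c5ef, 0x9c62f7c6318c6317c6318c62f7c5ef, 0x9bdf18c6317c62f8c6318c6317c5ef, 0x9c6317bdf17c5f18c6318c6318c5ef, 0x9c62f8c6317c6318bdf18c6318bdef, 0x9c62f8c6318bdef8c6317c6318c5ef, 0x9c5ef8c5ef8c6318c62f8c6318c5ef, 0x9be318c62f8c5f18c6318c62f8bdef, 0x9c6318c6318c5f18be2f8be317c5ef, 0x9c5f18c6318c5f17c5f18c5f18c5ef, 0x9c6318c62f7be317c6318be318c5ef, 0x9c6317c62f8c62f8be318c5f18c5ef,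 0x9c6318c5f18c62f8c5f18be2f8c5ef, 0xac6318c6318c6318c6318c6318c5ad, 0x842108421084210842108421084294, 0x9421094a1084a10942109425084212, 0x8c5ef8c5f17c5ef8c5f18c6318c671, 0x9c6318c5f17bdef8c6318be317c631, 0x9421284210849ce842109421084252, 0x9bdf18c5ef7c5f17c6318c6318c631, 0x9c6317c62f7c5f18be318be318be31, 0x9c62f8c6318c5ef8bdf18bdf18c631, 0x9421094a50741d0842108421084252, 0x94a108420e841d0842108421284a52, 0x9421084a0e84210841d09421094252, 0x9c5ef8c62f7be2f8be318c6318c631, 0x9c62f7c5ef8c5ef8c6318c62f8c631]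

/-- the involutions in `t6 N` -/
def W6 : List WRec := [w6_0, w6_1]

/-- the words -/
def P6 : List (List ℕ) := [[0, 1, 0, 0], [1], [0, 1, 0, 0], [1], [1], [1], [1], [1], [1], [1], [1], [1], [1], [1], [1], [1], [1], [1], [1], [1], [1], [1], [1], [1]]

end Cfsg.Agent.H995.Co1T
end

-- part: H995/Co1T/Alt
section
/-!
# Changing the involution inside its coset of the monomial group
-/

set_option autoImplicit false

namespace Cfsg.Agent.H995.Co1T

open Cfsg
open Cfsg.Agent.SporadicA.Co0Mono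
open Cfsg.Agent.H995.Co1F
open Cfsg.Agent.SporadicA.GolayBase (isCode idx pt word word_apply idx_lt pt_idx idx_pt)
open Cfsg.Agent.SporadicA.GolayPerm (papp pimg pcomp permOf permOf_apply testBit_pimg_papp idx_permOf)
open Cfsg.Agent.SporadicStructure.M24El
open Cfsg.Agent.MonsterX.FrameStab (FixesFrame)
open Cfsg.Agent.SporadicStructure.Co0Base (e8 e8_coe co0_ext_e8)
open Cfsg.Agent.LeechMat.Elements (vec checkMat sdig)
open Cfsg.Agent.LeechMat.Code (pos)
open Cfsg.Agent.LeechMat.Elements (allTo allTo_iff)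

/-- every involutory permutation part can be avoided -/
def Alt (t : Co0) : Prop := ∀ m : M24, m * m = 1 →
  (∃ (c : golayCode) (w : M24), (t * (signCo0 c * permCo0 w)) * (t * (signCo0 c * permCo0 w)) = 1 ∧
     (w⁻¹ * m) * (w⁻¹ * m) ≠ 1) ∨
  (∃ (c : golayCode) (r : Co0), (t * (signCo0 c * permCo0 m)) * (t * (signCo0 c * permCo0 m)) = 1 ∧ r * r = 1 ∧
     ∀ v : leechLattice, (t * (signCo0 c * permCo0 m)) • (r • v) + r • ((t * (signCo0 c * permCo0 m)) • v) = v)

/-- `t (8 e_i)` is the column of `A` -/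
def HasMat (t : Co0) (A : List ℕ) : Prop :=
  ∀ (i : GolayPt) (v : leechLattice), (v : GolayPt → ℤ) = Pi.single i 8 →
      ((t • v : leechLattice) : GolayPt → ℤ) = vec (A.getD (pos i) 0)

/-- the check of a record -/
def chkW (A : List ℕ) (q : WRec) : Bool :=
  isCode q.c && ok q.w && ok q.v && Nat.beq (pcomp q.w q.v) idP && checkMat 8 q.B q.Y && symm q.B &&
    allTo (fun j => allTo (fun k => sdig (q.B.getD j 0) k ==
      (if q.c.testBit (papp q.w j) then -sdig (A.getD (papp q.w j) 0) k else sdig (A.getD (papp q.w j) 0) k)) 24) 24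

theorem pos_eq_idx (p : GolayPt) : pos p = idx p := by
  rcases p with _ | p <;> rfl

theorem sign_e8 (c : golayCode) (j : GolayPt) :
    signCo0 c • e8 j = if (c : GolayPt → ZMod 2) j = 0 then e8 j else -e8 j := by
  apply Subtype.ext
  rw [signCo0_smul, e8_coe]
  split_ifs with h
  · funext k
    rw [signMap_apply, e8_coe]
    by_cases hk : k = j
    · subst hk; rw [h, sgn_zero, one_mul]
    · rw [Pi.single_eq_of_ne hk, mul_zero]
  · have h1 : (c : GolayPt → ZMod 2) j = 1 := by
      rcases Cfsg.Agent.SporadicStructure.LeechBase.zmod2_cases ((c : GolayPt → ZMod 2) j) with h0 | h0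
      · exact absurd h0 h
      · exact h0
    funext k
    rw [signMap_apply, AddSubgroup.coe_neg, Pi.neg_apply, e8_coe]
    by_cases hk : k = j
    · subst hk; rw [h1, sgn_one, neg_one_mul]
    · rw [Pi.single_eq_of_ne hk, mul_zero, neg_zero]

/-- the element of a record -/
theorem of_chkW {A : List ℕ} {q : WRec} (h : chkW A q = true) {t : Co0} (ht : HasMat t A) :
    ∃ c : golayCode, (t * (signCo0 c * permCo0 (el q.w))) * (t * (signCo0 c * permCo0 (el q.w))) = 1 ∧
      HasMat (t * (signCo0 c * permCo0 (el q.w))) q.B := by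
  unfold chkW at h
  simp only [Bool.and_eq_true] at h
  obtain ⟨⟨⟨⟨⟨⟨hc, hw⟩, hv⟩, hwv⟩, hB⟩, hs⟩, hr⟩ := h
  obtain ⟨t', ht', h1⟩ := exists_invol hB hs
  refine ⟨⟨word q.c, word_mem hc⟩, ?_⟩
  have key : t * (signCo0 ⟨word q.c, word_mem hc⟩ * permCo0 (el q.w)) = t' := by
    apply co0_ext_e8
    intro i
    rw [mul_smul, mul_smul, perm_e8, sign_e8]
    have h2 : ∀ k : GolayPt, vec (q.B.getD (pos i) 0) k =
        (if q.c.testBit (papp q.w (idx i)) then -vec (A.getD (papp q.w (idx i)) 0) k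
          else vec (A.getD (papp q.w (idx i)) 0) k) := by
      intro k
      rw [allTo_iff] at hr
      have h3 := hr (idx i) (idx_lt i)
      rw [allTo_iff] at h3
      have h4 := h3 (idx k) (idx_lt k)
      rw [beq_iff_eq] at h4
      rw [Cfsg.Agent.LeechMat.Elements.vec_apply, Cfsg.Agent.LeechMat.Elements.vec_apply, pos_eq_idx, pos_eq_idx, h4]
    have h3 : idx (((el q.w : M24) : Equiv.Perm GolayPt) i) = papp q.w (idx i) := idx_el_smul hw i
    apply Subtype.ext
    rw [h1 i (e8 i) (e8_coe i)]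
    funext k
    rw [h2 k]
    by_cases hb : q.c.testBit (papp q.w (idx i)) = true
    · have h4 : ¬ word q.c (((el q.w : M24) : Equiv.Perm GolayPt) i) = 0 := by
        rw [word_apply, h3, if_pos hb]; decide
      rw [if_pos hb]
      simp only [h4, if_false]
      rw [Cfsg.Agent.SporadicA.Co0Mono.smul_neg, AddSubgroup.coe_neg, Pi.neg_apply,
        ht _ (e8 (((el q.w : M24) : Equiv.Perm GolayPt) i)) (e8_coe _), pos_eq_idx, h3]
    · have h4 : word q.c (((el q.w : M24) : Equiv.Perm GolayPt) i) = 0 := by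
        rw [word_apply, h3, if_neg hb]
      rw [if_neg hb]
      simp only [h4, if_true]
      rw [ht _ (e8 (((el q.w : M24) : Equiv.Perm GolayPt) i)) (e8_coe _), pos_eq_idx, h3]
  rw [key]
  exact ⟨ht', h1⟩

/-! ### words -/

/-- run a word on a pair -/
def run (W V : List ℕ) : List ℕ → ℕ × ℕ → ℕ × ℕ
  | [], s => s
  | j :: l, s => run W V l (papp (W.getD j idP) s.1, papp (V.getD j idP) s.2)

theorem run_spec {W V : List ℕ} (hW : ∀ P ∈ W, ok P = true) (hV : ∀ P ∈ V, ok P = true) {m : M24}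
    (hm : ∀ (j : ℕ) (p : GolayPt), m • (el (W.getD j idP) • p) = el (V.getD j idP) • (m • p)) :
    ∀ (l : List ℕ) (s : ℕ × ℕ), s.1 < 24 → s.2 = idx (m • pt s.1) →
      (run W V l s).1 < 24 ∧ (run W V l s).2 = idx (m • pt (run W V l s).1) := by
  intro l
  induction l with
  | nil => intro s h1 h2; exact ⟨h1, h2⟩
  | cons j l ih =>
    intro s h1 h2
    have hj := ok_getD hW j
    have hj' := ok_getD hV j
    have e1 : papp (W.getD j idP) s.1 = idx (el (W.getD j idP) • pt s.1) := by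
      rw [idx_el_smul hj, idx_pt h1]
    refine ih _ ?_ ?_
    · show papp (W.getD j idP) s.1 < 24
      rw [e1]
      exact idx_lt _
    · show papp (V.getD j idP) s.2 = idx (m • pt (papp (W.getD j idP) s.1))
      rw [e1, pt_idx, hm, idx_el_smul hj', h2]

/-- no element of `M24` inverts all the elements of the list -/
def chkP (W V : List ℕ) (p0 : ℕ) (P : List (List ℕ)) (ex : ℕ) : Bool :=
  (List.range 24).all fun q => Nat.beq q ex ||
    (Nat.beq (run W V (P.getD q []) (p0, q)).1 p0 && !Nat.beq (run W V (P.getD q []) (p0, q)).2 q)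

theorem of_chkP {W V : List ℕ} {p0 : ℕ} {P : List (List ℕ)} {ex : ℕ} (h : chkP W V p0 P ex = true) (hp : p0 < 24)
    (hW : ∀ P ∈ W, ok P = true) (hV : ∀ P ∈ V, ok P = true) {m : M24}
    (hm : ∀ (j : ℕ) (p : GolayPt), m • (el (W.getD j idP) • p) = el (V.getD j idP) • (m • p)) :
    idx (m • pt p0) = ex := by
  have h1 := List.all_eq_true.1 h (idx (m • pt p0)) (List.mem_range.2 (idx_lt _))
  rw [Bool.or_eq_true, Bool.and_eq_true, Bool.not_eq_true'] at h1
  rcases h1 with h1 | ⟨h1, h2⟩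
  · exact Nat.eq_of_beq_eq_true h1
  · exfalso
    have h3 := run_spec hW hV hm (P.getD (idx (m • pt p0)) []) (p0, idx (m • pt p0)) hp rfl
    have h4 := h3.2
    rw [Nat.eq_of_beq_eq_true h1] at h4
    rw [h4, Nat.beq_refl] at h2
    exact Bool.noConfusion h2

/-- the list of permutations of the records -/
def perms (Q : List WRec) : List ℕ := Q.map WRec.w

/-- the list of inverses of the records -/
def invs (Q : List WRec) : List ℕ := Q.map WRec.v

/-- an element which inverts all the elements of the records -/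
theorem inverts {A : List ℕ} {Q : List WRec} (hQ : Q.all (chkW A) = true) {m : M24} (hm : m * m = 1)
    (h : ∀ q ∈ Q, ((el q.w)⁻¹ * m) * ((el q.w)⁻¹ * m) = 1) :
    (∀ P ∈ perms Q, ok P = true) ∧ (∀ P ∈ invs Q, ok P = true) ∧
      ∀ (j : ℕ) (p : GolayPt), m • (el ((perms Q).getD j idP) • p) = el ((invs Q).getD j idP) • (m • p) := by
  have hok : ∀ q ∈ Q, ok q.w = true ∧ ok q.v = true ∧ el q.v = (el q.w)⁻¹ := by
    intro q hq
    have h1 := List.all_eq_true.1 hQ q hq
    unfold chkW at h1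
    simp only [Bool.and_eq_true] at h1
    obtain ⟨⟨⟨⟨⟨⟨-, hw⟩, hv⟩, hwv⟩, -⟩, -⟩, -⟩ := h1
    refine ⟨hw, hv, ?_⟩
    have h2 : el q.w * el q.v = 1 := by rw [← el_pcomp hw hv, Nat.eq_of_beq_eq_true hwv, el_idP]
    exact ((inv_eq_of_mul_eq_one_right (h2 :)).symm :)
  refine ⟨?_, ?_, ?_⟩
  · intro P hP
    obtain ⟨q, hq, rfl⟩ := List.mem_map.1 hP
    exact (hok q hq).1
  · intro P hP
    obtain ⟨q, hq, rfl⟩ := List.mem_map.1 hP
    exact (hok q hq).2.1
  · intro j p
    by_cases hj : j < Q.length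
    · have e1 : (perms Q).getD j idP = (Q[j]).w := by
        rw [List.getD_eq_getElem _ _ (by simpa [perms] using hj)]
        simp [perms]
      have e2 : (invs Q).getD j idP = (Q[j]).v := by
        rw [List.getD_eq_getElem _ _ (by simpa [invs] using hj)]
        simp [invs]
      have hq : Q[j] ∈ Q := List.getElem_mem hj
      rw [e1, e2, (hok _ hq).2.2, ← mul_smul, ← mul_smul]
      congr 1
      have h1 := h _ hq
      have hm' : m⁻¹ = m := (inv_eq_of_mul_eq_one_left hm :)
      have h2 : (el (Q[j]).w)⁻¹ * m = m⁻¹ * el (Q[j]).w := by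
        have h3 : (el (Q[j]).w)⁻¹ * m = ((el (Q[j]).w)⁻¹ * m)⁻¹ := (inv_eq_of_mul_eq_one_left h1).symm
        rw [h3, mul_inv_rev, inv_inv]
      rw [h2, hm']
    · have e1 : (perms Q).getD j idP = idP := List.getD_eq_default _ _ (by simpa [perms] using hj)
      have e2 : (invs Q).getD j idP = idP := List.getD_eq_default _ _ (by simpa [invs] using hj)
      rw [e1, e2, el_idP, one_smul, one_smul]

theorem alt_of {A : List ℕ} {Q : List WRec} (hQ : Q.all (chkW A) = true) {p0 : ℕ} (hp : p0 < 24) {P : List (List ℕ)}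
    (hP : chkP (perms Q) (invs Q) p0 P 24 = true) {t : Co0} (ht : HasMat t A) : Alt t := by
  intro m hm
  by_cases h : ∀ q ∈ Q, ((el q.w)⁻¹ * m) * ((el q.w)⁻¹ * m) = 1
  · exfalso
    obtain ⟨h1, h2, h3⟩ := inverts hQ hm h
    have h4 := of_chkP hP hp h1 h2 h3
    have h5 := idx_lt (m • pt p0)
    omega
  · push Not at h
    obtain ⟨q, hq, hne⟩ := h
    obtain ⟨c, hc, -⟩ := of_chkW (List.all_eq_true.1 hQ q hq) ht
    exact Or.inl ⟨c, el q.w, hc, hne⟩

private theorem _root_.Cfsg.Agent.KO6bb9c8c.e0.{ku, kv} {α : Type kv} {M : List α → Sort ku} (φ : ∀ l, M l) {z : M List.nil} {s : ∀ a l, M l → M (List.cons a l)} (h0 : φ List.nil = z) (hs : ∀ a l, φ (List.cons a l) = s a l (φ l)) (l : List α) : φ l = @List.rec α M z s l := List.rec h0 (fun a l ih => (hs a l).trans (congrArg (s a l) ih)) l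
private noncomputable def _root_.Cfsg.Agent.KO6bb9c8c.k1.{ku0} : type_of% @List.all.{ku0} := @(fun x0 x1 x2 => @List.rec.{(ku0+1), ku0} @x0 @(fun x3 => (@x0 → @Bool) → @Bool) @(fun x3 => @Bool.true) @(fun x3 x4 x5 x6 => @Bool.rec.{1} @(fun x7 => @Bool) @Bool.false (@x5 @x6) (@x6 @x3)) @x1 @x2)
private theorem _root_.Cfsg.Agent.KO6bb9c8c.e1.{ku0} : @List.all.{ku0} = @_root_.Cfsg.Agent.KO6bb9c8c.k1.{ku0} := by delta _root_.Cfsg.Agent.KO6bb9c8c.k1; funext a0 a1 a2; refine (congrFun (_root_.Cfsg.Agent.KO6bb9c8c.e0 (fun a1 a2 => @List.all.{ku0} a0 a1 a2) ?_ (fun c0 c1 => ?_) a1) a2 :) <;> (rfl')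
private noncomputable def _root_.Cfsg.Agent.KO6bb9c8c.k2 : type_of% @Bool.and := @(fun x0 x1 => @Bool.rec.{1} @(fun x2 => @Bool) @Bool.false @x1 @x0)
private theorem _root_.Cfsg.Agent.KO6bb9c8c.e2 : @Bool.and = @_root_.Cfsg.Agent.KO6bb9c8c.k2 := by delta _root_.Cfsg.Agent.KO6bb9c8c.k2; rfl'
private noncomputable def _root_.Cfsg.Agent.KO6bb9c8c.k6 : (by first | exact type_of% @Cfsg.Agent.SporadicStructure.M24El.ok | exact Unit : Sort _) := by first | (refine @Subtype.val _ (fun g => @Cfsg.Agent.SporadicStructure.M24El.ok = @g) (@Subtype.mk _ _ (@(fun x0 => @Bool.rec.{1} @(fun x1 => @Bool) @Bool.false (@Cfsg.Agent.SporadicA.GolayPerm.isAut @x0) (@Nat.beq (@Cfsg.Agent.SporadicA.GolayPerm.pimg @x0 (nat_lit 16777215)) (nat_lit 16777215)))) ?_); (try delta Cfsg.Agent.SporadicStructure.M24El.ok Cfsg.Agent.SporadicA.GolayPerm.isPerm); (try generalize @Cfsg.Agent.SporadicA.GolayPerm.isAut = g0); (try generalize @Cfsg.Agent.SporadicA.GolayPerm.pimg = g1); rfl') | exact @Cfsg.Agent.SporadicStructure.M24El.ok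 | exact ()
private theorem _root_.Cfsg.Agent.KO6bb9c8c.e6 : (by first | exact @Cfsg.Agent.SporadicStructure.M24El.ok = @_root_.Cfsg.Agent.KO6bb9c8c.k6 | exact True : Prop) := by first | (delta _root_.Cfsg.Agent.KO6bb9c8c.k6; exact @Subtype.property _ (fun g => @Cfsg.Agent.SporadicStructure.M24El.ok = @g) _) | rfl | trivial
private noncomputable def _root_.Cfsg.Agent.KO6bb9c8c.k7 : (by first | exact type_of% @Cfsg.Agent.SporadicA.GolayPerm.pack | exact Unit : Sort _) := by first | (refine @Subtype.val _ (fun g => @Cfsg.Agent.SporadicA.GolayPerm.pack = @g) (@Subtype.mk _ _ (@(fun x0 => @List.rec.{1, 0} ℕ @(fun x1 => ℕ) (nat_lit 0) @(fun x1 x2 x3 => @Nat.add @x1 (@Nat.mul (nat_lit 32) @x3)) @x0)) ?_); funext a0; refine (_root_.Cfsg.Agent.KO6bb9c8c.e0 (fun a0 => @Cfsg.Agent.SporadicA.GolayPerm.pack a0) ?_ (fun c0 c1 => ?_) a0 :) <;> (rfl')) | exact @Cfsg.Agent.SporadicA.GolayPerm.pack | exact ()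
private theorem _root_.Cfsg.Agent.KO6bb9c8c.e7 : (by first | exact @Cfsg.Agent.SporadicA.GolayPerm.pack = @_root_.Cfsg.Agent.KO6bb9c8c.k7 | exact True : Prop) := by first | (delta _root_.Cfsg.Agent.KO6bb9c8c.k7; exact @Subtype.property _ (fun g => @Cfsg.Agent.SporadicA.GolayPerm.pack = @g) _) | rfl | trivial
private noncomputable def _root_.Cfsg.Agent.KO6bb9c8c.k8 : (by first | exact type_of% @Cfsg.Agent.SporadicA.GolayPerm.papp | exact Unit : Sort _) := by first | (refine @Subtype.val _ (fun g => @Cfsg.Agent.SporadicA.GolayPerm.papp = @g) (@Subtype.mk _ _ (@(fun x0 x1 => @Nat.mod (@Nat.shiftRight @x0 (@Nat.mul (nat_lit 5) @x1)) (nat_lit 32))) ?_); rfl') | exact @Cfsg.Agent.SporadicA.GolayPerm.papp | exact ()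
private theorem _root_.Cfsg.Agent.KO6bb9c8c.e8 : (by first | exact @Cfsg.Agent.SporadicA.GolayPerm.papp = @_root_.Cfsg.Agent.KO6bb9c8c.k8 | exact True : Prop) := by first | (delta _root_.Cfsg.Agent.KO6bb9c8c.k8; exact @Subtype.property _ (fun g => @Cfsg.Agent.SporadicA.GolayPerm.papp = @g) _) | rfl | trivial
private noncomputable def _root_.Cfsg.Agent.KO6bb9c8c.k9 : (by first | exact type_of% @Cfsg.Agent.SporadicA.GolayPerm.pcomp | exact Unit : Sort _) := by first | (refine @Subtype.val _ (fun g => @Cfsg.Agent.SporadicA.GolayPerm.pcomp = @g) (@Subtype.mk _ _ (@(fun x0 x1 => @Cfsg.Agent.KO6bb9c8c.k7 ((@Cfsg.Agent.KO6bb9c8c.k8 @x0 (@Cfsg.Agent.KO6bb9c8c.k8 @x1 (nat_lit 0))) :: ((@Cfsg.Agent.KO6bb9c8c.k8 @x0 (@Cfsg.Agent.KO6bb9c8c.k8 @x1 (nat_lit 1))) :: ((@Cfsg.Agent.KO6bb9c8c.k8 @x0 (@Cfsg.Agent.KO6bb9c8c.k8 @x1 (nat_lit 2))) :: ((@Cfsg.Agent.KO6bb9c8c.k8 @x0 (@Cfsg.Agent.KO6bb9c8c.k8 @x1 (nat_lit 3))) :: ((@Cfsg.Agent.KO6bb9c8c.k8 @x0 (@Cfsg.Agent.KO6bb9c8c.k8 @x1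 (nat_lit 4))) :: ((@Cfsg.Agent.KO6bb9c8c.k8 @x0 (@Cfsg.Agent.KO6bb9c8c.k8 @x1 (nat_lit 5))) :: ((@Cfsg.Agent.KO6bb9c8c.k8 @x0 (@Cfsg.Agent.KO6bb9c8c.k8 @x1 (nat_lit 6))) :: ((@Cfsg.Agent.KO6bb9c8c.k8 @x0 (@Cfsg.Agent.KO6bb9c8c.k8 @x1 (nat_lit 7))) :: ((@Cfsg.Agent.KO6bb9c8c.k8 @x0 (@Cfsg.Agent.KO6bb9c8c.k8 @x1 (nat_lit 8))) :: ((@Cfsg.Agent.KO6bb9c8c.k8 @x0 (@Cfsg.Agent.KO6bb9c8c.k8 @x1 (nat_lit 9))) :: ((@Cfsg.Agent.KO6bb9c8c.k8 @x0 (@Cfsg.Agent.KO6bb9c8c.k8 @x1 (nat_lit 10))) :: ((@Cfsg.Agent.KO6bb9c8c.k8 @x0 (@Cfsg.Agent.KO6bb9c8c.k8 @x1 (nat_lit 11))) :: ((@Cfsg.Agent.KO6bb9c8c.k8 @x0 (@Cfsg.Agent.KO6bb9c8c.k8 @x1 (nat_lit 12))) :: ((@Cfsg.Agent.KO6bb9c8c.k8 @x0 (@Cfsg.Agent.KO6bb9c8c.k8 @x1 (nat_lit 13))) :: ((@Cfsg.Agent.KO6bb9c8c.k8 @x0 (@Cfsg.Agent.KO6bb9c8c.k8 @x1 (nat_lit 14))) :: ((@Cfsg.Agent.KO6bb9c8c.k8 @x0 (@Cfsg.Agent.KO6bb9c8c.k8 @x1 (nat_lit 15))) :: ((@Cfsg.Agent.KO6bb9c8c.k8 @x0 (@Cfsg.Agent.KO6bb9c8c.k8 @x1 (nat_lit 16))) :: ((@Cfsg.Agent.KO6bb9c8c.k8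 @x0 (@Cfsg.Agent.KO6bb9c8c.k8 @x1 (nat_lit 17))) :: ((@Cfsg.Agent.KO6bb9c8c.k8 @x0 (@Cfsg.Agent.KO6bb9c8c.k8 @x1 (nat_lit 18))) :: ((@Cfsg.Agent.KO6bb9c8c.k8 @x0 (@Cfsg.Agent.KO6bb9c8c.k8 @x1 (nat_lit 19))) :: ((@Cfsg.Agent.KO6bb9c8c.k8 @x0 (@Cfsg.Agent.KO6bb9c8c.k8 @x1 (nat_lit 20))) :: ((@Cfsg.Agent.KO6bb9c8c.k8 @x0 (@Cfsg.Agent.KO6bb9c8c.k8 @x1 (nat_lit 21))) :: ((@Cfsg.Agent.KO6bb9c8c.k8 @x0 (@Cfsg.Agent.KO6bb9c8c.k8 @x1 (nat_lit 22))) :: ((@Cfsg.Agent.KO6bb9c8c.k8 @x0 (@Cfsg.Agent.KO6bb9c8c.k8 @x1 (nat_lit 23))) :: [])))))))))))))))))))))))))) ?_); rewrite [← Cfsg.Agent.KO6bb9c8c.e8, ← Cfsg.Agent.KO6bb9c8c.e7]; (try delta Cfsg.Agent.SporadicA.GolayPerm.pcomp); (try generalize @Cfsg.Agent.SporadicA.GolayPerm.pack = g0); (try generalize @Cfsg.Agent.SporadicA.GolayPerm.papp = g1); rfl') | exact @Cfsg.Agent.SporadicA.GolayPerm.pcomp | exact ()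
private theorem _root_.Cfsg.Agent.KO6bb9c8c.e9 : (by first | exact @Cfsg.Agent.SporadicA.GolayPerm.pcomp = @_root_.Cfsg.Agent.KO6bb9c8c.k9 | exact True : Prop) := by first | (delta _root_.Cfsg.Agent.KO6bb9c8c.k9; exact @Subtype.property _ (fun g => @Cfsg.Agent.SporadicA.GolayPerm.pcomp = @g) _) | rfl | trivial
private noncomputable def _root_.Cfsg.Agent.KO6bb9c8c.oEq.{ku} (α : Sort ku) (a b : Nat) (f t : α) : α := @Decidable.rec (a = b) (fun _ => α) (fun _ => f) (fun _ => t) (Nat.decEq a b)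
private noncomputable def _root_.Cfsg.Agent.KO6bb9c8c.k10.{ku} (α : Sort ku) (a b : Nat) (f t : α) : α := @Bool.rec (fun _ => α) f t (Nat.beq a b)
private theorem _root_.Cfsg.Agent.KO6bb9c8c.e10.{ku} : @_root_.Cfsg.Agent.KO6bb9c8c.oEq.{ku} = @_root_.Cfsg.Agent.KO6bb9c8c.k10.{ku} := funext fun α => funext fun a => funext fun b => funext fun f => funext fun t => by delta _root_.Cfsg.Agent.KO6bb9c8c.oEq _root_.Cfsg.Agent.KO6bb9c8c.k10; cases h : Nat.beq a b <;> cases Nat.decEq a b <;> rename_i g <;> first | rfl | exact absurd g (Nat.ne_of_beq_eq_false h) | exact absurd (Nat.eq_of_beq_eq_true h) g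
private noncomputable def _root_.Cfsg.Agent.KO6bb9c8c.oB.{ku} (α : Sort ku) (c : Bool) (f t : α) : α := @Decidable.rec (c = true) (fun _ => α) (fun _ => f) (fun _ => t) (instDecidableEqBool c true)
private noncomputable def _root_.Cfsg.Agent.KO6bb9c8c.k11.{ku} (α : Sort ku) (c : Bool) (f t : α) : α := @Bool.rec (fun _ => α) f t c
private theorem _root_.Cfsg.Agent.KO6bb9c8c.e11.{ku} : @_root_.Cfsg.Agent.KO6bb9c8c.oB.{ku} = @_root_.Cfsg.Agent.KO6bb9c8c.k11.{ku} := funext fun α => funext fun c => funext fun f => funext fun t => by cases c <;> rfl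
private noncomputable def _root_.Cfsg.Agent.KO6bb9c8c.k12 : (by first | exact type_of% @Cfsg.Agent.LeechMat.Code.encAux | exact Unit : Sort _) := by first | (refine @Subtype.val _ (fun g => @Cfsg.Agent.LeechMat.Code.encAux = @g) (@Subtype.mk _ _ (@(fun x0 x1 => @List.rec.{1, 0} ℕ @(fun x2 => ℕ → ℕ) @(fun x2 => nat_lit 0) @(fun x2 x3 x4 x5 => @Nat.xor (@Cfsg.Agent.KO6bb9c8c.k11.{1} ℕ (@Bool.rec.{1} @(fun x6 => @Bool) @Bool.true @Bool.false (@Cfsg.Agent.KO6bb9c8c.k10.{1} @Bool (@Nat.land (nat_lit 1) (@Nat.shiftRight @x5 (nat_lit 0))) (nat_lit 0) @Bool.false @Bool.true)) (nat_lit 0) @x2) (@x4 (@Nat.shiftRight @x5 (nat_lit 1)))) @x0 @x1)) ?_); rewrite [← Cfsg.Agent.KO6bb9c8c.e10.{1}, ← Cfsg.Agent.KO6bb9c8c.e11.{1}]; funext a0 a1; refine (congrFun (_root_.Cfsg.Agent.KO6bb9c8c.e0 (fun a0 a1 => @Cfsg.Agent.LeechMat.Code.encAux a0 a1) ?_ (fun c0 c1 => ?_) a0) a1 :) <;> (rfl')) | exact @Cfsg.Agent.LeechMat.Code.encAux | exact ()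
private theorem _root_.Cfsg.Agent.KO6bb9c8c.e12 : (by first | exact @Cfsg.Agent.LeechMat.Code.encAux = @_root_.Cfsg.Agent.KO6bb9c8c.k12 | exact True : Prop) := by first | (delta _root_.Cfsg.Agent.KO6bb9c8c.k12; exact @Subtype.property _ (fun g => @Cfsg.Agent.LeechMat.Code.encAux = @g) _) | rfl | trivial
private theorem _root_.Cfsg.Agent.KO6bb9c8c.e13.{ku} {M : Nat → Sort ku} (φ : ∀ n, M n) {z : M Nat.zero} {s : ∀ n, M n → M (Nat.succ n)} (h0 : φ Nat.zero = z) (hs : ∀ n, φ (Nat.succ n) = s n (φ n)) (n : Nat) : φ n = @Nat.rec M z s n := Nat.rec h0 (fun n ih => (hs n).trans (congrArg (s n) ih)) n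
private noncomputable def _root_.Cfsg.Agent.KO6bb9c8c.k14 : (by first | exact type_of% @Cfsg.Agent.LeechMat.Elements.maskc | exact Unit : Sort _) := by first | (refine @Subtype.val _ (fun g => @Cfsg.Agent.LeechMat.Elements.maskc = @g) (@Subtype.mk _ _ (@(fun x0 x1 => @Nat.rec.{1} @(fun x2 => ℕ) (nat_lit 0) @(fun x2 x3 => @Nat.lor @x3 (@Nat.shiftLeft (@Nat.land (@Nat.shiftRight @x0 (@Nat.add (@Nat.mul (nat_lit 5) @x2) (nat_lit 1))) (nat_lit 1)) @x2)) @x1)) ?_); funext a0 a1; refine (_root_.Cfsg.Agent.KO6bb9c8c.e13 (fun a1 => @Cfsg.Agent.LeechMat.Elements.maskc a0 a1) ?_ (fun c0 => ?_) a1 :) <;> (rfl')) | exact @Cfsg.Agent.LeechMat.Elements.maskc | exact ()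
private theorem _root_.Cfsg.Agent.KO6bb9c8c.e14 : (by first | exact @Cfsg.Agent.LeechMat.Elements.maskc = @_root_.Cfsg.Agent.KO6bb9c8c.k14 | exact True : Prop) := by first | (delta _root_.Cfsg.Agent.KO6bb9c8c.k14; exact @Subtype.property _ (fun g => @Cfsg.Agent.LeechMat.Elements.maskc = @g) _) | rfl | trivial
private noncomputable def _root_.Cfsg.Agent.KO6bb9c8c.k15 : type_of% @Nat.decEq := @(fun x0 x1 => @Bool.rec.{1} @(fun x2 => (@Eq.{1} _ (@Nat.beq @x0 @x1) @x2) → @Decidable (@Eq.{1} _ @x0 @x1)) @(fun x2 => @Decidable.isFalse _ (@Nat.ne_of_beq_eq_false _ _ @x2)) @(fun x2 => @Decidable.isTrue _ (@Nat.eq_of_beq_eq_true _ _ @x2)) (@Nat.beq @x0 @x1) (@Eq.refl.{1} _ (@Nat.beq @x0 @x1)))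
private theorem _root_.Cfsg.Agent.KO6bb9c8c.e15 : @Nat.decEq = @_root_.Cfsg.Agent.KO6bb9c8c.k15 := by delta _root_.Cfsg.Agent.KO6bb9c8c.k15; rfl'
private noncomputable def _root_.Cfsg.Agent.KO6bb9c8c.k16 : type_of% @Int.decEq := @(fun x0 x1 => @Int.rec.{1} @(fun x2 => @Decidable (@Eq.{1} _ @x2 @x1)) @(fun x2 => @Int.rec.{1} @(fun x3 => @Decidable (@Eq.{1} _ (@Int.ofNat @x2) @x3)) @(fun x3 => @Decidable.rec.{1} _ @(fun x4 => @Decidable (@Eq.{1} _ (@Int.ofNat @x2) (@Int.ofNat @x3))) @(fun x4 => @Decidable.isFalse _ (@Int.decEq._proof_2 @x2 @x3 @x4)) @(fun x4 => @Decidable.isTrue _ (@Int.decEq._proof_1 @x2 @x3 @x4)) (@Cfsg.Agent.KO6bb9c8c.k15 @x2 @x3)) @(fun x3 => @Decidable.isFalse _ (@Int.decEq._proof_3 @x2 @x3)) @x1) @(fun x2 => @Int.rec.{1} @(fun x3 => @Decidable (@Eq.{1} _ (@Int.negSucc @x2) @x3)) @(fun x3 => @Decidable.isFalse _ (@Int.decEq._proof_4 @x2 @x3)) @(fun x3 => @Decidable.rec.{1} _ @(fun x4 => @Decidable (@Eq.{1} _ (@Int.negSucc @x2) (@Int.negSucc @x3)))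 @(fun x4 => @Decidable.isFalse _ (@Int.decEq._proof_6 @x2 @x3 @x4)) @(fun x4 => @Decidable.isTrue _ (@Int.decEq._proof_5 @x2 @x3 @x4)) (@Cfsg.Agent.KO6bb9c8c.k15 @x2 @x3)) @x1) @x0)
private theorem _root_.Cfsg.Agent.KO6bb9c8c.e16 : @Int.decEq = @_root_.Cfsg.Agent.KO6bb9c8c.k16 := by delta _root_.Cfsg.Agent.KO6bb9c8c.k16; rewrite [← Cfsg.Agent.KO6bb9c8c.e15]; rfl'
private noncomputable def _root_.Cfsg.Agent.KO6bb9c8c.k17 : type_of% @Int.add := @(fun x0 x1 => @Int.rec.{1} @(fun x2 => ℤ) @(fun x2 => @Int.rec.{1} @(fun x3 => ℤ) @(fun x3 => @Int.ofNat (@Nat.add @x2 @x3)) @(fun x3 => @Nat.rec.{1} @(fun x4 => ℤ) (@Int.ofNat (@Nat.sub @x2 (@Nat.succ @x3))) @(fun x4 x5 => @Int.negSucc @x4) (@Nat.sub (@Nat.succ @x3) @x2)) @x1) @(fun x2 => @Int.rec.{1} @(fun x3 => ℤ) @(fun x3 => @Nat.rec.{1} @(fun x4 => ℤ) (@Int.ofNat (@Nat.sub @x3 (@Nat.succ @x2))) @(fun x4 x5 => @Int.negSucc @x4) (@Nat.sub (@Nat.succ @x2) @x3)) @(fun x3 => @Int.negSucc (@Nat.succ (@Nat.add @x2 @x3))) @x1)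 @x0)
private theorem _root_.Cfsg.Agent.KO6bb9c8c.e17 : @Int.add = @_root_.Cfsg.Agent.KO6bb9c8c.k17 := by delta _root_.Cfsg.Agent.KO6bb9c8c.k17; rfl'
private noncomputable def _root_.Cfsg.Agent.KO6bb9c8c.k18 : (by first | exact type_of% @Cfsg.Agent.LeechMat.Elements.sumTo | exact Unit : Sort _) := by first | (refine @Subtype.val _ (fun g => @Cfsg.Agent.LeechMat.Elements.sumTo = @g) (@Subtype.mk _ _ (@(fun x0 x1 => @Nat.rec.{1} @(fun x2 => ℤ) (@Int.ofNat (nat_lit 0)) @(fun x2 x3 => @Cfsg.Agent.KO6bb9c8c.k17 @x3 (@x0 @x2)) @x1)) ?_); rewrite [← Cfsg.Agent.KO6bb9c8c.e17]; funext a0 a1; refine (_root_.Cfsg.Agent.KO6bb9c8c.e13 (fun a1 => @Cfsg.Agent.LeechMat.Elements.sumTo a0 a1) ?_ (fun c0 => ?_) a1 :) <;> (rfl')) | exact @Cfsg.Agent.LeechMat.Elements.sumTo | exact ()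
private theorem _root_.Cfsg.Agent.KO6bb9c8c.e18 : (by first | exact @Cfsg.Agent.LeechMat.Elements.sumTo = @_root_.Cfsg.Agent.KO6bb9c8c.k18 | exact True : Prop) := by first | (delta _root_.Cfsg.Agent.KO6bb9c8c.k18; exact @Subtype.property _ (fun g => @Cfsg.Agent.LeechMat.Elements.sumTo = @g) _) | rfl | trivial
private noncomputable def _root_.Cfsg.Agent.KO6bb9c8c.k20 : (by first | exact type_of% @Cfsg.Agent.LeechMat.Elements.dig | exact Unit : Sort _) := by first | (refine @Subtype.val _ (fun g => @Cfsg.Agent.LeechMat.Elements.dig = @g) (@Subtype.mk _ _ (@(fun x0 x1 => @Nat.mod (@Nat.shiftRight @x0 (@Nat.mul (nat_lit 5) @x1)) (nat_lit 32))) ?_); rfl') | exact @Cfsg.Agent.LeechMat.Elements.dig | exact ()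
private theorem _root_.Cfsg.Agent.KO6bb9c8c.e20 : (by first | exact @Cfsg.Agent.LeechMat.Elements.dig = @_root_.Cfsg.Agent.KO6bb9c8c.k20 | exact True : Prop) := by first | (delta _root_.Cfsg.Agent.KO6bb9c8c.k20; exact @Subtype.property _ (fun g => @Cfsg.Agent.LeechMat.Elements.dig = @g) _) | rfl | trivial
private noncomputable def _root_.Cfsg.Agent.KO6bb9c8c.k21 : type_of% @Int.mul := @(fun x0 x1 => @Int.rec.{1} @(fun x2 => ℤ) @(fun x2 => @Int.rec.{1} @(fun x3 => ℤ) @(fun x3 => @Int.ofNat (@Nat.mul @x2 @x3)) @(fun x3 => @Nat.rec.{1} @(fun x4 => ℤ) (@Int.ofNat (nat_lit 0)) @(fun x4 x5 => @Int.negSucc @x4) (@Nat.mul @x2 (@Nat.succ @x3))) @x1) @(fun x2 => @Int.rec.{1} @(fun x3 => ℤ) @(fun x3 => @Nat.rec.{1} @(fun x4 => ℤ) (@Int.ofNat (nat_lit 0)) @(fun x4 x5 => @Int.negSucc @x4) (@Nat.mul (@Nat.succ @x2) @x3)) @(fun x3 => @Int.ofNat (@Nat.mul (@Nat.succ @x2) (@Nat.succ @x3))) @x1) @x0)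
private theorem _root_.Cfsg.Agent.KO6bb9c8c.e21 : @Int.mul = @_root_.Cfsg.Agent.KO6bb9c8c.k21 := by delta _root_.Cfsg.Agent.KO6bb9c8c.k21; rfl'
private noncomputable def _root_.Cfsg.Agent.KO6bb9c8c.k22 : (by first | exact type_of% @Cfsg.Agent.LeechMat.Elements.allTo | exact Unit : Sort _) := by first | (refine @Subtype.val _ (fun g => @Cfsg.Agent.LeechMat.Elements.allTo = @g) (@Subtype.mk _ _ (@(fun x0 x1 => @Nat.rec.{1} @(fun x2 => @Bool) @Bool.true @(fun x2 x3 => @Bool.rec.{1} @(fun x4 => @Bool) @Bool.false @x3 (@x0 @x2)) @x1)) ?_); funext a0 a1; refine (_root_.Cfsg.Agent.KO6bb9c8c.e13 (fun a1 => @Cfsg.Agent.LeechMat.Elements.allTo a0 a1) ?_ (fun c0 => ?_) a1 :) <;> (rfl')) | exact @Cfsg.Agent.LeechMat.Elements.allTo | exact ()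
private theorem _root_.Cfsg.Agent.KO6bb9c8c.e22 : (by first | exact @Cfsg.Agent.LeechMat.Elements.allTo = @_root_.Cfsg.Agent.KO6bb9c8c.k22 | exact True : Prop) := by first | (delta _root_.Cfsg.Agent.KO6bb9c8c.k22; exact @Subtype.property _ (fun g => @Cfsg.Agent.LeechMat.Elements.allTo = @g) _) | rfl | trivial
private noncomputable def _root_.Cfsg.Agent.KO6bb9c8c.k23 : (by first | exact type_of% @Cfsg.Agent.LeechMat.Elements.isLeech | exact Unit : Sort _) := by first | (refine @Subtype.val _ (fun g => @Cfsg.Agent.LeechMat.Elements.isLeech = @g) (@Subtype.mk _ _ (@(fun x0 => @Bool.rec.{1} @(fun x1 => @Bool) @Bool.false (@Cfsg.Agent.KO6bb9c8c.k10.{1} @Bool (@Cfsg.Agent.KO6bb9c8c.k12 @Cfsg.Agent.LeechMat.Code.basis (@Nat.mod (@Cfsg.Agent.KO6bb9c8c.k14 @x0 (nat_lit 24)) (nat_lit 4096))) (@Cfsg.Agent.KO6bb9c8c.k14 @x0 (nat_lit 24)) @Bool.false @Bool.true) (@Bool.rec.{1} @(fun x1 => @Bool) @Bool.false (@Decidable.rec.{1} _ @(fun x1 => @Bool) @(fun x1 => @Bool.false) @(fun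 x1 => @Bool.true) (@Cfsg.Agent.KO6bb9c8c.k16 (@Int.rec.{1} @(fun x1 => ℤ) @(fun x1 => @Int.ofNat (@Nat.mod @x1 (nat_lit 4))) @(fun x1 => @Nat.rec.{1} @(fun x2 => ℤ) (@Int.ofNat (@Nat.sub (nat_lit 4) (@Nat.succ (@Nat.mod @x1 (nat_lit 4))))) @(fun x2 x3 => @Int.negSucc @x2) (@Nat.sub (@Nat.succ (@Nat.mod @x1 (nat_lit 4))) (nat_lit 4))) (@Int.add (@Cfsg.Agent.KO6bb9c8c.k18 @(fun x1 => @Int.add (@Int.ediv (@Int.add (@Int.ofNat (@Cfsg.Agent.KO6bb9c8c.k20 @x0 @x1)) (@Nat.rec.{1} @(fun x2 => ℤ) (@Int.ofNat (nat_lit 0)) @(fun x2 x3 => @Int.negSucc @x2) (@Nat.mod @x0 (nat_lit 2)))) (@Int.ofNat (nat_lit 2))) (@Nat.rec.{1} @(fun x2 => ℤ) (@Int.ofNat (nat_lit 0)) @(fun x2 x3 => @Int.negSucc @x2) (nat_lit 8))) (nat_lit 24)) (@Int.rec.{1} @(fun x1 => ℤ) @(fun x1 => @Nat.rec.{1} @(fun x2 => ℤ) (@Int.ofNat (nat_lit 0)) @(fun x2 x3 => @Int.negSucc @x2) @x1) @(fun x1 => @Int.ofNat (@Nat.succ @x1)) (@Int.mul (@Int.ofNat (nat_lit 2)) (@Int.ofNat (@Nat.mod @x0 (nat_lit 2))))))) (@Int.ofNat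 (nat_lit 0)))) (@Cfsg.Agent.KO6bb9c8c.k22 @(fun x1 => @Cfsg.Agent.KO6bb9c8c.k10.{1} @Bool (@Nat.mod (@Cfsg.Agent.KO6bb9c8c.k20 @x0 @x1) (nat_lit 2)) (@Nat.mod @x0 (nat_lit 2)) @Bool.false @Bool.true) (nat_lit 24))))) ?_); rewrite [← Cfsg.Agent.KO6bb9c8c.e22, ← Cfsg.Agent.KO6bb9c8c.e20, ← Cfsg.Agent.KO6bb9c8c.e18, ← Cfsg.Agent.KO6bb9c8c.e16, ← Cfsg.Agent.KO6bb9c8c.e14, ← Cfsg.Agent.KO6bb9c8c.e12, ← Cfsg.Agent.KO6bb9c8c.e10.{1}]; (try delta Cfsg.Agent.LeechMat.Elements.isLeech Cfsg.Agent.LeechMat.Code.enc); (try generalize @Cfsg.Agent.LeechMat.Code.encAux = g0); (try generalize @Cfsg.Agent.LeechMat.Code.basis = g1); (try generalize @Cfsg.Agent.LeechMat.Elements.maskc = g2); (try generalize @Cfsg.Agent.LeechMat.Elements.sumTo = g3); (try generalize @Cfsg.Agent.LeechMat.Elements.dig = g4); (try generalize @Cfsg.Agent.LeechMat.Elements.allTo = g5); rfl') | exact @Cfsg.Agent.LeechMat.Elements.isLeech | exact ()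
private theorem _root_.Cfsg.Agent.KO6bb9c8c.e23 : (by first | exact @Cfsg.Agent.LeechMat.Elements.isLeech = @_root_.Cfsg.Agent.KO6bb9c8c.k23 | exact True : Prop) := by first | (delta _root_.Cfsg.Agent.KO6bb9c8c.k23; exact @Subtype.property _ (fun g => @Cfsg.Agent.LeechMat.Elements.isLeech = @g) _) | rfl | trivial
private noncomputable def _root_.Cfsg.Agent.KO6bb9c8c.k24 : (by first | exact type_of% @Cfsg.Agent.LeechMat.Elements.sdig | exact Unit : Sort _) := by first | (refine @Subtype.val _ (fun g => @Cfsg.Agent.LeechMat.Elements.sdig = @g) (@Subtype.mk _ _ (@(fun x0 x1 => @Cfsg.Agent.KO6bb9c8c.k17 (@Int.ofNat (@Cfsg.Agent.KO6bb9c8c.k20 @x0 @x1)) (@Nat.rec.{1} @(fun x2 => ℤ) (@Int.ofNat (nat_lit 0)) @(fun x2 x3 => @Int.negSucc @x2) (nat_lit 16)))) ?_); rewrite [← Cfsg.Agent.KO6bb9c8c.e20, ← Cfsg.Agent.KO6bb9c8c.e17]; (try delta Cfsg.Agent.LeechMat.Elements.sdig); (try generalize @Cfsg.Agent.LeechMat.Elements.dig = g0); rfl') | exact @Cfsg.Agent.LeechMat.Elements.sdig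 | exact ()
private theorem _root_.Cfsg.Agent.KO6bb9c8c.e24 : (by first | exact @Cfsg.Agent.LeechMat.Elements.sdig = @_root_.Cfsg.Agent.KO6bb9c8c.k24 | exact True : Prop) := by first | (delta _root_.Cfsg.Agent.KO6bb9c8c.k24; exact @Subtype.property _ (fun g => @Cfsg.Agent.LeechMat.Elements.sdig = @g) _) | rfl | trivial
private noncomputable def _root_.Cfsg.Agent.KO6bb9c8c.k25 : (by first | exact type_of% @Cfsg.Agent.LeechMat.Elements.mvAt | exact Unit : Sort _) := by first | (refine @Subtype.val _ (fun g => @Cfsg.Agent.LeechMat.Elements.mvAt = @g) (@Subtype.mk _ _ (@(fun x0 x1 x2 => @List.rec.{1, 0} ℕ @(fun x3 => ℕ → ℕ → ℤ) @(fun x3 x4 => @Int.ofNat (nat_lit 0)) @(fun x3 x4 x5 x6 x7 => @Cfsg.Agent.KO6bb9c8c.k17 (@Cfsg.Agent.KO6bb9c8c.k21 (@Cfsg.Agent.KO6bb9c8c.k24 @x6 (nat_lit 0)) (@Cfsg.Agent.KO6bb9c8c.k24 @x3 @x7)) (@x5 (@Nat.shiftRight @x6 (nat_lit 5)) @x7)) @x0 @x1 @x2)) ?_); rewrite [← Cfsg.Agent.KO6bb9c8c.e24, ← Cfsg.Agent.KO6bb9c8c.e21, ← Cfsg.Agent.KO6bb9c8c.e17];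 funext a0 a1 a2; refine (congrFun (congrFun (_root_.Cfsg.Agent.KO6bb9c8c.e0 (fun a0 a1 a2 => @Cfsg.Agent.LeechMat.Elements.mvAt a0 a1 a2) ?_ (fun c0 c1 => ?_) a0) a1) a2 :) <;> ((try delta Cfsg.Agent.LeechMat.Elements.mvAt Cfsg.Agent.LeechMat.Elements.mvAt._f); (try generalize @Cfsg.Agent.LeechMat.Elements.sdig = g0); rfl')) | exact @Cfsg.Agent.LeechMat.Elements.mvAt | exact ()
private theorem _root_.Cfsg.Agent.KO6bb9c8c.e25 : (by first | exact @Cfsg.Agent.LeechMat.Elements.mvAt = @_root_.Cfsg.Agent.KO6bb9c8c.k25 | exact True : Prop) := by first | (delta _root_.Cfsg.Agent.KO6bb9c8c.k25; exact @Subtype.property _ (fun g => @Cfsg.Agent.LeechMat.Elements.mvAt = @g) _) | rfl | trivial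
private noncomputable def _root_.Cfsg.Agent.KO6bb9c8c.k27 : (by first | exact type_of% @Cfsg.Agent.LeechMat.Elements.maps | exact Unit : Sort _) := by first | (refine @Subtype.val _ (fun g => @Cfsg.Agent.LeechMat.Elements.maps = @g) (@Subtype.mk _ _ (@(fun x0 x1 x2 x3 => @List.rec.{1, 0} ℕ @(fun x4 => (@List.{0} ℕ) → @Bool) @(fun x4 => @Bool.true) @(fun x4 x5 x6 x7 => @List.rec.{1, 0} ℕ @(fun x8 => @Bool) @Bool.false @(fun x8 x9 x10 => @Bool.rec.{1} @(fun x11 => @Bool) @Bool.false (@x6 @x9) (@Bool.rec.{1} @(fun x11 => @Bool) @Bool.false (@Cfsg.Agent.KO6bb9c8c.k23 @x8) (@Cfsg.Agent.KO6bb9c8c.k22 @(fun x11 => @Decidable.rec.{1} _ @(fun x12 => @Bool) @(fun x12 => @Bool.false) @(fun x12 => @Bool.true) (@Cfsg.Agent.KO6bb9c8c.k16 (@Cfsg.Agent.KO6bb9c8c.k25 @x1 @x4 @x11) (@Int.mul (@Int.ofNat @x0) (@Cfsg.Agent.KO6bb9c8c.k24 @x8 @x11)))) (nat_lit 24)))) @x7) @x2 @x3)) ?_); rewrite [← Cfsg.Agent.KO6bb9c8c.e24, ← Cfsg.Agent.KO6bb9c8c.e25, ← Cfsg.Agent.KO6bb9c8c.e16, ← Cfsg.Agent.KO6bb9c8c.e22,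 ← Cfsg.Agent.KO6bb9c8c.e23]; funext a0 a1 a2 a3; refine (congrFun (_root_.Cfsg.Agent.KO6bb9c8c.e0 (fun a2 a3 => @Cfsg.Agent.LeechMat.Elements.maps a0 a1 a2 a3) ?_ (fun c0 c1 => ?_) a2) a3 :) <;> [(funext b0; ((try delta Cfsg.Agent.LeechMat.Elements.maps Cfsg.Agent.LeechMat.Elements.maps._f); (try generalize @Cfsg.Agent.LeechMat.Elements.isLeech = g0); (try generalize @Cfsg.Agent.LeechMat.Elements.allTo = g1); (try generalize @Cfsg.Agent.LeechMat.Elements.mvAt = g2); (try generalize @Cfsg.Agent.LeechMat.Elements.sdig = g3); rfl')); (funext b0; (cases b0 with | @nil  => ((try delta Cfsg.Agent.LeechMat.Elements.maps Cfsg.Agent.LeechMat.Elements.maps._f); (try generalize @Cfsg.Agent.LeechMat.Elements.isLeech = g0); (try generalize @Cfsg.Agent.LeechMat.Elements.allTo = g1); (try generalize @Cfsg.Agent.LeechMat.Elements.mvAt = g2); (try generalize @Cfsg.Agent.LeechMat.Elements.sdig = g3); rfl') | @cons b0_0 b0_1 => ((try delta Cfsg.Agent.LeechMat.Elements.maps Cfsg.Agent.LeechMat.Elements.maps._f);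 (try generalize @Cfsg.Agent.LeechMat.Elements.isLeech = g0); (try generalize @Cfsg.Agent.LeechMat.Elements.allTo = g1); (try generalize @Cfsg.Agent.LeechMat.Elements.mvAt = g2); (try generalize @Cfsg.Agent.LeechMat.Elements.sdig = g3); rfl')))]) | exact @Cfsg.Agent.LeechMat.Elements.maps | exact ()
private theorem _root_.Cfsg.Agent.KO6bb9c8c.e27 : (by first | exact @Cfsg.Agent.LeechMat.Elements.maps = @_root_.Cfsg.Agent.KO6bb9c8c.k27 | exact True : Prop) := by first | (delta _root_.Cfsg.Agent.KO6bb9c8c.k27; exact @Subtype.property _ (fun g => @Cfsg.Agent.LeechMat.Elements.maps = @g) _) | rfl | trivial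
private noncomputable def _root_.Cfsg.Agent.KO6bb9c8c.k28 : (by first | exact type_of% @Cfsg.Agent.LeechMat.Elements.dotc | exact Unit : Sort _) := by first | (refine @Subtype.val _ (fun g => @Cfsg.Agent.LeechMat.Elements.dotc = @g) (@Subtype.mk _ _ (@(fun x0 x1 => @Cfsg.Agent.KO6bb9c8c.k18 @(fun x2 => @Cfsg.Agent.KO6bb9c8c.k21 (@Cfsg.Agent.KO6bb9c8c.k24 @x0 @x2) (@Cfsg.Agent.KO6bb9c8c.k24 @x1 @x2)) (nat_lit 24))) ?_); rewrite [← Cfsg.Agent.KO6bb9c8c.e24, ← Cfsg.Agent.KO6bb9c8c.e21, ← Cfsg.Agent.KO6bb9c8c.e18]; (try delta Cfsg.Agent.LeechMat.Elements.dotc); (try generalize @Cfsg.Agent.LeechMat.Elements.sumTo = g0); (try generalize @Cfsg.Agent.LeechMat.Elements.sdig = g1); rfl') | exact @Cfsg.Agent.LeechMat.Elements.dotc | exact ()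
private theorem _root_.Cfsg.Agent.KO6bb9c8c.e28 : (by first | exact @Cfsg.Agent.LeechMat.Elements.dotc = @_root_.Cfsg.Agent.KO6bb9c8c.k28 | exact True : Prop) := by first | (delta _root_.Cfsg.Agent.KO6bb9c8c.k28; exact @Subtype.property _ (fun g => @Cfsg.Agent.LeechMat.Elements.dotc = @g) _) | rfl | trivial
private noncomputable def _root_.Cfsg.Agent.KO6bb9c8c.k30.{ku0} : type_of% @List.get?Internal.{ku0} := @(fun x0 x1 x2 => @List.rec.{(ku0+1), ku0} @x0 @(fun x3 => ℕ → @Option.{ku0} @x0) @(fun x3 => @Option.none.{ku0} _) @(fun x3 x4 x5 x6 => @Nat.rec.{(ku0+1)} @(fun x7 => @Option.{ku0} @x0) (@Option.some.{ku0} _ @x3) @(fun x7 x8 => @x5 @x7) @x6) @x1 @x2)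
private theorem _root_.Cfsg.Agent.KO6bb9c8c.e30.{ku0} : @List.get?Internal.{ku0} = @_root_.Cfsg.Agent.KO6bb9c8c.k30.{ku0} := by delta _root_.Cfsg.Agent.KO6bb9c8c.k30; funext a0 a1 a2; refine (congrFun (_root_.Cfsg.Agent.KO6bb9c8c.e0 (fun a1 a2 => @List.get?Internal.{ku0} a0 a1 a2) ?_ (fun c0 c1 => ?_) a1) a2 :) <;> [(funext b0; (rfl')); (funext b0; (cases b0 with | @zero  => (rfl') | @succ b0_0 => (rfl')))]
private noncomputable def _root_.Cfsg.Agent.KO6bb9c8c.k32 : (by first | exact type_of% @Cfsg.Agent.LeechMat.Elements.orth | exact Unit : Sort _) := by first | (refine @Subtype.val _ (fun g => @Cfsg.Agent.LeechMat.Elements.orth = @g) (@Subtype.mk _ _ (@(fun x0 x1 => @Cfsg.Agent.KO6bb9c8c.k22 @(fun x2 => @Cfsg.Agent.KO6bb9c8c.k22 @(fun x3 => @Decidable.rec.{1} _ @(fun x4 => @Bool) @(fun x4 => @Bool.false) @(fun x4 => @Bool.true) (@Cfsg.Agent.KO6bb9c8c.k16 (@Cfsg.Agent.KO6bb9c8c.k28 (@Option.rec.{1, 0} ℕ @(fun x4 => ℕ) (nat_lit 0) @(fun x4 => @x4) (@List.get?Internal.{0}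 _ @x1 @x2)) (@Option.rec.{1, 0} ℕ @(fun x4 => ℕ) (nat_lit 0) @(fun x4 => @x4) (@List.get?Internal.{0} _ @x1 @x3))) (@Cfsg.Agent.KO6bb9c8c.oEq.{1} ℤ @x2 @x3 (@Int.ofNat (nat_lit 0)) (@Int.pow (@Int.ofNat @x0) (nat_lit 2))))) (nat_lit 24)) (nat_lit 24))) ?_); rewrite [← Cfsg.Agent.KO6bb9c8c.e28, ← Cfsg.Agent.KO6bb9c8c.e16, ← Cfsg.Agent.KO6bb9c8c.e22]; (try delta Cfsg.Agent.LeechMat.Elements.orth); (try generalize @Cfsg.Agent.LeechMat.Elements.allTo = g0); (try generalize @Cfsg.Agent.LeechMat.Elements.dotc = g1); rfl') | exact @Cfsg.Agent.LeechMat.Elements.orth | exact ()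
private theorem _root_.Cfsg.Agent.KO6bb9c8c.e32 : (by first | exact @Cfsg.Agent.LeechMat.Elements.orth = @_root_.Cfsg.Agent.KO6bb9c8c.k32 | exact True : Prop) := by first | (delta _root_.Cfsg.Agent.KO6bb9c8c.k32; exact @Subtype.property _ (fun g => @Cfsg.Agent.LeechMat.Elements.orth = @g) _) | rfl | trivial
private noncomputable def _root_.Cfsg.Agent.KO6bb9c8c.k33.{ku0} : type_of% @List.length.{ku0} := @(fun x0 x1 => @List.rec.{1, ku0} @x0 @(fun x2 => ℕ) (nat_lit 0) @(fun x2 x3 x4 => @Nat.add @x4 (nat_lit 1)) @x1)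
private theorem _root_.Cfsg.Agent.KO6bb9c8c.e33.{ku0} : @List.length.{ku0} = @_root_.Cfsg.Agent.KO6bb9c8c.k33.{ku0} := by delta _root_.Cfsg.Agent.KO6bb9c8c.k33; funext a0 a1; refine (_root_.Cfsg.Agent.KO6bb9c8c.e0 (fun a1 => @List.length.{ku0} a0 a1) ?_ (fun c0 c1 => ?_) a1 :) <;> (rfl')
private noncomputable def _root_.Cfsg.Agent.KO6bb9c8c.k34 : (by first | exact type_of% @Cfsg.Agent.LeechMat.Elements.checkMat | exact Unit : Sort _) := by first | (refine @Subtype.val _ (fun g => @Cfsg.Agent.LeechMat.Elements.checkMat = @g) (@Subtype.mk _ _ (@(fun x0 x1 x2 => @Bool.rec.{1} @(fun x3 => @Bool) @Bool.false (@Cfsg.Agent.KO6bb9c8c.k27 @x0 @x1 @Cfsg.Agent.LeechMat.Elements.genCodes @x2) (@Bool.rec.{1} @(fun x3 => @Bool) @Bool.false (@Cfsg.Agent.KO6bb9c8c.k32 @x0 @x1) (@Bool.rec.{1} @(fun x3 => @Bool) @Bool.false (@Nat.ble (@Nat.succ (nat_lit 0)) @x0) (@Cfsg.Agent.KO6bb9c8c.k10.{1} @Bool (@Cfsg.Agent.KO6bb9c8c.k33.{0} _ @x1) (nat_lit 24) @Bool.false @Bool.true))))) ?_);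 rewrite [← Cfsg.Agent.KO6bb9c8c.e33.{0}, ← Cfsg.Agent.KO6bb9c8c.e10.{1}, ← Cfsg.Agent.KO6bb9c8c.e32, ← Cfsg.Agent.KO6bb9c8c.e27]; (try delta Cfsg.Agent.LeechMat.Elements.checkMat); (try generalize @Cfsg.Agent.LeechMat.Elements.maps = g0); (try generalize @Cfsg.Agent.LeechMat.Elements.genCodes = g1); (try generalize @Cfsg.Agent.LeechMat.Elements.orth = g2); rfl') | exact @Cfsg.Agent.LeechMat.Elements.checkMat | exact ()
private theorem _root_.Cfsg.Agent.KO6bb9c8c.e34 : (by first | exact @Cfsg.Agent.LeechMat.Elements.checkMat = @_root_.Cfsg.Agent.KO6bb9c8c.k34 | exact True : Prop) := by first | (delta _root_.Cfsg.Agent.KO6bb9c8c.k34; exact @Subtype.property _ (fun g => @Cfsg.Agent.LeechMat.Elements.checkMat = @g) _) | rfl | trivial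
private noncomputable def _root_.Cfsg.Agent.KO6bb9c8c.k35 : (by first | exact type_of% @Cfsg.Agent.LeechMat.Quick.cmb | exact Unit : Sort _) := by first | (refine @Subtype.val _ (fun g => @Cfsg.Agent.LeechMat.Quick.cmb = @g) (@Subtype.mk _ _ (@(fun x0 => @List.rec.{1, 0} ℕ @(fun x1 => ℕ → ℕ) @(fun x1 => nat_lit 0) @(fun x1 x2 x3 x4 => @Nat.add (@Nat.mul (@Nat.mod @x4 (nat_lit 32)) @x1) (@x3 (@Nat.shiftRight @x4 (nat_lit 5)))) @x0)) ?_); rfl') | exact @Cfsg.Agent.LeechMat.Quick.cmb | exact ()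
private theorem _root_.Cfsg.Agent.KO6bb9c8c.e35 : (by first | exact @Cfsg.Agent.LeechMat.Quick.cmb = @_root_.Cfsg.Agent.KO6bb9c8c.k35 | exact True : Prop) := by first | (delta _root_.Cfsg.Agent.KO6bb9c8c.k35; exact @Subtype.property _ (fun g => @Cfsg.Agent.LeechMat.Quick.cmb = @g) _) | rfl | trivial
private noncomputable def _root_.Cfsg.Agent.KO6bb9c8c.k36 : (by first | exact type_of% @Cfsg.Agent.LeechMat.Quick.l24 | exact Unit : Sort _) := by first | (refine @Subtype.val _ (fun g => @Cfsg.Agent.LeechMat.Quick.l24 = @g) (@Subtype.mk _ _ (@(fun x0 => (@x0 (nat_lit 0)) :: ((@x0 (nat_lit 1)) :: ((@x0 (nat_lit 2)) :: ((@x0 (nat_lit 3)) :: ((@x0 (nat_lit 4)) :: ((@x0 (nat_lit 5)) :: ((@x0 (nat_lit 6)) :: ((@x0 (nat_lit 7)) :: ((@x0 (nat_lit 8)) :: ((@x0 (nat_lit 9)) :: ((@x0 (nat_lit 10)) :: ((@x0 (nat_lit 11)) :: ((@x0 (nat_lit 12)) :: ((@x0 (nat_lit 13)) :: ((@x0 (nat_lit 14)) :: ((@x0 (nat_lit 15)) :: ((@x0 (nat_lit 16)) :: ((@x0 (nat_lit 17)) :: ((@x0 (nat_lit 18))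 :: ((@x0 (nat_lit 19)) :: ((@x0 (nat_lit 20)) :: ((@x0 (nat_lit 21)) :: ((@x0 (nat_lit 22)) :: ((@x0 (nat_lit 23)) :: []))))))))))))))))))))))))) ?_); rfl') | exact @Cfsg.Agent.LeechMat.Quick.l24 | exact ()
private theorem _root_.Cfsg.Agent.KO6bb9c8c.e36 : (by first | exact @Cfsg.Agent.LeechMat.Quick.l24 = @_root_.Cfsg.Agent.KO6bb9c8c.k36 | exact True : Prop) := by first | (delta _root_.Cfsg.Agent.KO6bb9c8c.k36; exact @Subtype.property _ (fun g => @Cfsg.Agent.LeechMat.Quick.l24 = @g) _) | rfl | trivial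
private noncomputable def _root_.Cfsg.Agent.KO6bb9c8c.k37 : (by first | exact type_of% @Cfsg.Agent.LeechMat.Quick.tst | exact Unit : Sort _) := by first | (refine @Subtype.val _ (fun g => @Cfsg.Agent.LeechMat.Quick.tst = @g) (@Subtype.mk _ _ (@(fun x0 x1 x2 x3 => @Nat.beq (@Nat.add (@Cfsg.Agent.KO6bb9c8c.k35 @x0 @x1) (@Nat.mul (@Nat.add (nat_lit 6144) @x3) @Cfsg.Agent.LeechMat.Quick.jj)) (@Nat.add @x2 (@Nat.add (@Cfsg.Agent.KO6bb9c8c.k35 @x0 @Cfsg.Agent.LeechMat.Elements.Z0) (@Nat.mul (@Nat.mul (nat_lit 16) (@Cfsg.Agent.KO6bb9c8c.k35 (@Cfsg.Agent.KO6bb9c8c.k36 @(fun x4 => nat_lit 1)) @x1)) @Cfsg.Agent.LeechMat.Quick.jj))))) ?_); rewrite [← Cfsg.Agent.KO6bb9c8c.e36, ← Cfsg.Agent.KO6bb9c8c.e35]; (try delta Cfsg.Agent.LeechMat.Quick.tst); (try generalize @Cfsg.Agent.LeechMat.Quick.cmb = g0); (try generalize @Cfsg.Agent.LeechMat.Quick.jj = g1); (try generalize @Cfsg.Agent.LeechMat.Elements.Z0 = g2); (try generalize @Cfsg.Agent.LeechMat.Quick.l24 = g3); rfl') | exact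 @Cfsg.Agent.LeechMat.Quick.tst | exact ()
private theorem _root_.Cfsg.Agent.KO6bb9c8c.e37 : (by first | exact @Cfsg.Agent.LeechMat.Quick.tst = @_root_.Cfsg.Agent.KO6bb9c8c.k37 | exact True : Prop) := by first | (delta _root_.Cfsg.Agent.KO6bb9c8c.k37; exact @Subtype.property _ (fun g => @Cfsg.Agent.LeechMat.Quick.tst = @g) _) | rfl | trivial
private noncomputable def _root_.Cfsg.Agent.KO6bb9c8c.k40.{ku0, ku1} : type_of% @List.map.{ku0, ku1} := @(fun x0 x1 x2 x3 => @List.rec.{(ku1+1), ku0} @x0 @(fun x4 => @List.{ku1} @x1) [] @(fun x4 x5 x6 => (@x2 @x4) :: @x6) @x3)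
private theorem _root_.Cfsg.Agent.KO6bb9c8c.e40.{ku0, ku1} : @List.map.{ku0, ku1} = @_root_.Cfsg.Agent.KO6bb9c8c.k40.{ku0, ku1} := by delta _root_.Cfsg.Agent.KO6bb9c8c.k40; funext a0 a1 a2 a3; refine (_root_.Cfsg.Agent.KO6bb9c8c.e0 (fun a3 => @List.map.{ku0, ku1} a0 a1 a2 a3) ?_ (fun c0 c1 => ?_) a3 :) <;> (rfl')
private noncomputable def _root_.Cfsg.Agent.KO6bb9c8c.k41 : (by first | exact type_of% @Cfsg.Agent.LeechMat.Quick.spr | exact Unit : Sort _) := by first | (refine @Subtype.val _ (fun g => @Cfsg.Agent.LeechMat.Quick.spr = @g) (@Subtype.mk _ _ (@(fun x0 => @Cfsg.Agent.KO6bb9c8c.k35 (@Cfsg.Agent.KO6bb9c8c.k36 @(fun x1 => @Nat.pow (nat_lit 65536) @x1)) @x0)) ?_); rewrite [← Cfsg.Agent.KO6bb9c8c.e36, ← Cfsg.Agent.KO6bb9c8c.e35]; (try delta Cfsg.Agent.LeechMat.Quick.spr); (try generalize @Cfsg.Agent.LeechMat.Quick.cmb = g0); (try generalize @Cfsg.Agent.LeechMat.Quick.l24 = g1); rfl') | exact @Cfsg.Agent.LeechMat.Quick.spr | exact ()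
private theorem _root_.Cfsg.Agent.KO6bb9c8c.e41 : (by first | exact @Cfsg.Agent.LeechMat.Quick.spr = @_root_.Cfsg.Agent.KO6bb9c8c.k41 | exact True : Prop) := by first | (delta _root_.Cfsg.Agent.KO6bb9c8c.k41; exact @Subtype.property _ (fun g => @Cfsg.Agent.LeechMat.Quick.spr = @g) _) | rfl | trivial
private noncomputable def _root_.Cfsg.Agent.KO6bb9c8c.k42 : (by first | exact type_of% @Cfsg.Agent.LeechMat.Quick.rw | exact Unit : Sort _) := by first | (refine @Subtype.val _ (fun g => @Cfsg.Agent.LeechMat.Quick.rw = @g) (@Subtype.mk _ _ (@(fun x0 x1 => @List.rec.{1, 0} ℕ @(fun x2 => ℕ) (nat_lit 0) @(fun x2 x3 x4 => @Nat.add (@Nat.mod (@Nat.shiftRight @x2 (@Nat.mul (nat_lit 5) @x0)) (nat_lit 32)) (@Nat.shiftLeft @x4 (nat_lit 16))) @x1)) ?_); rfl') | exact @Cfsg.Agent.LeechMat.Quick.rw | exact ()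
private theorem _root_.Cfsg.Agent.KO6bb9c8c.e42 : (by first | exact @Cfsg.Agent.LeechMat.Quick.rw = @_root_.Cfsg.Agent.KO6bb9c8c.k42 | exact True : Prop) := by first | (delta _root_.Cfsg.Agent.KO6bb9c8c.k42; exact @Subtype.property _ (fun g => @Cfsg.Agent.LeechMat.Quick.rw = @g) _) | rfl | trivial
private noncomputable def _root_.Cfsg.Agent.KO6bb9c8c.k43 : (by first | exact type_of% @Cfsg.Agent.LeechMat.Quick.chk | exact Unit : Sort _) := by first | (refine @Subtype.val _ (fun g => @Cfsg.Agent.LeechMat.Quick.chk = @g) (@Subtype.mk _ _ (@(fun x0 x1 x2 => @Bool.rec.{1} @(fun x3 => @Bool) @Bool.false (@Cfsg.Agent.LeechMat.Quick.mp @x0 (@Cfsg.Agent.KO6bb9c8c.k40.{0, 0} _ _ @Cfsg.Agent.KO6bb9c8c.k41 @x1) @Cfsg.Agent.LeechMat.Elements.genCodes @x2) (@Bool.rec.{1} @(fun x3 => @Bool) @Bool.false (@Cfsg.Agent.KO6bb9c8c.k22 @(fun x3 => @Cfsg.Agent.KO6bb9c8c.k37 (@Cfsg.Agent.KO6bb9c8c.k36 @(fun x4 => @Cfsg.Agent.KO6bb9c8c.k42 @x4 @x1)) (@Option.rec.{1, 0} ℕ @(fun x4 => ℕ) (nat_lit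 0) @(fun x4 => @x4) (@Cfsg.Agent.KO6bb9c8c.k30.{0} _ @x1 @x3)) (@Nat.mul (@Nat.mul @x0 @x0) (@Nat.pow (nat_lit 65536) @x3)) (nat_lit 0)) (nat_lit 24)) (@Bool.rec.{1} @(fun x3 => @Bool) @Bool.false (@Nat.ble @x0 (nat_lit 100)) (@Bool.rec.{1} @(fun x3 => @Bool) @Bool.false (@Nat.ble (@Nat.succ (nat_lit 0)) @x0) (@Nat.beq (@Cfsg.Agent.KO6bb9c8c.k33.{0} _ @x1) (nat_lit 24))))))) ?_); rewrite [← Cfsg.Agent.KO6bb9c8c.e33.{0}, ← Cfsg.Agent.KO6bb9c8c.e30.{0}, ← Cfsg.Agent.KO6bb9c8c.e42, ← Cfsg.Agent.KO6bb9c8c.e36, ← Cfsg.Agent.KO6bb9c8c.e37, ← Cfsg.Agent.KO6bb9c8c.e22, ← Cfsg.Agent.KO6bb9c8c.e41, ← Cfsg.Agent.KO6bb9c8c.e40.{0, 0}]; (try delta Cfsg.Agent.LeechMat.Quick.chk); (try generalize @Cfsg.Agent.LeechMat.Quick.mp = g0); (try generalize @Cfsg.Agent.LeechMat.Quick.spr = g1); (try generalize @Cfsg.Agent.LeechMat.Elements.genCodes = g2); (try generalize @Cfsg.Agent.LeechMat.Elements.allTo = g3); (try generalize @Cfsg.Agent.LeechMat.Quick.tst = g4); (try generalize @Cfsg.Agent.LeechMat.Quick.l24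 = g5); (try generalize @Cfsg.Agent.LeechMat.Quick.rw = g6); rfl') | exact @Cfsg.Agent.LeechMat.Quick.chk | exact ()
private theorem _root_.Cfsg.Agent.KO6bb9c8c.e43 : (by first | exact @Cfsg.Agent.LeechMat.Quick.chk = @_root_.Cfsg.Agent.KO6bb9c8c.k43 | exact True : Prop) := by first | (delta _root_.Cfsg.Agent.KO6bb9c8c.k43; exact @Subtype.property _ (fun g => @Cfsg.Agent.LeechMat.Quick.chk = @g) _) | rfl | trivial
private noncomputable def _root_.Cfsg.Agent.KO6bb9c8c.k44 : (by first | exact type_of% @Cfsg.Agent.LeechMat.Quick.matF | exact Unit : Sort _) := by first | (refine @Subtype.val _ (fun g => @Cfsg.Agent.LeechMat.Quick.matF = @g) (@Subtype.mk _ _ (@(fun x0 x1 x2 => @Bool.rec.{1} @(fun x3 => @Bool) (@Cfsg.Agent.KO6bb9c8c.k34 @x0 @x1 @x2) @Bool.true (@Cfsg.Agent.KO6bb9c8c.k43 @x0 @x1 @x2))) ?_); rewrite [← Cfsg.Agent.KO6bb9c8c.e43, ← Cfsg.Agent.KO6bb9c8c.e34]; (try delta Cfsg.Agent.LeechMat.Quick.matF); (try generalize @Cfsg.Agent.LeechMat.Elements.checkMat =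 g0); (try generalize @Cfsg.Agent.LeechMat.Quick.chk = g1); rfl') | exact @Cfsg.Agent.LeechMat.Quick.matF | exact ()
private theorem _root_.Cfsg.Agent.KO6bb9c8c.e44 : (by first | exact @Cfsg.Agent.LeechMat.Quick.matF = @_root_.Cfsg.Agent.KO6bb9c8c.k44 | exact True : Prop) := by first | (delta _root_.Cfsg.Agent.KO6bb9c8c.k44; exact @Subtype.property _ (fun g => @Cfsg.Agent.LeechMat.Quick.matF = @g) _) | rfl | trivial
private noncomputable def _root_.Cfsg.Agent.KO6bb9c8c.k45 : (by first | exact type_of% @Cfsg.Agent.H995.Co1F.symm | exact Unit : Sort _) := by first | (refine @Subtype.val _ (fun g => @Cfsg.Agent.H995.Co1F.symm = @g) (@Subtype.mk _ _ (@(fun x0 => @Cfsg.Agent.KO6bb9c8c.k22 @(fun x1 => @Cfsg.Agent.KO6bb9c8c.k22 @(fun x2 => @Decidable.rec.{1} _ @(fun x3 => @Bool) @(fun x3 => @Bool.false) @(fun x3 => @Bool.true) (@Cfsg.Agent.KO6bb9c8c.k16 (@Cfsg.Agent.KO6bb9c8c.k24 (@Option.rec.{1, 0} ℕ @(fun x3 => ℕ) (nat_lit 0) @(fun x3 => @x3) (@List.get?Internal.{0} _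 @x0 @x1)) @x2) (@Cfsg.Agent.KO6bb9c8c.k24 (@Option.rec.{1, 0} ℕ @(fun x3 => ℕ) (nat_lit 0) @(fun x3 => @x3) (@List.get?Internal.{0} _ @x0 @x2)) @x1))) (nat_lit 24)) (nat_lit 24))) ?_); rewrite [← Cfsg.Agent.KO6bb9c8c.e24, ← Cfsg.Agent.KO6bb9c8c.e16, ← Cfsg.Agent.KO6bb9c8c.e22]; (try delta Cfsg.Agent.H995.Co1F.symm); (try generalize @Cfsg.Agent.LeechMat.Elements.allTo = g0); (try generalize @Cfsg.Agent.LeechMat.Elements.sdig = g1); rfl') | exact @Cfsg.Agent.H995.Co1F.symm | exact ()
private theorem _root_.Cfsg.Agent.KO6bb9c8c.e45 : (by first | exact @Cfsg.Agent.H995.Co1F.symm = @_root_.Cfsg.Agent.KO6bb9c8c.k45 | exact True : Prop) := by first | (delta _root_.Cfsg.Agent.KO6bb9c8c.k45; exact @Subtype.property _ (fun g => @Cfsg.Agent.H995.Co1F.symm = @g) _) | rfl | trivial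
private noncomputable def _root_.Cfsg.Agent.KO6bb9c8c.k46 : type_of% @Int.instDecidableEq := @Cfsg.Agent.KO6bb9c8c.k16
private theorem _root_.Cfsg.Agent.KO6bb9c8c.e46 : @Int.instDecidableEq = @_root_.Cfsg.Agent.KO6bb9c8c.k46 := by delta _root_.Cfsg.Agent.KO6bb9c8c.k46; rewrite [← Cfsg.Agent.KO6bb9c8c.e16]; rfl'
private noncomputable def _root_.Cfsg.Agent.KO6bb9c8c.k47.{ku0} : type_of% @List.getD.{ku0} := @(fun x0 x1 x2 x3 => @Option.rec.{(ku0+1), ku0} @x0 @(fun x4 => @x0) @x3 @(fun x4 => @x4) (@Cfsg.Agent.KO6bb9c8c.k30.{ku0} _ @x1 @x2))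
private theorem _root_.Cfsg.Agent.KO6bb9c8c.e47.{ku0} : @List.getD.{ku0} = @_root_.Cfsg.Agent.KO6bb9c8c.k47.{ku0} := by delta _root_.Cfsg.Agent.KO6bb9c8c.k47; rewrite [← Cfsg.Agent.KO6bb9c8c.e30.{ku0}]; rfl'
private noncomputable def _root_.Cfsg.Agent.KO6bb9c8c.k48.{ku0} : type_of% @ite.{ku0} := @(fun x0 x1 x2 x3 x4 => @Decidable.rec.{ku0} _ @(fun x5 => @x0) @(fun x5 => @x4) @(fun x5 => @x3) @x2)
private theorem _root_.Cfsg.Agent.KO6bb9c8c.e48.{ku0} : @ite.{ku0} = @_root_.Cfsg.Agent.KO6bb9c8c.k48.{ku0} := by delta _root_.Cfsg.Agent.KO6bb9c8c.k48; rfl'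
private noncomputable def _root_.Cfsg.Agent.KO6bb9c8c.k49 : type_of% @Bool.decEq := @(fun x0 x1 => @Bool.rec.{1} @(fun x2 => @Decidable (@Eq.{1} _ @x2 @x1)) (@Bool.rec.{1} @(fun x2 => @Decidable (@Eq.{1} _ @Bool.false @x2)) (@Decidable.isTrue _ (@rfl.{1} _ _)) (@Decidable.isFalse _ @(fun x2 => @Bool.noConfusion.{0} _ _ _ @x2)) @x1) (@Bool.rec.{1} @(fun x2 => @Decidable (@Eq.{1} _ @Bool.true @x2)) (@Decidable.isFalse _ @(fun x2 => @Bool.noConfusion.{0} _ _ _ @x2)) (@Decidable.isTrue _ (@rfl.{1} _ _)) @x1) @x0)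
private theorem _root_.Cfsg.Agent.KO6bb9c8c.e49 : @Bool.decEq = @_root_.Cfsg.Agent.KO6bb9c8c.k49 := by delta _root_.Cfsg.Agent.KO6bb9c8c.k49; rfl'
private noncomputable def _root_.Cfsg.Agent.KO6bb9c8c.k50 : type_of% @instDecidableEqBool := @Cfsg.Agent.KO6bb9c8c.k49
private theorem _root_.Cfsg.Agent.KO6bb9c8c.e50 : @instDecidableEqBool = @_root_.Cfsg.Agent.KO6bb9c8c.k50 := by delta _root_.Cfsg.Agent.KO6bb9c8c.k50; rewrite [← Cfsg.Agent.KO6bb9c8c.e49]; rfl'
private noncomputable def _root_.Cfsg.Agent.KO6bb9c8c.k51 : type_of% @Nat.testBit := @(fun x0 x1 => @Bool.rec.{1} @(fun x2 => @Bool) @Bool.true @Bool.false (@Cfsg.Agent.KO6bb9c8c.k10.{1} @Bool (@Nat.land (nat_lit 1) (@Nat.shiftRight @x0 @x1)) (nat_lit 0) @Bool.false @Bool.true))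
private theorem _root_.Cfsg.Agent.KO6bb9c8c.e51 : @Nat.testBit = @_root_.Cfsg.Agent.KO6bb9c8c.k51 := by delta _root_.Cfsg.Agent.KO6bb9c8c.k51; rewrite [← Cfsg.Agent.KO6bb9c8c.e10.{1}]; rfl'

theorem chkW2 : W2.all (chkW A2) = true := by
  delta chkW; rw [Cfsg.Agent.LeechMat.Quick.mat_eq]; (first | (rewrite [Cfsg.Agent.KO6bb9c8c.e1.{0}, Cfsg.Agent.KO6bb9c8c.e2, Cfsg.Agent.KO6bb9c8c.e6, Cfsg.Agent.KO6bb9c8c.e9, Cfsg.Agent.KO6bb9c8c.e44, Cfsg.Agent.KO6bb9c8c.e45, Cfsg.Agent.KO6bb9c8c.e22, Cfsg.Agent.KO6bb9c8c.e46, Cfsg.Agent.KO6bb9c8c.e24, Cfsg.Agent.KO6bb9c8c.e47.{0}, Cfsg.Agent.KO6bb9c8c.e48.{1}, Cfsg.Agent.KO6bb9c8c.e50, Cfsg.Agent.KO6bb9c8c.e51, Cfsg.Agent.KO6bb9c8c.e8]; decide +kernel) | decide +kernel)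
theorem chkW3 : W3.all (chkW A3) = true := by
  delta chkW; rw [Cfsg.Agent.LeechMat.Quick.mat_eq]; (first | (rewrite [Cfsg.Agent.KO6bb9c8c.e1.{0}, Cfsg.Agent.KO6bb9c8c.e2, Cfsg.Agent.KO6bb9c8c.e6, Cfsg.Agent.KO6bb9c8c.e9, Cfsg.Agent.KO6bb9c8c.e44, Cfsg.Agent.KO6bb9c8c.e45, Cfsg.Agent.KO6bb9c8c.e22, Cfsg.Agent.KO6bb9c8c.e46, Cfsg.Agent.KO6bb9c8c.e24, Cfsg.Agent.KO6bb9c8c.e47.{0}, Cfsg.Agent.KO6bb9c8c.e48.{1}, Cfsg.Agent.KO6bb9c8c.e50, Cfsg.Agent.KO6bb9c8c.e51, Cfsg.Agent.KO6bb9c8c.e8]; decide +kernel) | decide +kernel)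
theorem chkW4 : W4.all (chkW A4) = true := by
  delta chkW; rw [Cfsg.Agent.LeechMat.Quick.mat_eq]; (first | (rewrite [Cfsg.Agent.KO6bb9c8c.e1.{0}, Cfsg.Agent.KO6bb9c8c.e2, Cfsg.Agent.KO6bb9c8c.e6, Cfsg.Agent.KO6bb9c8c.e9, Cfsg.Agent.KO6bb9c8c.e44, Cfsg.Agent.KO6bb9c8c.e45, Cfsg.Agent.KO6bb9c8c.e22, Cfsg.Agent.KO6bb9c8c.e46, Cfsg.Agent.KO6bb9c8c.e24, Cfsg.Agent.KO6bb9c8c.e47.{0}, Cfsg.Agent.KO6bb9c8c.e48.{1}, Cfsg.Agent.KO6bb9c8c.e50, Cfsg.Agent.KO6bb9c8c.e51, Cfsg.Agent.KO6bb9c8c.e8]; decide +kernel) | decide +kernel)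
theorem chkW5 : W5.all (chkW A5) = true := by
  delta chkW; rw [Cfsg.Agent.LeechMat.Quick.mat_eq]; (first | (rewrite [Cfsg.Agent.KO6bb9c8c.e1.{0}, Cfsg.Agent.KO6bb9c8c.e2, Cfsg.Agent.KO6bb9c8c.e6, Cfsg.Agent.KO6bb9c8c.e9, Cfsg.Agent.KO6bb9c8c.e44, Cfsg.Agent.KO6bb9c8c.e45, Cfsg.Agent.KO6bb9c8c.e22, Cfsg.Agent.KO6bb9c8c.e46, Cfsg.Agent.KO6bb9c8c.e24, Cfsg.Agent.KO6bb9c8c.e47.{0}, Cfsg.Agent.KO6bb9c8c.e48.{1}, Cfsg.Agent.KO6bb9c8c.e50, Cfsg.Agent.KO6bb9c8c.e51, Cfsg.Agent.KO6bb9c8c.e8]; decide +kernel) | decide +kernel)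
theorem chkW6 : W6.all (chkW A6) = true := by
  delta chkW; rw [Cfsg.Agent.LeechMat.Quick.mat_eq]; (first | (rewrite [Cfsg.Agent.KO6bb9c8c.e1.{0}, Cfsg.Agent.KO6bb9c8c.e2, Cfsg.Agent.KO6bb9c8c.e6, Cfsg.Agent.KO6bb9c8c.e9, Cfsg.Agent.KO6bb9c8c.e44, Cfsg.Agent.KO6bb9c8c.e45, Cfsg.Agent.KO6bb9c8c.e22, Cfsg.Agent.KO6bb9c8c.e46, Cfsg.Agent.KO6bb9c8c.e24, Cfsg.Agent.KO6bb9c8c.e47.{0}, Cfsg.Agent.KO6bb9c8c.e48.{1}, Cfsg.Agent.KO6bb9c8c.e50, Cfsg.Agent.KO6bb9c8c.e51, Cfsg.Agent.KO6bb9c8c.e8]; decide +kernel) | decide +kernel)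
theorem chkP2 : chkP (perms W2) (invs W2) 1 P2 24 = true := by decide +kernel
theorem chkP3 : chkP (perms W3) (invs W3) 2 P3 24 = true := by decide +kernel
theorem chkP4 : chkP (perms W4) (invs W4) 10 P4 24 = true := by decide +kernel
theorem chkP5 : chkP (perms W5) (invs W5) 10 P5 10 = true := by decide +kernel
theorem chkP6 : chkP (perms W6) (invs W6) 2 P6 24 = true := by decide +kernel

theorem alt2 {t : Co0} (ht : HasMat t A2) : Alt t := alt_of chkW2 (by norm_num) chkP2 ht
theorem alt3 {t : Co0} (ht : HasMat t A3) : Alt t := alt_of chkW3 (by norm_num) chkP3 ht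
theorem alt4 {t : Co0} (ht : HasMat t A4) : Alt t := alt_of chkW4 (by norm_num) chkP4 ht
theorem alt6 {t : Co0} (ht : HasMat t A6) : Alt t := alt_of chkW6 (by norm_num) chkP6 ht

end Cfsg.Agent.H995.Co1T
end

-- part: H995/Co1T/Alt5
section
/-!
# The involution `t5`
-/

set_option autoImplicit false

namespace Cfsg.Agent.H995.Co1T

open Cfsg
open Cfsg.Agent.SporadicA.Co0Mono
open Cfsg.Agent.H995.Co1F
open Cfsg.Agent.SporadicA.GolayBase (isCode idx pt word word_apply idx_lt pt_idx idx_pt)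
open Cfsg.Agent.SporadicA.GolayPerm (papp pimg pcomp permOf permOf_apply testBit_pimg_papp idx_permOf)
open Cfsg.Agent.SporadicStructure.M24El
open Cfsg.Agent.MonsterX.FrameStab (FixesFrame)
open Cfsg.Agent.SporadicStructure.Co0Base (e8 e8_coe co0_ext_e8 eight_mul_co0)
open Cfsg.Agent.LeechMat.Elements (vec checkMat sdig)
open Cfsg.Agent.LeechMat.Code (pos)
open Cfsg.Agent.LeechMat.Elements (allTo allTo_iff)

/-- the dodecad -/
def dd5 : ℕ := 340831

/-- the signs -/
def eps (i : ℕ) : ℤ := if dd5.testBit i then -1 else 1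

/-- the check of the anticommutator -/
def chkR (B : List ℕ) : Bool :=
  allTo (fun i => allTo (fun j => (eps i + eps j) * sdig (B.getD i 0) j == if Nat.beq i j then 8 else 0) 24) 24

/-- the words lead to all the points, with the images given by `w` -/
def chkM (W V : List ℕ) (p0 : ℕ) (M : List (List ℕ)) (w : ℕ) : Bool :=
  (List.range 24).all fun x => Nat.beq (run W V (M.getD x []) (p0, p0)).1 x &&
    Nat.beq (run W V (M.getD x []) (p0, p0)).2 (papp w x)

theorem of_chkM {W V : List ℕ} {p0 : ℕ} {M : List (List ℕ)} {w : ℕ} (h : chkM W V p0 M w = true) (hp : p0 < 24)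
    (hw : ok w = true) (hW : ∀ P ∈ W, ok P = true) (hV : ∀ P ∈ V, ok P = true) {m : M24}
    (hm : ∀ (j : ℕ) (p : GolayPt), m • (el (W.getD j idP) • p) = el (V.getD j idP) • (m • p))
    (h0 : idx (m • pt p0) = p0) : m = el w := by
  have h1 : ∀ p : GolayPt, m • p = el w • p := by
    intro p
    have h2 := List.all_eq_true.1 h (idx p) (List.mem_range.2 (idx_lt _))
    rw [Bool.and_eq_true] at h2
    have h3 := run_spec hW hV hm (M.getD (idx p) []) (p0, p0) hp h0.symm
    have h4 := h3.2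
    rw [Nat.eq_of_beq_eq_true h2.1, Nat.eq_of_beq_eq_true h2.2, pt_idx] at h4
    have h5 := idx_el_smul hw p
    exact Cfsg.Agent.SporadicA.GolayBase.idx_injective (by rw [h5, ← h4])
  apply Subtype.ext
  apply Equiv.ext
  intro p
  exact h1 p

theorem chkR5 : chkR w5.B = true := by decide +kernel
theorem chkw5 : chkW A5 w5 = true := by
  delta chkW; rw [Cfsg.Agent.LeechMat.Quick.mat_eq]; decide +kernel
theorem chkM5 : chkM (perms W5) (invs W5) 10 M5 w5.w = true := by decide +kernel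
theorem isCode5 : isCode dd5 = true := by decide +kernel
theorem okw5 : ok w5.w = true := by decide +kernel

theorem alt5 {t : Co0} (ht : HasMat t A5) : Alt t := by
  intro m hm
  by_cases h : ∀ q ∈ W5, ((el q.w)⁻¹ * m) * ((el q.w)⁻¹ * m) = 1
  · right
    obtain ⟨h1, h2, h3⟩ := inverts chkW5 hm h
    have h4 := of_chkP chkP5 (by norm_num) h1 h2 h3
    have h5 : m = el w5.w := of_chkM chkM5 (by norm_num) okw5 h1 h2 h3 h4
    subst h5
    obtain ⟨c, hc, hB⟩ := of_chkW chkw5 ht
    refine ⟨c, signCo0 ⟨word dd5, word_mem isCode5⟩, hc, signCo0_mul_self _, fun v => ?_⟩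
    set s : Co0 := t * (signCo0 c * permCo0 (el w5.w)) with hs
    have hmat : ∀ i j : GolayPt, ((s • e8 i : leechLattice) : GolayPt → ℤ) j = sdig (w5.B.getD (idx i) 0) (idx j) := by
      intro i j
      rw [hB i (e8 i) (e8_coe i), Cfsg.Agent.LeechMat.Elements.vec_apply, pos_eq_idx, pos_eq_idx]
    have hr := chkR5
    unfold chkR at hr
    rw [allTo_iff] at hr
    have hrel : ∀ i j : GolayPt, (eps (idx i) + eps (idx j)) * ((s • e8 i : leechLattice) : GolayPt → ℤ) j =
        if i = j then 8 else 0 := by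
      intro i j
      have h6 := hr (idx i) (idx_lt i)
      rw [allTo_iff] at h6
      have h7 := h6 (idx j) (idx_lt j)
      rw [beq_iff_eq] at h7
      rw [hmat, h7]
      by_cases hij : i = j
      · rw [if_pos hij, hij, Nat.beq_refl, if_pos rfl]
      · rw [if_neg hij, if_neg]
        intro h8
        exact hij (Cfsg.Agent.SporadicA.GolayBase.idx_injective (Nat.eq_of_beq_eq_true h8))
    have heps : ∀ i : GolayPt, sgn (word dd5 i) = eps (idx i) := by
      intro i
      rw [word_apply]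
      unfold eps
      by_cases hb : dd5.testBit (idx i) = true
      · rw [if_pos hb, if_pos hb]; exact sgn_one
      · rw [if_neg hb, if_neg hb]; exact sgn_zero
    apply Subtype.ext
    funext j
    rw [AddSubgroup.coe_add, Pi.add_apply]
    have e1 := eight_mul_co0 s (signCo0 ⟨word dd5, word_mem isCode5⟩ • v) j
    have e2 := eight_mul_co0 s v j
    have e3 : ((signCo0 ⟨word dd5, word_mem isCode5⟩ • (s • v) : leechLattice) : GolayPt → ℤ) j =
        eps (idx j) * ((s • v : leechLattice) : GolayPt → ℤ) j := by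
      rw [signCo0_smul, signMap_apply]
      show sgn (word dd5 j) * _ = _
      rw [heps]
    have e4 : ∀ i, ((signCo0 ⟨word dd5, word_mem isCode5⟩ • v : leechLattice) : GolayPt → ℤ) i =
        eps (idx i) * (v : GolayPt → ℤ) i := by
      intro i
      rw [signCo0_smul, signMap_apply]
      show sgn (word dd5 i) * _ = _
      rw [heps]
    rw [e3]
    have e5 : 8 * (((s • (signCo0 ⟨word dd5, word_mem isCode5⟩ • v) : leechLattice) : GolayPt → ℤ) j +
        eps (idx j) * ((s • v : leechLattice) : GolayPt → ℤ) j) = 8 * (v : GolayPt → ℤ) j := by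
      have e6 : 8 * (((s • (signCo0 ⟨word dd5, word_mem isCode5⟩ • v) : leechLattice) : GolayPt → ℤ) j +
        eps (idx j) * ((s • v : leechLattice) : GolayPt → ℤ) j) =
        8 * ((s • (signCo0 ⟨word dd5, word_mem isCode5⟩ • v) : leechLattice) : GolayPt → ℤ) j +
        eps (idx j) * (8 * ((s • v : leechLattice) : GolayPt → ℤ) j) := by ring
      rw [e6, e1, e2, Finset.mul_sum, ← Finset.sum_add_distrib]
      have e7 : ∀ i, ((signCo0 ⟨word dd5, word_mem isCode5⟩ • v : leechLattice) : GolayPt → ℤ) i *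
          ((s • e8 i : leechLattice) : GolayPt → ℤ) j +
          eps (idx j) * ((v : GolayPt → ℤ) i * ((s • e8 i : leechLattice) : GolayPt → ℤ) j) =
          if i = j then 8 * (v : GolayPt → ℤ) j else 0 := by
        intro i
        rw [e4]
        have e8' : eps (idx i) * (v : GolayPt → ℤ) i * ((s • e8 i : leechLattice) : GolayPt → ℤ) j +
          eps (idx j) * ((v : GolayPt → ℤ) i * ((s • e8 i : leechLattice) : GolayPt → ℤ) j) =
          (v : GolayPt → ℤ) i * ((eps (idx i) + eps (idx j)) * ((s • e8 i : leechLattice) : GolayPt → ℤ) j) := by ring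
        rw [e8', hrel]
        by_cases hij : i = j
        · rw [if_pos hij, if_pos hij, hij]; ring
        · rw [if_neg hij, if_neg hij, mul_zero]
      rw [Finset.sum_congr rfl fun i _ => e7 i, Finset.sum_ite_eq' Finset.univ j, if_pos (Finset.mem_univ j)]
    omega
  · left
    push Not at h
    obtain ⟨q, hq, hne⟩ := h
    obtain ⟨c, hc, -⟩ := of_chkW (List.all_eq_true.1 chkW5 q hq) ht
    exact ⟨c, el q.w, hc, hne⟩

end Cfsg.Agent.H995.Co1T
end

-- part: H995/Co1T/Std
section
/-!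
# The vectors of the standard shapes are good (with good involutions)
-/

set_option autoImplicit false

namespace Cfsg.Agent.H995.Co1T

open Cfsg
open Cfsg.Agent.SporadicA.Co0Mono
open Cfsg.Agent.MonsterX.FrameStab (FixesFrame fixesFrame_one fixesFrame_mul fixesFrame_inv)
open Cfsg.Agent.SporadicStructure.Co0Base (e8 e8_coe)
open Cfsg.Agent.Leech.Code Cfsg.Agent.Leech.Basic
open Cfsg.Agent.SporadicA.GolayBase (fin mem_fin enc)
open Cfsg.Agent.LeechMat.Elements (vec checkMat)
open Cfsg.Agent.LeechMat.Code (pos)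
open Cfsg.Agent.H995.Co1F
open scoped Pointwise

/-- the involutions which are used -/
def Tp (t : Co0) : Prop := t * t = 1 ∧ (FixesFrame t ∨ Alt t)

/-- `v` is congruent, up to `N`, to the image of some `8 e_j` under an involution which is used -/
def Good (v : leechLattice) : Prop :=
  ∃ n : Co0, FixesFrame n ∧ ∃ t : Co0, Tp t ∧ ∃ j, Cong (n • v) (t • e8 j)

theorem Good.of_cong {v w : leechLattice} (h : Cong v w) (hw : Good w) : Good v := by
  obtain ⟨n, hn, t, ht, j, hj⟩ := hw
  exact ⟨n, hn, t, ht, j, (h.smul n).trans hj⟩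

theorem Good.of_smul {v : leechLattice} {n : Co0} (hn : FixesFrame n) (hw : Good (n • v)) : Good v := by
  obtain ⟨m, hm, t, ht, j, hj⟩ := hw
  exact ⟨m * n, fixesFrame_mul hm hn, t, ht, j, by rwa [mul_smul]⟩

theorem Good.of_eq {v : leechLattice} {t : Co0} (ht : Tp t) {j : GolayPt} (h : v = t • e8 j) : Good v :=
  ⟨1, fixesFrame_one, t, ht, j, by rw [one_smul, h]; exact Cong.refl _⟩

theorem good_e8 (i : GolayPt) : Good (e8 i) :=
  Good.of_eq (t := 1) ⟨one_mul 1, Or.inl fixesFrame_one⟩ (j := i) (by rw [one_smul])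

/-- **The double coset step.** -/
theorem step (hA : ∀ v : leechLattice, sqNorm (v : GolayPt → ℤ) = 64 → Good v) (g : Co0) :
    ∃ u t h : Co0, Tp t ∧ FixesFrame u ∧ FixesFrame h ∧ u * g * u⁻¹ = t * h := by
  obtain ⟨n, hn, t, ht, j, hj⟩ := hA (g • e8 none) (by
    rw [sqNorm_smul, ← v0_eq]
    exact Cfsg.Agent.SporadicA.Co0Card.sqNorm_v0)
  have h1 : FixesFrame (t * n * g) := by
    rw [fixes_iff_cong, mul_smul, mul_smul]
    have h2 := hj.smul t
    rw [← mul_smul t t, ht.1, one_smul] at h2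
    exact h2.trans (cong_e8 _ _)
  refine ⟨n, t, t * n * g * n⁻¹, ht, hn, fixesFrame_mul h1 (fixesFrame_inv hn), ?_⟩
  have : t * (t * n * g * n⁻¹) = (t * t) * (n * g * n⁻¹) := by group
  rw [this, ht.1, one_mul]

/-! ### the standard shapes -/

/-- The final step for an even shape: `P` is the pattern of absolute values. -/
theorem finish {v : leechLattice} {P : GolayPt → ℤ}
    (hv : ∀ i, (v : GolayPt → ℤ) i = P i ∨ (v : GolayPt → ℤ) i = -P i) {g : Equiv.Perm GolayPt} (hg : g ∈ M24)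
    {A ys : List ℕ} (hA : checkMat 8 A ys = true) (hs : symm A = true)
    (halt : ∀ t : Co0, HasMat t A → Alt t) {R : ℕ} (j : GolayPt)
    (hR : A.getD (pos j) 0 = R) (hP : ∀ i, vec R i = P (g.symm i) ∨ vec R i = -P (g.symm i))
    (X W : ℕ) (hX : ∀ i, i ∉ fin X → vec R i = 0)
    (hW : ∀ i, (i ∈ fin W → vec R i % 4 = 2) ∧ (i ∉ fin W → vec R i % 4 = 0)) (hin : chkIn X W = true) : Good v := by
  obtain ⟨t, ht, htR⟩ := exists_invol hA hs
  have hr : ((t • e8 j : leechLattice) : GolayPt → ℤ) = vec R := by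
    rw [htR j (e8 j) (e8_coe j), hR]
  apply Good.of_smul (fixes_perm ⟨g, hg⟩)
  have hw : ∀ i, ((permCo0 ⟨g, hg⟩ • v : leechLattice) : GolayPt → ℤ) i = ((t • e8 j : leechLattice) : GolayPt → ℤ) i ∨
      ((permCo0 ⟨g, hg⟩ • v : leechLattice) : GolayPt → ℤ) i = -((t • e8 j : leechLattice) : GolayPt → ℤ) i := by
    intro i
    rw [permCo0_smul, permMap_apply, hr]
    show (v : GolayPt → ℤ) (g.symm i) = _ ∨ (v : GolayPt → ℤ) (g.symm i) = _
    rcases hv (g.symm i) with h1 | h1 <;> rcases hP i with h2 | h2 <;> rw [h1, h2]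
    · left; rfl
    · right; rw [neg_neg]
    · right; rfl
    · left; rfl
  have hev : vec R none % 2 = 0 := by
    rcases em (none ∈ fin W) with h1 | h1
    · have := (hW none).1 h1; omega
    · have := (hW none).2 h1; omega
  obtain ⟨c, hc⟩ := sign_fix (v := permCo0 ⟨g, hg⟩ • v) (r := t • e8 j)
    (isLeech_zero_of (permCo0 ⟨g, hg⟩ • v).2 (i := none) (by
      rcases hw none with h1 | h1 <;> rw [h1, hr] <;> omega))
    (isLeech_zero_of (t • e8 j).2 (i := none) (by rw [hr]; exact hev)) (X := fin X) (W := fin W)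
    (fun i hi => by rw [hr]; exact hX i hi) (fun i => by rw [hr]; exact hW i)
    (fun d hd hdX => words_in hin hd hdX) hw
  exact Good.of_smul (fixes_sign c) (Good.of_eq ⟨ht, Or.inr (halt t htR)⟩ hc)

/-- `(4^4, 0^20)` -/
theorem good_four {v : leechLattice} {T : Finset GolayPt} (hT : T.card = 4)
    (h1 : ∀ i ∈ T, (v : GolayPt → ℤ) i = 4 ∨ (v : GolayPt → ℤ) i = -4)
    (h0 : ∀ i, i ∉ T → (v : GolayPt → ℤ) i = 0) : Good v := by
  obtain ⟨g, hg, hgT⟩ := four_set hT (T' := fin 15) (card_fin_eq (by norm_num) (by decide +kernel))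
  have hmem : ∀ i, g.symm i ∈ T ↔ i ∈ fin 15 := by
    intro i
    rw [← hgT, ← Finset.inv_smul_mem_iff]
    rfl
  refine finish (P := fun i => if i ∈ T then 4 else 0) (fun i => ?_) hg chk2 sym2 (fun _ h => alt2 h) (some 2) getD2 (fun i => ?_)
    15 0 (by decide +kernel) (by decide +kernel) (by decide +kernel)
  · by_cases hi : i ∈ T
    · simp only [if_pos hi]; exact h1 i hi
    · simp only [if_neg hi]; left; exact h0 i hi
  · have h2 : ∀ i, vec R2 i = if i ∈ fin 15 then 4 else 0 := by decide +kernel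
    left
    rw [h2 i]
    by_cases hi : i ∈ fin 15
    · rw [if_pos hi, if_pos ((hmem i).2 hi)]
    · rw [if_neg hi, if_neg (fun h => hi ((hmem i).1 h))]

/-- `(6, 2^7, 0^16)` -/
theorem good_six {v : leechLattice} {O : Finset GolayPt} (hO : O ∈ octads) {p : GolayPt} (hp : p ∈ O)
    (h6 : (v : GolayPt → ℤ) p = 6 ∨ (v : GolayPt → ℤ) p = -6)
    (h2 : ∀ i ∈ O, i ≠ p → (v : GolayPt → ℤ) i = 2 ∨ (v : GolayPt → ℤ) i = -2)
    (h0 : ∀ i, i ∉ O → (v : GolayPt → ℤ) i = 0) : Good v := by
  obtain ⟨g, hg, hgO, hgp⟩ := octad_flag hO o0_mem hp (p' := some 0) (by decide +kernel)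
  have hmem : ∀ i, g.symm i ∈ O ↔ i ∈ fin o0 := by
    intro i
    rw [← hgO, ← Finset.inv_smul_mem_iff]
    rfl
  have hpt : ∀ i, g.symm i = p ↔ i = some 0 := by
    intro i
    rw [Equiv.symm_apply_eq, hgp]
  refine finish (P := fun i => if i = p then 6 else if i ∈ O then 2 else 0) (fun i => ?_) hg chk3 sym3 (fun _ h => alt3 h) none getD3
    (fun i => ?_) o0 o0 (by decide +kernel) (by decide +kernel) (by decide +kernel)
  · by_cases hi : i = p
    · simp only [if_pos hi]; rw [hi]; exact h6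
    · simp only [if_neg hi]
      by_cases hi' : i ∈ O
      · simp only [if_pos hi']; exact h2 i hi' hi
      · simp only [if_neg hi']; left; exact h0 i hi'
  · have h3 : ∀ i, vec R3 i = if i = some 0 then -6 else if i ∈ fin o0 then 2 else 0 := by decide +kernel
    rw [h3 i]
    by_cases hi : i = some 0
    · right
      rw [if_pos hi, if_pos ((hpt i).2 hi)]
    · left
      rw [if_neg hi, if_neg (fun h => hi ((hpt i).1 h))]
      by_cases hi' : i ∈ fin o0
      · rw [if_pos hi', if_pos ((hmem i).2 hi')]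
      · rw [if_neg hi', if_neg (fun h => hi' ((hmem i).1 h))]

/-- `(4^2, 2^8, 0^14)` -/
theorem good_eight {v : leechLattice} {O : Finset GolayPt} (hO : O ∈ octads) {p q : GolayPt} (hp : p ∉ O) (hq : q ∉ O)
    (hpq : p ≠ q) (hvp : (v : GolayPt → ℤ) p = 4 ∨ (v : GolayPt → ℤ) p = -4)
    (hvq : (v : GolayPt → ℤ) q = 4 ∨ (v : GolayPt → ℤ) q = -4)
    (h2 : ∀ i ∈ O, (v : GolayPt → ℤ) i = 2 ∨ (v : GolayPt → ℤ) i = -2)
    (h0 : ∀ i, i ∉ O → i ≠ p → i ≠ q → (v : GolayPt → ℤ) i = 0) : Good v := by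
  obtain ⟨g, hg, hgO, hgp, hgq⟩ := octad_pair hO o0_mem hp hq hpq (p' := some 1) (q' := some 2) (by decide +kernel)
    (by decide +kernel) (by decide +kernel)
  have hmem : ∀ i, g.symm i ∈ O ↔ i ∈ fin o0 := by
    intro i
    rw [← hgO, ← Finset.inv_smul_mem_iff]
    rfl
  have hpt : ∀ i, g.symm i = p ↔ i = some 1 := by
    intro i
    rw [Equiv.symm_apply_eq, hgp]
  have hqt : ∀ i, g.symm i = q ↔ i = some 2 := by
    intro i
    rw [Equiv.symm_apply_eq, hgq]
  refine finish (P := fun i => if i = p then 4 else if i = q then 4 else if i ∈ O then 2 else 0) (fun i => ?_) hg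
    chk4 sym4 (fun _ h => alt4 h) (some 1) getD4 (fun i => ?_) (o0 + 6) o0 (by decide +kernel) (by decide +kernel) (by decide +kernel)
  · by_cases hi : i = p
    · simp only [if_pos hi]; rw [hi]; exact hvp
    · simp only [if_neg hi]
      by_cases hi1 : i = q
      · simp only [if_pos hi1]; rw [hi1]; exact hvq
      · simp only [if_neg hi1]
        by_cases hi' : i ∈ O
        · simp only [if_pos hi']; exact h2 i hi'
        · simp only [if_neg hi']; left; exact h0 i hi' hi hi1
  · have h3 : ∀ i, vec R4 i = if i = some 1 then 4 else if i = some 2 then 4 else if i ∈ fin o0 then 2 else 0 := by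
      decide +kernel
    left
    rw [h3 i]
    by_cases hi : i = some 1
    · rw [if_pos hi, if_pos ((hpt i).2 hi)]
    · rw [if_neg hi, if_neg (fun h => hi ((hpt i).1 h))]
      by_cases hi1 : i = some 2
      · rw [if_pos hi1, if_pos ((hqt i).2 hi1)]
      · rw [if_neg hi1, if_neg (fun h => hi1 ((hqt i).1 h))]
        by_cases hi' : i ∈ fin o0
        · rw [if_pos hi', if_pos ((hmem i).2 hi')]
        · rw [if_neg hi', if_neg (fun h => hi' ((hmem i).1 h))]

/-- `(4, 2^12, 0^11)` -/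
theorem good_twelve {v : leechLattice} {D : Finset GolayPt} (hD : D ∈ dodecads) {p : GolayPt} (hp : p ∉ D)
    (hvp : (v : GolayPt → ℤ) p = 4 ∨ (v : GolayPt → ℤ) p = -4)
    (h2 : ∀ i ∈ D, (v : GolayPt → ℤ) i = 2 ∨ (v : GolayPt → ℤ) i = -2)
    (h0 : ∀ i, i ∉ D → i ≠ p → (v : GolayPt → ℤ) i = 0) : Good v := by
  obtain ⟨g, hg, hgO, hgp⟩ := dodecad_out hD d0_mem hp (p' := none) (by decide +kernel)
  have hmem : ∀ i, g.symm i ∈ D ↔ i ∈ fin d0 := by
    intro i
    rw [← hgO, ← Finset.inv_smul_mem_iff]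
    rfl
  have hpt : ∀ i, g.symm i = p ↔ i = none := by
    intro i
    rw [Equiv.symm_apply_eq, hgp]
  refine finish (P := fun i => if i = p then 4 else if i ∈ D then 2 else 0) (fun i => ?_) hg
    chk5 sym5 (fun _ h => alt5 h) none getD5 (fun i => ?_) (d0 + 2 ^ 23) d0 (by decide +kernel) (by decide +kernel) (by decide +kernel)
  · by_cases hi : i = p
    · simp only [if_pos hi]; rw [hi]; exact hvp
    · simp only [if_neg hi]
      by_cases hi' : i ∈ D
      · simp only [if_pos hi']; exact h2 i hi'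
      · simp only [if_neg hi']; left; exact h0 i hi' hi
  · have h3 : ∀ i, vec R5 i = if i = none then 4 else if i = some 0 then -2 else if i ∈ fin d0 then 2 else 0 := by
      decide +kernel
    rw [h3 i]
    by_cases hi : i = none
    · left
      rw [if_pos hi, if_pos ((hpt i).2 hi)]
    · rw [if_neg hi, if_neg (fun h => hi ((hpt i).1 h))]
      by_cases hi1 : i = some 0
      · right
        have h5 : i ∈ fin d0 := by rw [hi1]; decide +kernel
        rw [if_pos hi1, if_pos ((hmem i).2 h5)]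
      · left
        rw [if_neg hi1]
        by_cases hi' : i ∈ fin d0
        · rw [if_pos hi', if_pos ((hmem i).2 hi')]
        · rw [if_neg hi', if_neg (fun h => hi' ((hmem i).1 h))]

/-- `(5, (-3)^2, 1^21)` -/
theorem good_odd {v : leechLattice} {p q r : GolayPt} (hpq : p ≠ q) (hpr : p ≠ r) (hqr : q ≠ r)
    (hp : (v : GolayPt → ℤ) p = 5) (hq : (v : GolayPt → ℤ) q = -3) (hr : (v : GolayPt → ℤ) r = -3)
    (h1 : ∀ i, i ≠ p → i ≠ q → i ≠ r → (v : GolayPt → ℤ) i = 1) : Good v := by
  obtain ⟨g, hg, hgp, hgq, hgr⟩ := three_map hpq hpr hqr (p' := none) (q' := some 0) (r' := some 1) (by decide +kernel)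
    (by decide +kernel) (by decide +kernel)
  obtain ⟨t, ht, htR⟩ := exists_invol chk6 sym6
  apply Good.of_smul (fixes_perm ⟨g, hg⟩)
  apply Good.of_eq ⟨ht, Or.inr (alt6 htR)⟩ (j := some 1)
  apply Subtype.ext
  funext i
  rw [htR (some 1) _ (e8_coe (some 1)), show A6.getD (pos (some 1)) 0 = R6 from getD6]
  have h3 : ∀ i, vec R6 i = if i = none then 5 else if i = some 0 then -3 else if i = some 1 then -3 else 1 := by
    decide +kernel
  rw [permCo0_smul, permMap_apply, h3 i]
  show (v : GolayPt → ℤ) (g.symm i) = _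
  by_cases hi : i = none
  · rw [if_pos hi, hi, show g.symm none = p by rw [Equiv.symm_apply_eq, hgp], hp]
  · rw [if_neg hi]
    by_cases hi1 : i = some 0
    · rw [if_pos hi1, hi1, show g.symm (some 0) = q by rw [Equiv.symm_apply_eq, hgq], hq]
    · rw [if_neg hi1]
      by_cases hi2 : i = some 1
      · rw [if_pos hi2, hi2, show g.symm (some 1) = r by rw [Equiv.symm_apply_eq, hgr], hr]
      · rw [if_neg hi2]
        apply h1
        · rw [Ne, Equiv.symm_apply_eq, hgp]; exact hi
        · rw [Ne, Equiv.symm_apply_eq, hgq]; exact hi1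
        · rw [Ne, Equiv.symm_apply_eq, hgr]; exact hi2

end Cfsg.Agent.H995.Co1T
end

-- part: H995/Co1T/Shapes
section
/-!
# All the vectors of norm 64 are good
-/

set_option autoImplicit false

namespace Cfsg.Agent.H995.Co1T

open Cfsg
open Cfsg.Agent.SporadicA.Co0Mono
open Cfsg.Agent.SporadicStructure.Co0Base (e8 e8_coe minus3_mem)
open Cfsg.Agent.Leech.Code Cfsg.Agent.Leech.Basic
open Cfsg.Agent.SporadicA.GolayBase (card_symmDiff_add card_of_mem_supports)
open Cfsg.Agent.H995.Co1F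

/-- `(-3, 1^23)` -/
def lam (o : GolayPt) : leechLattice := ⟨_, minus3_mem o⟩

theorem lam_self (o : GolayPt) : (lam o : GolayPt → ℤ) o = -3 := if_pos rfl

theorem lam_ne {o i : GolayPt} (h : i ≠ o) : (lam o : GolayPt → ℤ) i = 1 := if_neg h

/-- the sign change at a word -/
theorem exists_sign {c : Finset GolayPt} (hc : c ∈ Words) : ∃ s : Co0, Cfsg.Agent.MonsterX.FrameStab.FixesFrame s ∧
    ∀ (v : leechLattice) (i : GolayPt), ((s • v : leechLattice) : GolayPt → ℤ) i =
      if i ∈ c then -(v : GolayPt → ℤ) i else (v : GolayPt → ℤ) i := by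
  refine ⟨signCo0 ⟨ind c, (mem_words_iff c).1 hc⟩, fixes_sign _, fun v i => ?_⟩
  rw [signCo0_smul, signMap_apply]
  show sgn (ind c i) * _ = _
  rw [ind_apply]
  by_cases hi : i ∈ c
  · rw [if_pos hi, if_pos hi, sgn_one, neg_one_mul]
  · rw [if_neg hi, if_neg hi, sgn_zero, one_mul]

/-! ### even subsets of a 16-set -/

theorem reduce16 {A : Finset GolayPt} (hA : A ∈ Words) (hA16 : A.card = 16) : ∀ (n : ℕ) (N : Finset GolayPt), N ⊆ A →
    N.card = n → Even n → ∃ c ∈ Words, (symmDiff N (c ∩ A)).card ≤ 2 := by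
  intro n
  induction n using Nat.strong_induction_on with
  | _ n ih =>
    intro N hNA hN hn
    by_cases h2 : n ≤ 2
    · refine ⟨∅, empty_mem, ?_⟩
      rw [Finset.empty_inter]
      have : symmDiff N ∅ = N := symmDiff_bot N
      rw [this, hN]; exact h2
    · have h4 : 4 ≤ n := by
        rw [Nat.even_iff] at hn
        omega
      obtain ⟨T, hTN, hT⟩ := Finset.exists_subset_card_eq (s := N) (n := 4) (by omega)
      have hOc : Aᶜ.card = 8 := by rw [Finset.card_compl, card_golayPt, hA16]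
      obtain ⟨o, ho⟩ : (Aᶜ).Nonempty := by rw [← Finset.card_pos, hOc]; norm_num
      have hoA : o ∉ A := Finset.mem_compl.1 ho
      have hoT : o ∉ T := fun h => hoA (hNA (hTN h))
      have h5 : (insert o T).card = 5 := by rw [Finset.card_insert_of_notMem hoT, hT]
      obtain ⟨b, ⟨hb, hsub⟩, -⟩ := steiner.2 _ h5
      have hb8 : b.card = 8 := hb.2
      have hbW : b ∈ Words := hb.1
      have hTb : T ⊆ b := fun x hx => hsub (Finset.mem_insert_of_mem hx)
      have hob : o ∈ b := hsub (Finset.mem_insert_self o T)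
      have hTA : T ⊆ b ∩ A := fun x hx => Finset.mem_inter.2 ⟨hTb hx, hNA (hTN hx)⟩
      have hev := even_inter hbW hA
      have hlt : (b ∩ A).card < 8 := by
        rw [← hb8]
        apply Finset.card_lt_card
        refine ⟨Finset.inter_subset_left, fun h => hoA (Finset.mem_inter.1 (h hob)).2⟩
      have hNb : 4 ≤ (N ∩ (b ∩ A)).card := by
        rw [← hT]
        exact Finset.card_le_card fun x hx => Finset.mem_inter.2 ⟨hTN hx, hTA hx⟩
      have hs := card_symmDiff_add N (b ∩ A)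
      rw [Nat.even_iff] at hev hn
      obtain ⟨c, hc, hc2⟩ := ih (symmDiff N (b ∩ A)).card (by omega) (symmDiff N (b ∩ A))
        (fun x hx => by
          rw [Finset.mem_symmDiff] at hx
          rcases hx with ⟨h, -⟩ | ⟨h, -⟩
          · exact hNA h
          · exact (Finset.mem_inter.1 h).2) rfl (by rw [Nat.even_iff]; omega)
      refine ⟨symmDiff b c, symmDiff_mem hbW hc, ?_⟩
      have e : symmDiff N (symmDiff b c ∩ A) = symmDiff (symmDiff N (b ∩ A)) (c ∩ A) :=
        (congrArg _ (inf_symmDiff_distrib_right b c A)).trans (symmDiff_assoc _ _ _).symm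
      rw [e]
      exact hc2

/-- `(2^16, 0^8)` -/
theorem good_sixteen {v : leechLattice} {A : Finset GolayPt} (hA : A ∈ Words) (hA16 : A.card = 16)
    (h2 : ∀ i ∈ A, (v : GolayPt → ℤ) i = 2 ∨ (v : GolayPt → ℤ) i = -2)
    (h0 : ∀ i, i ∉ A → (v : GolayPt → ℤ) i = 0) : Good v := by
  classical
  have hO : Aᶜ ∈ octads := ⟨compl_mem hA, by rw [Finset.card_compl, card_golayPt, hA16]⟩
  have hO8 : Aᶜ.card = 8 := hO.2
  set N : Finset GolayPt := A.filter fun i => (v : GolayPt → ℤ) i = -2 with hN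
  have hNA : N ⊆ A := Finset.filter_subset _ _
  have hsum : ∑ i, (v : GolayPt → ℤ) i = 32 - 4 * N.card := by
    have e : ∀ i, (v : GolayPt → ℤ) i = (if i ∈ A then 2 else 0) - 4 * (if i ∈ N then 1 else 0) := by
      intro i
      by_cases hi : i ∈ A
      · by_cases hi' : (v : GolayPt → ℤ) i = -2
        · rw [if_pos hi, if_pos (Finset.mem_filter.2 ⟨hi, hi'⟩), hi']; norm_num
        · rw [if_pos hi, if_neg (show i ∉ N from fun h => hi' (Finset.mem_filter.1 h).2), (h2 i hi).resolve_right hi']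
          norm_num
      · rw [if_neg hi, if_neg (show i ∉ N from fun h => hi (Finset.mem_filter.1 h).1), h0 i hi]; norm_num
    rw [Finset.sum_congr rfl fun i _ => e i, Finset.sum_sub_distrib, ← Finset.mul_sum, Finset.sum_ite_mem,
      Finset.sum_ite_mem, Finset.univ_inter, Finset.univ_inter, Finset.sum_const, Finset.sum_const, hA16]
    simp
  obtain ⟨o, ho⟩ : (Aᶜ).Nonempty := by rw [← Finset.card_pos, hO8]; norm_num
  have hoA : o ∉ A := Finset.mem_compl.1 ho
  have hL := (isLeech_zero_of v.2 (i := o) (by rw [h0 o hoA]; rfl)).sum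
  rw [hsum] at hL
  have hNe : Even N.card := by
    rw [Nat.even_iff]
    unfold Int.ModEq at hL
    omega
  obtain ⟨c, hc, hc2⟩ := reduce16 hA hA16 N.card N hNA rfl hNe
  set M := symmDiff N (c ∩ A) with hM
  have hMe : Even M.card := by
    have h3 := card_symmDiff_add N (c ∩ A)
    have h4 := even_inter hc hA
    rw [← hM] at h3
    rw [Nat.even_iff] at h4 hNe ⊢
    omega
  obtain ⟨s, hs, hs'⟩ := exists_sign hc
  apply Good.of_smul hs
  have hw1 : ∀ i ∈ M, ((s • v : leechLattice) : GolayPt → ℤ) i = -2 := by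
    intro i hi
    rw [hs']
    rw [hM, Finset.mem_symmDiff, Finset.mem_inter] at hi
    rcases hi with ⟨h3, h4⟩ | ⟨⟨h3, h4⟩, h5⟩
    · have hiA := hNA h3
      rw [if_neg (fun h => h4 ⟨h, hiA⟩)]
      exact (Finset.mem_filter.1 h3).2
    · rw [if_pos h3, (h2 i h4).resolve_right (fun h => h5 (Finset.mem_filter.2 ⟨h4, h⟩))]
  have hw2 : ∀ i ∈ A, i ∉ M → ((s • v : leechLattice) : GolayPt → ℤ) i = 2 := by
    intro i hi hiM
    rw [hs']
    rw [hM, Finset.mem_symmDiff, Finset.mem_inter] at hiM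
    by_cases h3 : i ∈ c
    · rw [if_pos h3]
      have h4 : i ∈ N := by
        by_contra h
        exact hiM (Or.inr ⟨⟨h3, hi⟩, h⟩)
      rw [(Finset.mem_filter.1 h4).2]; norm_num
    · rw [if_neg h3]
      have h4 : i ∉ N := fun h => hiM (Or.inl ⟨h, fun h' => h3 h'.1⟩)
      exact (h2 i hi).resolve_right (fun h => h4 (Finset.mem_filter.2 ⟨hi, h⟩))
  have hw0 : ∀ i, i ∉ A → ((s • v : leechLattice) : GolayPt → ℤ) i = 0 := by
    intro i hi
    rw [hs', h0 i hi]
    simp
  have hMA : M ⊆ A := by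
    intro i hi
    rw [hM, Finset.mem_symmDiff, Finset.mem_inter] at hi
    rcases hi with ⟨h3, h4⟩ | ⟨⟨h3, h4⟩, h5⟩
    · exact hNA h3
    · exact h4
  generalize s • v = w at hw0 hw1 hw2 ⊢
  have hcoe : ∀ (l : leechLattice) (i : GolayPt), ((w - 2 • l : leechLattice) : GolayPt → ℤ) i =
      (w : GolayPt → ℤ) i - 2 * (l : GolayPt → ℤ) i := by
    intro l i
    rw [two_smul, AddSubgroup.coe_sub, AddSubgroup.coe_add, Pi.sub_apply, Pi.add_apply]
    ring
  have hcong : ∀ l : leechLattice, Cong w (w - 2 • l) := fun l => ⟨l, by abel⟩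
  have hM02 : M.card = 0 ∨ M.card = 2 := by
    rw [Nat.even_iff] at hMe
    omega
  rcases hM02 with hM0 | hM2
  · have hM0' : M = ∅ := Finset.card_eq_zero.1 hM0
    refine Good.of_cong (hcong (lam o)) (good_six (v := w - 2 • lam o) hO ho ?_ ?_ ?_)
    · left
      rw [hcoe, lam_self, hw0 o hoA]; norm_num
    · intro i hi hio
      right
      rw [hcoe, lam_ne hio, hw0 i (Finset.mem_compl.1 hi)]; norm_num
    · intro i hi
      have hiA : i ∈ A := by
        by_contra h
        exact hi (Finset.mem_compl.2 h)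
      rw [hcoe, lam_ne (show i ≠ o from fun h => hoA (h ▸ hiA)), hw2 i hiA (by rw [hM0']; simp)]; norm_num
  · obtain ⟨p, q, hpq, hMpq⟩ := Finset.card_eq_two.1 hM2
    have hp : p ∈ M := by rw [hMpq]; simp
    have hq : q ∈ M := by rw [hMpq]; simp
    have hpA := hMA hp
    have hqA := hMA hq
    have hmem : ∀ i, i ∈ M ↔ i = p ∨ i = q := fun i => by rw [hMpq]; simp
    refine Good.of_cong (hcong (lam p)) (good_eight (v := w - 2 • lam p) hO (p := p) (q := q)
      (fun h => Finset.mem_compl.1 h hpA) (fun h => Finset.mem_compl.1 h hqA) hpq ?_ ?_ ?_ ?_)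
    · left
      rw [hcoe, lam_self, hw1 p hp]; norm_num
    · right
      rw [hcoe, lam_ne (Ne.symm hpq), hw1 q hq]; norm_num
    · intro i hi
      have hiA := Finset.mem_compl.1 hi
      right
      rw [hcoe, lam_ne (show i ≠ p from fun h => hiA (h ▸ hpA)), hw0 i hiA]; norm_num
    · intro i hi hip hiq
      have hiA : i ∈ A := by
        by_contra h
        exact hi (Finset.mem_compl.2 h)
      rw [hcoe, lam_ne hip, hw2 i hiA (fun h => by
        rcases (hmem i).1 h with h | h
        · exact hip h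
        · exact hiq h)]
      norm_num

/-! ### even vectors -/

theorem even_sum {x a : GolayPt → ℤ} {A : Finset GolayPt} (hx : ∀ i, x i = 0 + 2 * chi A i + 4 * a i) :
    sqNorm x = 4 * A.card + 16 * ∑ i, (if i ∈ A then a i * (a i + 1) else a i ^ 2) := by
  have e : sqNorm x = ∑ i, (4 * chi A i + 16 * (if i ∈ A then a i * (a i + 1) else a i ^ 2)) := by
    refine Finset.sum_congr rfl fun i _ => ?_
    rw [hx i]
    unfold chi
    by_cases hi : i ∈ A
    · simp only [if_pos hi]; ring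
    · simp only [if_neg hi]; ring
  rw [e, Finset.sum_add_distrib, ← Finset.mul_sum, ← Finset.mul_sum, sum_chi]

theorem prod_nonneg (a : ℤ) : 0 ≤ a * (a + 1) := by
  rcases le_or_gt 0 a with h | h
  · positivity
  · exact mul_nonneg_of_nonpos_of_nonpos h.le (by omega)

theorem prod_zero {a : ℤ} (h : a * (a + 1) = 0) : a = 0 ∨ a = -1 := by
  rcases mul_eq_zero.1 h with h | h
  · exact Or.inl h
  · right; omega

theorem prod_even (a : ℤ) : a * (a + 1) ≠ 1 := by
  intro h
  have := Int.even_mul_succ_self a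
  rw [h] at this
  exact absurd this (by decide)

theorem prod_two {a : ℤ} (h : a * (a + 1) = 2) : a = 1 ∨ a = -2 := by
  have h1 : (a - 1) * (a + 2) = 0 := by linarith
  rcases mul_eq_zero.1 h1 with h | h
  · left; omega
  · right; omega

theorem sq_ne_two (a : ℤ) : a ^ 2 ≠ 2 := by
  intro h
  have h1 : a ≤ 1 := by nlinarith only [h]
  have h2 : -1 ≤ a := by nlinarith only [h]
  interval_cases a <;> omega

theorem sq_one {a : ℤ} (h : a ^ 2 = 1) : a = 1 ∨ a = -1 :=
  mul_self_eq_one_iff.1 ((sq a).symm.trans h)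

theorem good_even {v : leechLattice} (hv : IsLeech 0 (v : GolayPt → ℤ)) (hn : sqNorm (v : GolayPt → ℤ) = 64) :
    Good v := by
  classical
  obtain ⟨A, hA, a, ha, -⟩ := exists_form hv (Or.inl rfl)
  have hsum0 := even_sum ha
  rw [hn] at hsum0
  obtain ⟨f, hf⟩ : ∃ f : GolayPt → ℤ, f = fun i => if i ∈ A then a i * (a i + 1) else a i ^ 2 := ⟨_, rfl⟩
  have hsum : (64 : ℤ) = 4 * A.card + 16 * ∑ i, f i := by rw [hf]; exact hsum0
  clear hsum0
  have hf0 : ∀ i, 0 ≤ f i := by
    intro i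
    rw [hf]
    by_cases hi : i ∈ A
    · simp only [if_pos hi]; exact prod_nonneg _
    · simp only [if_neg hi]; positivity
  have hfA : ∀ i ∈ A, f i = a i * (a i + 1) := fun i hi => by rw [hf]; exact if_pos hi
  have hfn : ∀ i, i ∉ A → f i = a i ^ 2 := fun i hi => by rw [hf]; exact if_neg hi
  have hvA : ∀ i ∈ A, (v : GolayPt → ℤ) i = 2 + 4 * a i := fun i hi => by rw [ha i, chi_mem hi]; ring
  have hvn : ∀ i, i ∉ A → (v : GolayPt → ℤ) i = 4 * a i := fun i hi => by rw [ha i, chi_not_mem hi]; ring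
  have hA0 : ∀ i ∈ A, f i = 0 → (v : GolayPt → ℤ) i = 2 ∨ (v : GolayPt → ℤ) i = -2 := by
    intro i hi h
    rw [hfA i hi] at h
    rw [hvA i hi]
    rcases prod_zero h with h | h <;> rw [h]
    · left; norm_num
    · right; norm_num
  have hn0 : ∀ i, i ∉ A → f i = 0 → (v : GolayPt → ℤ) i = 0 := by
    intro i hi h
    rw [hfn i hi] at h
    rw [hvn i hi, pow_eq_zero_iff (two_ne_zero) |>.1 h, mul_zero]
  have hn1 : ∀ i, i ∉ A → f i = 1 → (v : GolayPt → ℤ) i = 4 ∨ (v : GolayPt → ℤ) i = -4 := by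
    intro i hi h
    rw [hfn i hi] at h
    rw [hvn i hi]
    rcases sq_one h with h | h <;> rw [h]
    · left; norm_num
    · right; norm_num
  have hother : ∀ (S : ℤ) (p : GolayPt), ∑ i, f i = S → f p = S → ∀ i, i ≠ p → f i = 0 := by
    intro S p hS hp i hi
    have h1 : f p + ∑ i ∈ Finset.univ.erase p, f i = S := by
      rw [Finset.add_sum_erase _ _ (Finset.mem_univ p)]; exact hS
    have h2 : ∑ i ∈ Finset.univ.erase p, f i = 0 := by omega
    rw [Finset.sum_eq_zero_iff_of_nonneg fun i _ => hf0 i] at h2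
    exact h2 i (Finset.mem_erase.2 ⟨hi, Finset.mem_univ i⟩)
  have hS0 : 0 ≤ ∑ i, f i := Finset.sum_nonneg fun i _ => hf0 i
  rcases card_of_mem_supports hA with hc | hc | hc | hc | hc
  · -- no odd half coordinates
    have hS : ∑ i, f i = 4 := by rw [hc] at hsum; push_cast at hsum; omega
    have hAe : A = ∅ := Finset.card_eq_zero.1 hc
    have hnA : ∀ i, i ∉ A := fun i => by rw [hAe]; simp
    by_cases h4 : ∃ p, f p = 4
    · obtain ⟨p, hp⟩ := h4
      have h1 := hother 4 p hS hp
      rw [hfn p (hnA p)] at hp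
      have h2 : a p = 2 ∨ a p = -2 := by
        have : (a p - 2) * (a p + 2) = 0 := by linarith only [hp]
        rcases mul_eq_zero.1 this with h | h
        · left; omega
        · right; omega
      have h3 : v = e8 p ∨ v = -e8 p := by
        rcases h2 with h2 | h2
        · left
          apply Subtype.ext
          rw [e8_coe]
          funext i
          by_cases hi : i = p
          · rw [hi, Pi.single_eq_same, hvn p (hnA p), h2]; norm_num
          · rw [Pi.single_eq_of_ne hi, hn0 i (hnA i) (h1 i hi)]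
        · right
          apply Subtype.ext
          rw [AddSubgroup.coe_neg, e8_coe]
          funext i
          rw [Pi.neg_apply]
          by_cases hi : i = p
          · rw [hi, Pi.single_eq_same, hvn p (hnA p), h2]; norm_num
          · rw [Pi.single_eq_of_ne hi, hn0 i (hnA i) (h1 i hi), neg_zero]
      rcases h3 with h3 | h3
      · rw [h3]; exact good_e8 p
      · rw [h3]; exact Good.of_cong (cong_neg _) (good_e8 p)
    · push Not at h4
      have h01 : ∀ i, f i = 0 ∨ f i = 1 := by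
        intro i
        have h1 := h4 i
        have h2 : f i ≤ 4 := by
          rw [← hS]
          exact Finset.single_le_sum (fun j _ => hf0 j) (Finset.mem_univ i)
        rw [hfn i (hnA i)] at h1 h2 ⊢
        have h3 : a i ≤ 2 := by nlinarith only [h2]
        have h5 : -2 ≤ a i := by nlinarith only [h2]
        generalize a i = b at *
        interval_cases b
        · exact absurd rfl h1
        · right; norm_num
        · left; norm_num
        · right; norm_num
        · exact absurd rfl h1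
      set B := Finset.univ.filter fun i => f i = 1 with hB
      have hBm : ∀ i, i ∈ B ↔ f i = 1 := fun i => by simp [hB]
      have hB4 : B.card = 4 := by
        have e : ∀ i, f i = if i ∈ B then 1 else 0 := by
          intro i
          rcases h01 i with h | h
          · rw [if_neg (fun h' => by rw [(hBm i).1 h'] at h; omega), h]
          · rw [if_pos ((hBm i).2 h), h]
        rw [Finset.sum_congr rfl fun i _ => e i, Finset.sum_ite_mem, Finset.univ_inter, Finset.sum_const] at hS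
        simp at hS
        exact_mod_cast hS
      refine good_four hB4 (fun i hi => hn1 i (hnA i) ((hBm i).1 hi)) (fun i hi => hn0 i (hnA i) ?_)
      rcases h01 i with h | h
      · exact h
      · exact absurd ((hBm i).2 h) hi
  · -- an octad
    have hS : ∑ i, f i = 2 := by rw [hc] at hsum; push_cast at hsum; omega
    have hO : A ∈ octads := ⟨hA, hc⟩
    by_cases h2 : ∃ p, f p = 2
    · obtain ⟨p, hp⟩ := h2
      have h1 := hother 2 p hS hp
      have hpA : p ∈ A := by
        by_contra h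
        rw [hfn p h] at hp
        exact sq_ne_two _ hp
      refine good_six hO hpA ?_ (fun i hi hip => hA0 i hi (h1 i hip)) (fun i hi => hn0 i hi (h1 i ?_))
      · rw [hfA p hpA] at hp
        rw [hvA p hpA]
        rcases prod_two hp with h | h <;> rw [h]
        · left; norm_num
        · right; norm_num
      · rintro rfl
        exact hi hpA
    · push Not at h2
      obtain ⟨p, q, hpq, hp, hq, h0⟩ := exists_of_sum_eq_two hf0 h2 hS
      have hpA : p ∉ A := fun h => prod_even _ ((hfA p h).symm.trans hp)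
      have hqA : q ∉ A := fun h => prod_even _ ((hfA q h).symm.trans hq)
      exact good_eight hO hpA hqA hpq (hn1 p hpA hp) (hn1 q hqA hq)
        (fun i hi => hA0 i hi (h0 i (fun h => hpA (h ▸ hi)) (fun h => hqA (h ▸ hi))))
        (fun i hi hip hiq => hn0 i hi (h0 i hip hiq))
  · -- a dodecad
    have hS : ∑ i, f i = 1 := by rw [hc] at hsum; push_cast at hsum; omega
    obtain ⟨p, hp, h0⟩ := exists_of_sum_eq_one hf0 hS
    have hpA : p ∉ A := fun h => prod_even _ ((hfA p h).symm.trans hp)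
    exact good_twelve ⟨hA, hc⟩ hpA (hn1 p hpA hp) (fun i hi => hA0 i hi (h0 i (fun h => hpA (h ▸ hi))))
      (fun i hi hip => hn0 i hi (h0 i hip))
  · -- a 16-set
    have hS : ∑ i, f i = 0 := by rw [hc] at hsum; push_cast at hsum; omega
    rw [Finset.sum_eq_zero_iff_of_nonneg fun i _ => hf0 i] at hS
    exact good_sixteen hA hc (fun i hi => hA0 i hi (hS i (Finset.mem_univ i)))
      (fun i hi => hn0 i hi (hS i (Finset.mem_univ i)))
  · exfalso
    rw [hc] at hsum
    push_cast at hsum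
    omega

/-! ### odd vectors -/

theorem odd_nonneg (b : ℤ) : 0 ≤ b * (2 * b + 1) := by
  rcases le_or_gt 0 b with h | h
  · positivity
  · exact mul_nonneg_of_nonpos_of_nonpos h.le (by omega)

/-- odd vectors with all coordinates `1` modulo `4` -/
theorem good_one {v : leechLattice} {b : GolayPt → ℤ} (hb : ∀ i, (v : GolayPt → ℤ) i = 1 + 4 * b i)
    (hn : sqNorm (v : GolayPt → ℤ) = 64) : Good v := by
  classical
  obtain ⟨f, hf⟩ : ∃ f : GolayPt → ℤ, f = fun i => b i * (2 * b i + 1) := ⟨_, rfl⟩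
  have hf0 : ∀ i, 0 ≤ f i := fun i => by rw [hf]; exact odd_nonneg _
  have hS : ∑ i, f i = 5 := by
    have e : sqNorm (v : GolayPt → ℤ) = ∑ i, (1 + 8 * f i) := by
      refine Finset.sum_congr rfl fun i _ => ?_
      rw [hb i, hf]
      ring
    rw [hn, Finset.sum_add_distrib, ← Finset.mul_sum, Finset.sum_const, Finset.card_univ, card_golayPt,
      show (24 • (1 : ℤ)) = 24 by norm_num] at e
    omega
  have h3 : ∀ i, b i = 0 ∨ b i = 1 ∨ b i = -1 := by
    intro i
    have h2 : f i ≤ 5 := by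
      rw [← hS]
      exact Finset.single_le_sum (fun j _ => hf0 j) (Finset.mem_univ i)
    rw [hf] at h2
    simp only at h2
    have h4 : b i ≤ 1 := by nlinarith only [h2]
    have h5 : -1 ≤ b i := by
      by_contra h
      push Not at h
      have : b i ≤ -2 := by omega
      nlinarith only [h2, h4, h]
    omega
  set P := Finset.univ.filter fun i => b i = 1 with hP
  set Q := Finset.univ.filter fun i => b i = -1 with hQ
  have hPm : ∀ i, i ∈ P ↔ b i = 1 := fun i => by simp [hP]
  have hQm : ∀ i, i ∈ Q ↔ b i = -1 := fun i => by simp [hQ]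
  have hcard : 3 * P.card + Q.card = 5 := by
    have e : ∀ i, f i = 3 * (if i ∈ P then 1 else 0) + (if i ∈ Q then 1 else 0) := by
      intro i
      rw [hf]
      simp only [hPm, hQm]
      rcases h3 i with h | h | h <;> rw [h] <;> norm_num
    rw [Finset.sum_congr rfl fun i _ => e i, Finset.sum_add_distrib, ← Finset.mul_sum, Finset.sum_ite_mem,
      Finset.sum_ite_mem, Finset.univ_inter, Finset.univ_inter, Finset.sum_const, Finset.sum_const] at hS
    simp at hS
    exact_mod_cast hS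
  have hv0 : ∀ i, i ∉ P → i ∉ Q → (v : GolayPt → ℤ) i = 1 := by
    intro i h1 h2
    rw [hPm] at h1
    rw [hQm] at h2
    rw [hb i]
    rcases h3 i with h | h | h
    · rw [h]; norm_num
    · exact absurd h h1
    · exact absurd h h2
  have hv1 : ∀ i ∈ P, (v : GolayPt → ℤ) i = 5 := fun i hi => by rw [hb i, (hPm i).1 hi]; norm_num
  have hv2 : ∀ i ∈ Q, (v : GolayPt → ℤ) i = -3 := fun i hi => by rw [hb i, (hQm i).1 hi]; norm_num
  have hcase : (P.card = 1 ∧ Q.card = 2) ∨ (P.card = 0 ∧ Q.card = 5) := by omega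
  rcases hcase with ⟨hP1, hQ2⟩ | ⟨hP0, hQ5⟩
  · obtain ⟨p, hp⟩ := Finset.card_eq_one.1 hP1
    obtain ⟨q, r, hqr, hq⟩ := Finset.card_eq_two.1 hQ2
    have hpP : p ∈ P := by rw [hp]; simp
    have hqQ : q ∈ Q := by rw [hq]; simp
    have hrQ : r ∈ Q := by rw [hq]; simp
    have hdis : ∀ i ∈ P, i ∉ Q := by
      intro i h1 h2
      rw [hPm] at h1
      rw [hQm] at h2
      omega
    refine good_odd (p := p) (q := q) (r := r) (fun h => hdis p hpP (h ▸ hqQ)) (fun h => hdis p hpP (h ▸ hrQ)) hqr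
      (hv1 p hpP) (hv2 q hqQ) (hv2 r hrQ) (fun i h1 h2 h4 => hv0 i ?_ ?_)
    · rw [hp, Finset.mem_singleton]; exact h1
    · rw [hq]; simp [h2, h4]
  · have hPe : P = ∅ := Finset.card_eq_zero.1 hP0
    have hPn : ∀ i, i ∉ P := fun i => by rw [hPe]; simp
    obtain ⟨O, ⟨hO, hQO⟩, -⟩ := steiner.2 Q hQ5
    have hO8 : O.card = 8 := hO.2
    have hd3 : (O \ Q).card = 3 := by rw [Finset.card_sdiff_of_subset hQO, hO8, hQ5]
    obtain ⟨x, y, z, hxy, hxz, hyz, hxyz⟩ := Finset.card_eq_three.1 hd3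
    have hmem : ∀ i, i ∈ O \ Q ↔ i = x ∨ i = y ∨ i = z := fun i => by rw [hxyz]; simp
    have hx := Finset.mem_sdiff.1 ((hmem x).2 (Or.inl rfl))
    have hy := Finset.mem_sdiff.1 ((hmem y).2 (Or.inr (Or.inl rfl)))
    have hz := Finset.mem_sdiff.1 ((hmem z).2 (Or.inr (Or.inr rfl)))
    obtain ⟨s, -, hs'⟩ := exists_sign hO.1
    have hcoe : ∀ i : GolayPt, ((-(v - 2 • (s • lam x)) : leechLattice) : GolayPt → ℤ) i =
        2 * (if i ∈ O then -(lam x : GolayPt → ℤ) i else (lam x : GolayPt → ℤ) i) - (v : GolayPt → ℤ) i := by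
      intro i
      rw [two_smul, AddSubgroup.coe_neg, AddSubgroup.coe_sub, AddSubgroup.coe_add, Pi.neg_apply, Pi.sub_apply,
        Pi.add_apply, hs']
      ring
    have hcong : Cong v (-(v - 2 • (s • lam x))) := by
      refine Cong.trans ⟨s • lam x, ?_⟩ (Cong.symm (cong_neg (v - 2 • (s • lam x))))
      abel
    refine Good.of_cong hcong (good_odd (p := x) (q := y) (r := z) hxy hxz hyz ?_ ?_ ?_ fun i hix hiy hiz => ?_)
    · rw [hcoe, if_pos hx.1, lam_self, hv0 x (hPn x) hx.2]; norm_num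
    · rw [hcoe, if_pos hy.1, lam_ne (Ne.symm hxy), hv0 y (hPn y) hy.2]; norm_num
    · rw [hcoe, if_pos hz.1, lam_ne (Ne.symm hxz), hv0 z (hPn z) hz.2]; norm_num
    · rw [hcoe, lam_ne hix]
      by_cases hiO : i ∈ O
      · have hiQ : i ∈ Q := by
          by_contra h
          rcases (hmem i).1 (Finset.mem_sdiff.2 ⟨hiO, h⟩) with h | h | h
          · exact hix h
          · exact hiy h
          · exact hiz h
        rw [if_pos hiO, hv2 i hiQ]; norm_num
      · have hiQ : i ∉ Q := fun h => hiO (hQO h)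
        rw [if_neg hiO, hv0 i (hPn i) hiQ]; norm_num

/-- **All the vectors of norm `64` are good.** -/
theorem good_all (v : leechLattice) (hn : sqNorm (v : GolayPt → ℤ) = 64) : Good v := by
  rcases isLeech_zero_or_one v.2 with h | h
  · exact good_even h hn
  · obtain ⟨A, hA, a, ha, -⟩ := exists_form h (Or.inr rfl)
    obtain ⟨s, hs, hs'⟩ := exists_sign hA
    apply Good.of_smul hs
    refine good_one (b := fun i => if i ∈ A then -1 - a i else a i) (fun i => ?_) (by rw [sqNorm_smul, hn])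
    rw [hs', ha i]
    unfold chi
    by_cases hi : i ∈ A
    · simp only [if_pos hi]; ring
    · simp only [if_neg hi]; ring

end Cfsg.Agent.H995.Co1T
end

private theorem dce_abc783a91d65 : _root_.True := by
  try have : _root_.True := by simp only [_root_.Cfsg.Agent.H995.Co1T.invs.eq_1]
  try have : _root_.True := by simp only [_root_.Cfsg.Agent.H995.Co1T.perms.eq_1]
  exact _root_.True.intro
end
end
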